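import Groth.Agent.H29Fitt.FP
import Groth.Agent.H10Coh.Support
import Groth.Prelude.Def_RefHull

/-!
# Stalks of the sheaf Hom
-/

set_option autoImplicit false
set_option maxHeartbeats 400000

universe u

open CategoryTheory CategoryTheory.Limits AlgebraicGeometry Opposite TopologicalSpace

namespace Groth.Agent.H29Ref

variable {X : Scheme.{u}}

/-- Germs of a restricted section. -/
theorem germ_res (F : X.Modules) {U V : X.Opens} (h : V ≤ U) (x : X) (hx : x ∈ V) (s : Γ(F, U)) :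
    F.presheaf.germ V x hx (F.presheaf.map (homOfLE h).op s) = F.presheaf.germ U x (h hx) s :=
  TopCat.Presheaf.germ_res_apply F.presheaf (homOfLE h) x hx s

/-- Germs of a linear combination. -/
theorem germ_sum (F : X.Modules) {U : X.Opens} {I : Type*} (s : Finset I) (c : I → Γ(X, U))
    (m : I → Γ(F, U)) (x : X) (hx : x ∈ U) :
    F.presheaf.germ U x hx (∑ i ∈ s, c i • m i) =
      ∑ i ∈ s, X.presheaf.germ U x hx (c i) • F.presheaf.germ U x hx (m i) := by
  rw [map_sum]
  exact Finset.sum_congr rfl fun i _ => Mero.germ_smul F U x hx _ _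

/-- Finite type modules have sections near each point generating all nearby stalks. -/
theorem exists_span_germ (F : X.Modules) (hF : CohB1.IsFT F) (x : X) :
    ∃ (W : X.Opens) (_ : x ∈ W) (I : Type u) (_ : Fintype I) (m : I → Γ(F, W)),
      ∀ (y : X) (hy : y ∈ W), Submodule.span (X.presheaf.stalk y)
        (Set.range fun i => F.presheaf.germ W y hy (m i)) = ⊤ := by
  classical
  obtain ⟨W, hxW, G, hG⟩ := H10Coh.exists_generators_nhd F hF x
  have := Fintype.ofFinite G.I
  let π' : H10Coh.freeMod W.toScheme G.I ⟶ F.restrict W.ι := G.π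
  haveI : Epi π' := G.epi
  let e (i : G.I) : Γ(F.restrict W.ι, ⊤) :=
    π'.app ⊤ ((H10Coh.freeIncl G.I i).app ⊤ (H10Coh.oneSec ⊤))
  let m (i : G.I) : Γ(F, W.ι ''ᵁ ⊤) := e i
  have htop : W.ι ''ᵁ ⊤ = W := by
    rw [Scheme.Hom.image_top_eq_opensRange, Scheme.Opens.opensRange_ι]
  refine ⟨W.ι ''ᵁ ⊤, htop.ge hxW, G.I, inferInstance, m, fun y hy => ?_⟩
  rw [eq_top_iff]
  rintro v -
  obtain ⟨O, hyO, s, rfl⟩ := TopCat.Presheaf.exists_germ_eq F.presheaf v
  have hyW : y ∈ W := htop.le hy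
  have hle : W.ι ''ᵁ (W.ι ⁻¹ᵁ O) ≤ O := Scheme.Hom.image_preimage_le W.ι O
  obtain ⟨V', hV', hyV', z, hz⟩ := H10Coh.exists_nhds_lift_of_epi π' (W.ι ⁻¹ᵁ O)
    (F.presheaf.map (homOfLE hle).op s : Γ(F, W.ι ''ᵁ (W.ι ⁻¹ᵁ O))) ⟨y, hyW⟩ hyO
  have hyim : y ∈ W.ι ''ᵁ V' := ⟨⟨y, hyW⟩, hyV', rfl⟩
  have key : F.presheaf.germ (W.ι ''ᵁ V') y hyim (π'.app V' z) ∈
      Submodule.span (X.presheaf.stalk y) (Set.range fun i => F.presheaf.germ _ y hy (m i)) := by
    clear hz
    have hzs := H10Coh.free_sections_span G.I V' z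
    induction hzs using Submodule.span_induction with
    | mem a ha =>
      obtain ⟨i, rfl⟩ := ha
      refine Submodule.subset_span ⟨i, ?_⟩
      have h1 : H10Coh.oneSec V' = (Coh.structureModule W.toScheme).presheaf.map
          (homOfLE (le_top : V' ≤ ⊤)).op (H10Coh.oneSec ⊤) :=
        (map_one (W.toScheme.presheaf.map (homOfLE (le_top : V' ≤ ⊤)).op).hom).symm
      have hnat : π'.app V' ((H10Coh.freeIncl G.I i).app V' (H10Coh.oneSec V')) =
          (F.restrict W.ι).presheaf.map (homOfLE (le_top : V' ≤ ⊤)).op (e i) := by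
        rw [h1]
        exact congr($((H10Coh.freeIncl G.I i ≫ π').mapPresheaf.naturality
          (homOfLE (le_top : V' ≤ ⊤)).op) (H10Coh.oneSec ⊤))
      rw [hnat]
      exact (germ_res F (Scheme.Hom.image_mono W.ι (le_top : V' ≤ ⊤)) y hyim (m i)).symm
    | zero =>
      convert Submodule.zero_mem
        (Submodule.span (X.presheaf.stalk y) (Set.range fun i => F.presheaf.germ _ y hy (m i)))
      exact (congrArg _ (map_zero (π'.app V').hom)).trans (map_zero _)
    | add a b _ _ ha hb =>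
      convert add_mem ha hb
      exact (congrArg _ (map_add (π'.app V').hom a b)).trans (map_add _ _ _)
    | smul r a _ ha =>
      rw [Scheme.Modules.Hom.app_smul]
      have h2 : F.presheaf.germ (W.ι ''ᵁ V') y hyim (r • π'.app V' a) =
          X.presheaf.germ (W.ι ''ᵁ V') y hyim ((W.ι.appIso V').inv r) •
            F.presheaf.germ (W.ι ''ᵁ V') y hyim (π'.app V' a) :=
        Mero.germ_smul F (W.ι ''ᵁ V') y hyim _ _
      rw [h2]
      exact Submodule.smul_mem _ _ ha
  rw [hz] at key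
  have h3 := germ_res F ((Scheme.Hom.image_mono W.ι hV').trans hle) y hyim s
  refine h3 ▸ ?_
  convert key using 2
  exact (H10Coh.mres_mres F hle (Scheme.Hom.image_mono W.ι hV') s).symm

/-- Equal combinations of germs at a point spread out. -/
theorem exists_nhd_germ_eq_sum (F : X.Modules) {V W : X.Opens} (m : Γ(F, V)) {I : Type*}
    (g : I → Γ(F, W)) (x : X) (hxV : x ∈ V) (hxW : x ∈ W) (s : Finset I)
    (c : I → X.presheaf.stalk x)
    (h : F.presheaf.germ V x hxV m = ∑ i ∈ s, c i • F.presheaf.germ W x hxW (g i)) :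
    ∃ (O : X.Opens) (_ : x ∈ O) (hV : O ≤ V) (hW : O ≤ W) (d : I → Γ(X, O)),
      F.presheaf.map (homOfLE hV).op m = ∑ i ∈ s, d i • F.presheaf.map (homOfLE hW).op (g i) := by
  classical
  choose Oc hxc r hr using fun i => TopCat.Presheaf.exists_germ_eq X.presheaf (c i)
  let O₀ := (V ⊓ W) ⊓ s.inf Oc
  have hx₀ : x ∈ O₀ := ⟨⟨hxV, hxW⟩, H10Coh.finset_inf_mem _ _ fun i _ => hxc i⟩
  let d : I → Γ(X, O₀) := fun i => if hi : i ∈ s then
    X.presheaf.map (homOfLE (inf_le_right.trans (Finset.inf_le hi) : O₀ ≤ Oc i)).op (r i) else 0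
  have h0 : F.presheaf.germ O₀ x hx₀
      (F.presheaf.map (homOfLE (inf_le_left.trans inf_le_left : O₀ ≤ V)).op m) =
      F.presheaf.germ O₀ x hx₀
        (∑ i ∈ s, d i • F.presheaf.map (homOfLE (inf_le_left.trans inf_le_right : O₀ ≤ W)).op (g i)) := by
    rw [germ_res, germ_sum, h]
    refine Finset.sum_congr rfl fun i hi => ?_
    rw [germ_res, ← hr i]
    congr 1
    simp only [d, dif_pos hi]
    exact (TopCat.Presheaf.germ_res_apply X.presheaf _ x hx₀ (r i)).symm
  obtain ⟨O, hxO, i₁, i₂, heq⟩ := TopCat.Presheaf.germ_eq F.presheaf x hx₀ hx₀ _ _ h0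
  refine ⟨O, hxO, i₁.le.trans (inf_le_left.trans inf_le_left),
    i₁.le.trans (inf_le_left.trans inf_le_right), fun i => X.presheaf.map i₁.op (d i), ?_⟩
  rw [Subsingleton.elim i₂ i₁] at heq
  rw [← H10Coh.mres_mres F (inf_le_left.trans inf_le_left : O₀ ≤ V) i₁.le m]
  refine (show _ from heq).trans ?_
  rw [map_sum]
  refine Finset.sum_congr rfl fun i _ => ?_
  rw [← H10Coh.mres_mres F (inf_le_left.trans inf_le_right : O₀ ≤ W) i₁.le (g i)]
  exact Scheme.Modules.map_smul F _ _ _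

/-- A family of stalk maps sending generators to germs of sections is a section of the sheaf Hom. -/
theorem isLocSect_of_generators {F G : X.Modules} {U W : X.Opens} (hUW : U ≤ W) {I : Type*}
    (g : I → Γ(F, W))
    (hspan : ∀ (y : X) (hy : y ∈ U), Submodule.span (X.presheaf.stalk y)
      (Set.range fun i => F.presheaf.germ W y (hUW hy) (g i)) = ⊤)
    (f : ∀ y : U, RefHull.StalkHom F G y.1) (n : I → Γ(G, U))
    (hf : ∀ (i : I) (y : U),
      f y (F.presheaf.germ W y.1 (hUW y.2) (g i)) = G.presheaf.germ U y.1 y.2 (n i)) :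
    RefHull.IsLocSect F G f := by
  intro V iV m x
  have hxU : x.1 ∈ U := iV.le x.2
  obtain ⟨c, hc⟩ := Finsupp.mem_span_range_iff_exists_finsupp.mp
    ((hspan x.1 hxU).ge (Submodule.mem_top (x := F.presheaf.germ V x.1 x.2 m)))
  obtain ⟨O, hxO, hOV, hOW, d, hd⟩ :=
    exists_nhd_germ_eq_sum F m g x.1 x.2 (hUW hxU) c.support c hc.symm
  refine ⟨O, hxO, homOfLE hOV,
    ∑ i ∈ c.support, d i • G.presheaf.map (homOfLE (hOV.trans iV.le)).op (n i), fun y => ?_⟩
  rw [← germ_res F hOV y.1 y.2 m, hd, germ_sum, germ_sum, map_sum]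
  refine Finset.sum_congr rfl fun i _ => ?_
  rw [map_smul, germ_res, germ_res, hf i]

/-- For a module of finite type the evaluation at a point is injective. -/
theorem evalStalk_injective (F G : X.Modules) (hF : CohB1.IsFT F) (x : X) :
    Function.Injective (RefHull.evalStalk F G x) := by
  classical
  rw [injective_iff_map_eq_zero]
  intro θ hθ
  obtain ⟨U, hxU, f, rfl⟩ := TopCat.Presheaf.exists_germ_eq (RefHull.homSh F G).presheaf θ
  rw [RefHull.evalStalk_germ] at hθ
  obtain ⟨W, hxW, I, _, m, hm⟩ := exists_span_germ F hF x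
  have hO : ∀ i, ∃ O : X.Opens, x ∈ O ∧ ∀ (y : X) (hU : y ∈ U) (hW : y ∈ W), y ∈ O →
      f.1 ⟨y, hU⟩ (F.presheaf.germ W y hW (m i)) = 0 := fun i => by
    obtain ⟨O, hxO, j, n, hn⟩ := RefHull.isLocSect_of_mem f (U ⊓ W) (homOfLE inf_le_left)
      (F.presheaf.map (homOfLE (inf_le_right : U ⊓ W ≤ W)).op (m i)) ⟨x, hxU, hxW⟩
    have h0 := hn ⟨x, hxO⟩
    rw [hθ, LinearMap.zero_apply] at h0
    obtain ⟨O', hxO', i₁, i₂, h1⟩ :=
      TopCat.Presheaf.germ_eq G.presheaf x hxO hxO n 0 (by rw [map_zero]; exact h0.symm)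
    refine ⟨O', hxO', fun y hU hW hy => ?_⟩
    have h2 := hn ⟨y, i₁.le hy⟩
    rw [germ_res] at h2
    refine h2.trans ?_
    rw [← TopCat.Presheaf.germ_res_apply G.presheaf i₁ y hy n, h1, map_zero, map_zero]
  choose O hxO hOz using hO
  let U' := U ⊓ W ⊓ Finset.univ.inf O
  have hxU' : x ∈ U' := ⟨⟨hxU, hxW⟩, H10Coh.finset_inf_mem _ _ fun i _ => hxO i⟩
  rw [← germ_res (RefHull.homSh F G) (inf_le_left.trans inf_le_left : U' ≤ U) x hxU' f]
  convert map_zero ((RefHull.homSh F G).presheaf.germ U' x hxU').hom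
  refine Subtype.ext (funext fun y => ?_)
  show f.1 ⟨y.1, _⟩ = 0
  refine LinearMap.ext_on_range (hm y.1 y.2.1.2) fun i => ?_
  rw [LinearMap.zero_apply]
  exact hOz i y.1 y.2.1.1 y.2.1.2
    ((show Finset.univ.inf O ≤ O i from Finset.inf_le (Finset.mem_univ i)) y.2.2)

/-- An `A`-linear map on the sections of a quasi-coherent module over an affine open into a stalk
extends to the stalk. -/
theorem exists_stalk_lift {F : X.Modules} (G : X.Modules) (hF : Coh.IsQCoh F) {U : X.Opens}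
    (hU : IsAffineOpen U) (y : U) (ψ : Γ(F, U) →+ G.presheaf.stalk y.1)
    (hψ : ∀ (a : Γ(X, U)) (m : Γ(F, U)), ψ (a • m) = X.presheaf.germ U y.1 y.2 a • ψ m) :
    ∃ θ : RefHull.StalkHom F G y.1, ∀ m, θ (F.presheaf.germ U y.1 y.2 m) = ψ m := by
  let alg := TopCat.Presheaf.algebra_section_stalk X.presheaf y
  letI : Algebra Γ(X, U) (X.presheaf.stalk y.1) := alg
  letI := Module.compHom (F.presheaf.stalk y.1) (algebraMap Γ(X, U) (X.presheaf.stalk y.1))
  letI := Module.compHom (G.presheaf.stalk y.1) (algebraMap Γ(X, U) (X.presheaf.stalk y.1))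
  haveI := hU.isLocalization_stalk y
  haveI := H29Fitt.isLocalizedModule_germLin F hF hU y
  haveI : IsScalarTower Γ(X, U) (X.presheaf.stalk y.1) (F.presheaf.stalk y.1) :=
    IsScalarTower.of_algebraMap_smul fun _ _ => rfl
  haveI : IsScalarTower Γ(X, U) (X.presheaf.stalk y.1) (G.presheaf.stalk y.1) :=
    IsScalarTower.of_algebraMap_smul fun _ _ => rfl
  let ψl : Γ(F, U) →ₗ[Γ(X, U)] G.presheaf.stalk y.1 :=
    { toFun := ψ, map_add' := map_add ψ, map_smul' := hψ }
  have hu : ∀ s : (hU.primeIdealOf y).asIdeal.primeCompl,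
      IsUnit (algebraMap Γ(X, U) (Module.End Γ(X, U) (G.presheaf.stalk y.1)) s) := fun s => by
    have h := IsLocalization.map_units (X.presheaf.stalk y.1) s
    rw [Module.End.isUnit_iff]
    exact ⟨fun a b hab => h.smul_left_cancel.mp hab,
      fun v => ⟨(↑h.unit⁻¹ : X.presheaf.stalk y.1) • v, by
        change algebraMap Γ(X, U) (X.presheaf.stalk y.1) _ • (↑h.unit⁻¹ : X.presheaf.stalk y.1) • v = v
        rw [smul_smul, h.mul_val_inv, one_smul]⟩⟩
  let θ := IsLocalizedModule.lift (hU.primeIdealOf y).asIdeal.primeCompl (H29Fitt.germLin F y) ψl hu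
  refine ⟨θ.extendScalarsOfIsLocalization (hU.primeIdealOf y).asIdeal.primeCompl
    (X.presheaf.stalk y.1), fun m => ?_⟩
  exact IsLocalizedModule.lift_apply (hU.primeIdealOf y).asIdeal.primeCompl (H29Fitt.germLin F y) ψl hu m

/-- The germs of the sections over an affine open span the stalks of a quasi-coherent module. -/
theorem span_germ_affine (F : X.Modules) (hF : Coh.IsQCoh F) {U : X.Opens} (hU : IsAffineOpen U)
    {I : Type*} (g : I → Γ(F, U)) (hg : Submodule.span Γ(X, U) (Set.range g) = ⊤) (y : U) :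
    Submodule.span (X.presheaf.stalk y.1)
      (Set.range fun i => F.presheaf.germ U y.1 y.2 (g i)) = ⊤ := by
  rw [eq_top_iff]
  rintro v -
  obtain ⟨t, u, htv⟩ := H29Blow.exists_germ_eq_smul F hF hU y v
  rw [show v = (↑u⁻¹ : X.presheaf.stalk y.1) • F.presheaf.germ U y.1 y.2 t by
    rw [htv, smul_smul, Units.inv_mul, one_smul]]
  refine Submodule.smul_mem _ _ ?_
  clear htv
  have ht : t ∈ Submodule.span Γ(X, U) (Set.range g) := hg ▸ Submodule.mem_top
  induction ht using Submodule.span_induction with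
  | mem a ha => obtain ⟨i, rfl⟩ := ha; exact Submodule.subset_span ⟨i, rfl⟩
  | zero => rw [map_zero]; exact zero_mem _
  | add a b _ _ ha hb => rw [map_add]; exact add_mem ha hb
  | smul r a _ ha => rw [Mero.germ_smul]; exact Submodule.smul_mem _ _ ha

/-- For a finitely presented module the evaluation at a point is bijective. -/
theorem evalStalk_bijective (F G : X.Modules) (hF : CohB1.IsFP F) (x : X) :
    Function.Bijective (RefHull.evalStalk F G x) := by
  classical
  refine ⟨evalStalk_injective F G (H29Fitt.isFT_of_isFP F hF) x, fun θ => ?_⟩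
  have hFq := H29Fitt.isQCoh_of_isFP F hF
  obtain ⟨U₀, hU₀, hxU₀, -⟩ :=
    exists_isAffineOpen_mem_and_subset (X := X) (x := x) (U := ⊤) trivial
  obtain ⟨t, hxt, hfp⟩ := H29Fitt.exists_basicOpen_finitePresentation F hF hU₀ ⟨x, hxU₀⟩
  obtain ⟨U, hU, hxU, hfpU⟩ : ∃ U : X.Opens, IsAffineOpen U ∧ x ∈ U ∧
      Module.FinitePresentation Γ(X, U) Γ(F, U) := ⟨_, hU₀.basicOpen t, hxt, hfp⟩
  obtain ⟨n, π, hπ⟩ := Module.Finite.exists_fin' Γ(X, U) Γ(F, U)
  obtain ⟨R, hR⟩ := Module.FinitePresentation.fg_ker π hπ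
  have hπsum : ∀ c : Fin n → Γ(X, U), π c = ∑ i, c i • π (Pi.single i 1) := fun c => by
    conv_lhs => rw [show c = ∑ i, c i • Pi.single (M := fun _ => Γ(X, U)) i 1 from
      pi_eq_sum_univ' c]
    simp only [map_sum, map_smul]
  let m : Fin n → Γ(F, U) := fun i => π (Pi.single i 1)
  choose V hxV s hs using fun i =>
    TopCat.Presheaf.exists_germ_eq G.presheaf (θ (F.presheaf.germ U x hxU (m i)))
  let W₁ := U ⊓ Finset.univ.inf V
  have hxW₁ : x ∈ W₁ := ⟨hxU, H10Coh.finset_inf_mem _ _ fun i _ => hxV i⟩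
  let n₁ : Fin n → Γ(G, W₁) := fun i =>
    G.presheaf.map (homOfLE (inf_le_right.trans (Finset.inf_le (Finset.mem_univ i)))).op (s i)
  have hn₁ : ∀ i, G.presheaf.germ W₁ x hxW₁ (n₁ i) = θ (F.presheaf.germ U x hxU (m i)) := fun i =>
    (germ_res G _ x hxW₁ (s i)).trans (hs i)
  have hrel : ∀ r ∈ R, ∃ O : X.Opens, x ∈ O ∧ ∀ (y : X) (hy : y ∈ W₁), y ∈ O →
      ∑ i, X.presheaf.germ U y hy.1 (r i) • G.presheaf.germ W₁ y hy (n₁ i) = 0 := fun r hr => by
    let e : Γ(G, W₁) :=
      ∑ i, X.presheaf.map (homOfLE (inf_le_left : W₁ ≤ U)).op (r i) • n₁ i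
    have he : ∀ (y : X) (hy : y ∈ W₁), G.presheaf.germ W₁ y hy e =
        ∑ i, X.presheaf.germ U y hy.1 (r i) • G.presheaf.germ W₁ y hy (n₁ i) := fun y hy => by
      rw [germ_sum]
      refine Finset.sum_congr rfl fun i _ => ?_
      rw [TopCat.Presheaf.germ_res_apply]
    have h0 : G.presheaf.germ W₁ x hxW₁ e = 0 := by
      rw [he]
      simp only [hn₁, ← map_smul, ← map_sum, ← Mero.germ_smul]
      have : π r = 0 := (hR ▸ Submodule.subset_span hr : r ∈ LinearMap.ker π)
      rw [← hπsum, this, map_zero, map_zero]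
    obtain ⟨O, hxO, i₁, i₂, h1⟩ :=
      TopCat.Presheaf.germ_eq G.presheaf x hxW₁ hxW₁ e 0 (h0.trans (map_zero _).symm)
    refine ⟨O, hxO, fun y hy hyO => ?_⟩
    rw [← he, ← TopCat.Presheaf.germ_res_apply G.presheaf i₁ y hyO e, h1, map_zero, map_zero]
  choose! O hxO hO using hrel
  let W := W₁ ⊓ R.inf O
  have hxW : x ∈ W := ⟨hxW₁, H10Coh.finset_inf_mem _ _ fun r hr => hxO r hr⟩
  have hex : ∀ y : W, ∃ θy : RefHull.StalkHom F G y.1, ∀ i,
      θy (F.presheaf.germ U y.1 y.2.1.1 (m i)) = G.presheaf.germ W₁ y.1 y.2.1 (n₁ i) := by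
    rintro ⟨y, hy⟩
    let L : (Fin n → Γ(X, U)) →+ G.presheaf.stalk y :=
      AddMonoidHom.mk' (fun c => ∑ i, X.presheaf.germ U y hy.1.1 (c i) •
        G.presheaf.germ W₁ y hy.1 (n₁ i)) fun a b => by
          simp only [Pi.add_apply, map_add, add_smul, Finset.sum_add_distrib]
    have hLsmul : ∀ (a : Γ(X, U)) (c : Fin n → Γ(X, U)),
        L (a • c) = X.presheaf.germ U y hy.1.1 a • L c := fun a c => by
      show ∑ i : Fin n, X.presheaf.germ U y hy.1.1 ((a • c) i) • G.presheaf.germ W₁ y hy.1 (n₁ i) =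
        X.presheaf.germ U y hy.1.1 a •
          ∑ i : Fin n, X.presheaf.germ U y hy.1.1 (c i) • G.presheaf.germ W₁ y hy.1 (n₁ i)
      rw [Finset.smul_sum]
      refine Finset.sum_congr rfl fun i _ => ?_
      rw [Pi.smul_apply, smul_eq_mul, map_mul, smul_smul]
    have hker : ∀ c, π c = 0 → L c = 0 := by
      intro c hc
      have hc' : c ∈ Submodule.span Γ(X, U) (R : Set (Fin n → Γ(X, U))) := hR.symm ▸ hc
      induction hc' using Submodule.span_induction with
      | mem r hr => exact hO r hr y hy.1 ((show R.inf O ≤ O r from Finset.inf_le hr) hy.2)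
      | zero => exact map_zero L
      | add a b ha hb iha ihb =>
        rw [map_add, iha (hR ▸ ha : a ∈ LinearMap.ker π), ihb (hR ▸ hb : b ∈ LinearMap.ker π),
          add_zero]
      | smul a b hb ih =>
        rw [hLsmul, ih (hR ▸ hb : b ∈ LinearMap.ker π), smul_zero]
    choose sec hsec using hπ
    have hwd : ∀ c, L (sec (π c)) = L c := fun c => by
      have := hker (sec (π c) - c) (by rw [map_sub, hsec, sub_self])
      rwa [map_sub, sub_eq_zero] at this
    let ψ : Γ(F, U) →+ G.presheaf.stalk y := AddMonoidHom.mk' (fun a => L (sec a)) fun a b => by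
      have := hwd (sec a + sec b)
      rwa [map_add, hsec, hsec, map_add] at this
    obtain ⟨θy, hθy⟩ := exists_stalk_lift G hFq hU ⟨y, hy.1.1⟩ ψ fun a b => by
      have := hwd (a • sec b)
      rw [map_smul, hsec, hLsmul] at this
      exact this
    refine ⟨θy, fun i => (hθy (m i)).trans ((hwd (Pi.single i 1)).trans ?_)⟩
    show ∑ j : Fin n, X.presheaf.germ U y hy.1.1 (Pi.single (M := fun _ => Γ(X, U)) i 1 j) •
      G.presheaf.germ W₁ y hy.1 (n₁ j) = G.presheaf.germ W₁ y hy.1 (n₁ i)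
    rw [Finset.sum_eq_single i (fun j _ hj => by
      rw [Pi.single_eq_of_ne hj, map_zero, zero_smul]) (fun h => absurd (Finset.mem_univ i) h),
      Pi.single_eq_same, map_one, one_smul]
  choose θf hθf using hex
  have hspanU : Submodule.span Γ(X, U) (Set.range m) = ⊤ := by
    rw [eq_top_iff]
    intro a _
    obtain ⟨c, rfl⟩ := hπ a
    rw [hπsum]
    exact Submodule.sum_mem _ fun i _ => Submodule.smul_mem _ _ (Submodule.subset_span ⟨i, rfl⟩)
  have hloc : RefHull.IsLocSect F G θf := isLocSect_of_generators (W := U)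
    (inf_le_left.trans inf_le_left) m (fun y hy => span_germ_affine F hFq hU m hspanU ⟨y, hy.1.1⟩)
    θf (fun i => G.presheaf.map (homOfLE (inf_le_left : W ≤ W₁)).op (n₁ i)) fun i y => by
      rw [hθf y i]
      exact (germ_res G (inf_le_left : W ≤ W₁) y.1 y.2 (n₁ i)).symm
  refine ⟨(RefHull.homSh F G).presheaf.germ W x hxW (⟨θf, hloc⟩ : Γ(RefHull.homSh F G, W)), ?_⟩
  refine (RefHull.evalStalk_germ F G x hxW _).trans ?_
  show θf ⟨x, hxW⟩ = θ
  refine LinearMap.ext_on_range (span_germ_affine F hFq hU m hspanU ⟨x, hxU⟩) fun i => ?_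
  rw [hθf ⟨x, hxW⟩ i, hn₁]

end Groth.Agent.H29Ref
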