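import Groth.Agent.H29Ref.EvalStalk
import Groth.Agent.H11Tilde.QCohCrit

/-!
# Sections of the sheaf Hom over affine opens; quasi-coherence
-/

set_option autoImplicit false
set_option maxHeartbeats 400000

universe u

open CategoryTheory CategoryTheory.Limits AlgebraicGeometry Opposite TopologicalSpace

namespace Groth.Agent.H29Ref

variable {X : Scheme.{u}}

/-- Sections with equal germs are equal. -/
theorem sec_ext (F : X.Modules) {U : X.Opens} {s t : Γ(F, U)}
    (h : ∀ (y : X) (hy : y ∈ U), F.presheaf.germ U y hy s = F.presheaf.germ U y hy t) : s = t :=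
  TopCat.Presheaf.section_ext (H10Coh.sh F) U s t h

/-- Two sections of the sheaf Hom agreeing on the germs of spanning sections are equal. -/
theorem homSh_ext {F G : X.Modules} {U W : X.Opens} (hUW : U ≤ W) {I : Type*} (g : I → Γ(F, W))
    (hspan : ∀ (y : X) (hy : y ∈ U), Submodule.span (X.presheaf.stalk y)
      (Set.range fun i => F.presheaf.germ W y (hUW hy) (g i)) = ⊤)
    {f f' : Γ(RefHull.homSh F G, U)}
    (h : ∀ (i : I) (y : U), f.1 y (F.presheaf.germ W y.1 (hUW y.2) (g i)) =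
      f'.1 y (F.presheaf.germ W y.1 (hUW y.2) (g i))) : f = f' :=
  Subtype.ext (funext fun y => LinearMap.ext_on_range (hspan y.1 y.2) fun i => h i y)

/-- Applying a section of the sheaf Hom to a section. -/
theorem exists_eval {F G : X.Modules} {U : X.Opens} (f : Γ(RefHull.homSh F G, U)) (m : Γ(F, U)) :
    ∃! n : Γ(G, U), ∀ y : U,
      G.presheaf.germ U y.1 y.2 n = f.1 y (F.presheaf.germ U y.1 y.2 m) := by
  choose W hxW j n hn using fun x : U => RefHull.isLocSect_of_mem f U (𝟙 U) m x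
  have hcompat : TopCat.Presheaf.IsCompatible (H10Coh.sh G).obj W n := fun a b => by
    refine sec_ext G fun y hy => ?_
    refine (germ_res G (inf_le_left : W a ⊓ W b ≤ W a) y hy (n a)).trans ?_
    refine Eq.trans ?_ (germ_res G (inf_le_right : W a ⊓ W b ≤ W b) y hy (n b)).symm
    exact (hn a ⟨y, hy.1⟩).symm.trans (hn b ⟨y, hy.2⟩)
  obtain ⟨s, hs, -⟩ := TopCat.Sheaf.existsUnique_gluing' (H10Coh.sh G) W U j
    (fun y hy => TopologicalSpace.Opens.mem_iSup.2 ⟨⟨y, hy⟩, hxW ⟨y, hy⟩⟩) n hcompat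
  have hs' : ∀ y : U, G.presheaf.germ U y.1 y.2 s = f.1 y (F.presheaf.germ U y.1 y.2 m) := fun y => by
    refine (TopCat.Presheaf.germ_res_apply G.presheaf (j y) y.1 (hxW y) s).symm.trans ?_
    refine (congrArg _ (hs y)).trans ?_
    exact (hn y ⟨y.1, hxW y⟩).symm
  exact ⟨s, hs', fun t ht => sec_ext G fun y hy => (ht ⟨y, hy⟩).trans (hs' ⟨y, hy⟩).symm⟩

/-- The linear map on sections defined by a section of the sheaf Hom. -/
noncomputable def toLin {F G : X.Modules} {U : X.Opens} (f : Γ(RefHull.homSh F G, U)) :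
    Γ(F, U) →ₗ[Γ(X, U)] Γ(G, U) where
  toFun m := (exists_eval f m).choose
  map_add' m m' := by
    refine sec_ext G fun y hy => ?_
    rw [(exists_eval f (m + m')).choose_spec.1 ⟨y, hy⟩, map_add, map_add, map_add,
      (exists_eval f m).choose_spec.1 ⟨y, hy⟩, (exists_eval f m').choose_spec.1 ⟨y, hy⟩]
  map_smul' r m := by
    refine sec_ext G fun y hy => ?_
    rw [(exists_eval f (r • m)).choose_spec.1 ⟨y, hy⟩, RingHom.id_apply, Mero.germ_smul,
      Mero.germ_smul, map_smul, (exists_eval f m).choose_spec.1 ⟨y, hy⟩]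

theorem germ_toLin {F G : X.Modules} {U : X.Opens} (f : Γ(RefHull.homSh F G, U)) (m : Γ(F, U))
    (y : U) :
    G.presheaf.germ U y.1 y.2 (toLin f m) = f.1 y (F.presheaf.germ U y.1 y.2 m) :=
  (exists_eval f m).choose_spec.1 y

/-- `toLin` is linear. -/
noncomputable def toLinₗ (F G : X.Modules) (U : X.Opens) :
    Γ(RefHull.homSh F G, U) →ₗ[Γ(X, U)] (Γ(F, U) →ₗ[Γ(X, U)] Γ(G, U)) where
  toFun := toLin
  map_add' f f' := LinearMap.ext fun m => sec_ext G fun y hy => by
    rw [LinearMap.add_apply, map_add, germ_toLin (f + f') m ⟨y, hy⟩, germ_toLin f m ⟨y, hy⟩,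
      germ_toLin f' m ⟨y, hy⟩]
    rfl
  map_smul' r f := LinearMap.ext fun m => sec_ext G fun y hy => by
    rw [RingHom.id_apply, LinearMap.smul_apply, Mero.germ_smul, germ_toLin (r • f) m ⟨y, hy⟩,
      germ_toLin f m ⟨y, hy⟩]
    rfl

theorem span_germ_all (F : X.Modules) (hF : Coh.IsQCoh F) {U : X.Opens} (hU : IsAffineOpen U)
    {V : X.Opens} (hVU : V ≤ U) (y : X) (hy : y ∈ V) :
    Submodule.span (X.presheaf.stalk y)
      (Set.range fun m : Γ(F, U) => F.presheaf.germ U y (hVU hy) m) = ⊤ :=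
  span_germ_affine F hF hU id (by rw [Set.range_id, Submodule.span_univ]) ⟨y, hVU hy⟩

/-- Over an affine open, sections of the sheaf Hom out of a quasi-coherent module are the linear
maps on sections. -/
theorem bijective_toLinₗ (F G : X.Modules) (hF : Coh.IsQCoh F) {U : X.Opens} (hU : IsAffineOpen U) :
    Function.Bijective (toLinₗ F G U) := by
  refine ⟨fun f f' h => ?_, fun ψ => ?_⟩
  · refine homSh_ext le_rfl id (span_germ_all F hF hU le_rfl) fun m y => ?_
    show f.1 y (F.presheaf.germ U y.1 y.2 m) = f'.1 y (F.presheaf.germ U y.1 y.2 m)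
    rw [← germ_toLin, ← germ_toLin]
    exact congrArg _ (LinearMap.congr_fun h m)
  · have hθ : ∀ y : U, ∃ θ : RefHull.StalkHom F G y.1, ∀ m,
        θ (F.presheaf.germ U y.1 y.2 m) = G.presheaf.germ U y.1 y.2 (ψ m) := fun y =>
      exists_stalk_lift G hF hU y
        ((G.presheaf.germ U y.1 y.2).hom.comp ψ.toAddMonoidHom) fun a m => by
          show G.presheaf.germ U y.1 y.2 (ψ (a • m)) = _
          rw [map_smul, Mero.germ_smul]
          rfl
    choose θ hθ using hθ
    have hloc : RefHull.IsLocSect F G θ := isLocSect_of_generators le_rfl (id : Γ(F, U) → Γ(F, U))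
      (span_germ_all F hF hU le_rfl) θ (fun m => ψ m) fun m y => hθ y m
    refine ⟨(⟨θ, hloc⟩ : Γ(RefHull.homSh F G, U)), LinearMap.ext fun m => sec_ext G fun y hy => ?_⟩
    exact (germ_toLin (⟨θ, hloc⟩ : Γ(RefHull.homSh F G, U)) m ⟨y, hy⟩).trans (hθ ⟨y, hy⟩ m)

/-- The restriction of a section of the sheaf Hom. -/
theorem res_apply {F G : X.Modules} {U V : X.Opens} (h : V ≤ U) (f : Γ(RefHull.homSh F G, U))
    (y : V) : ((RefHull.homSh F G).presheaf.map (homOfLE h).op f).1 y = f.1 ⟨y.1, h y.2⟩ := rfl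

/-- The sheaf Hom out of a finitely presented module into a quasi-coherent one is quasi-coherent. -/
theorem isQCoh_homSh (F G : X.Modules) (hF : CohB1.IsFP F) (hG : Coh.IsQCoh G) :
    Coh.IsQCoh (RefHull.homSh F G) := by
  classical
  have hFq := H29Fitt.isQCoh_of_isFP F hF
  have hcov : ∀ x : X, ∃ U : X.Opens, IsAffineOpen U ∧ x ∈ U ∧
      Module.FinitePresentation Γ(X, U) Γ(F, U) := fun x => by
    obtain ⟨U₀, hU₀, hxU₀, -⟩ :=
      exists_isAffineOpen_mem_and_subset (X := X) (x := x) (U := ⊤) trivial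
    obtain ⟨t, hxt, hfp⟩ := H29Fitt.exists_basicOpen_finitePresentation F hF hU₀ ⟨x, hxU₀⟩
    exact ⟨_, hU₀.basicOpen t, hxt, hfp⟩
  choose U hU hxU hfp using hcov
  refine H11Tilde.isQuasicoherent_of_basicOpen_localization (RefHull.homSh F G) U
    (IsOpenCover.mk (eq_top_iff.mpr fun x _ => Opens.mem_iSup.mpr ⟨x, hxU x⟩)) hU ?_ ?_
  · intro i r f hf
    obtain ⟨s, hs⟩ := Module.Finite.fg_top (R := Γ(X, U i)) (M := Γ(F, U i))
    have hk : ∀ m : Γ(F, U i), ∃ k : ℕ, r ^ k • toLin f m = 0 := fun m => by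
      refine H29Blow.exists_pow_smul_eq_zero G hG (hU i) r _ (sec_ext G fun y hy => ?_)
      rw [map_zero, germ_res, germ_toLin f m ⟨y, X.basicOpen_le r hy⟩]
      have h0 := congrArg (fun g : Γ(RefHull.homSh F G, X.basicOpen r) => g.1 ⟨y, hy⟩) hf
      rw [show f.1 ⟨y, X.basicOpen_le r hy⟩ = 0 from h0, LinearMap.zero_apply]
    choose k hk using hk
    refine ⟨s.sup k, (bijective_toLinₗ F G hFq (hU i)).1 ?_⟩
    rw [map_smul, map_zero]
    refine LinearMap.ext_on hs fun m hm => ?_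
    rw [LinearMap.smul_apply, LinearMap.zero_apply]
    obtain ⟨d, hd⟩ := Nat.le.dest (Finset.le_sup (f := k) hm)
    rw [← hd, add_comm, pow_add, mul_smul]
    show r ^ d • r ^ k m • toLin f m = 0
    rw [hk, smul_zero]
  · intro i r g
    let ρ := X.presheaf.map (homOfLE (X.basicOpen_le r)).op
    letI := Module.compHom Γ(G, X.basicOpen r) (algebraMap Γ(X, U i) Γ(X, X.basicOpen r))
    letI := Module.compHom Γ(F, X.basicOpen r) (algebraMap Γ(X, U i) Γ(X, X.basicOpen r))
    haveI := H29Fitt.isLocalizedModule_resLin G hG (hU i) r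
    haveI := hfp i
    let φ : Γ(F, U i) →ₗ[Γ(X, U i)] Γ(G, X.basicOpen r) :=
      { toFun := fun m => toLin g (H29Fitt.resLin F r m)
        map_add' := fun a b => by rw [map_add, map_add]
        map_smul' := fun a m => by
          rw [map_smul (H29Fitt.resLin F r), RingHom.id_apply]
          exact map_smul (toLin g) (algebraMap Γ(X, U i) Γ(X, X.basicOpen r) a) _ }
    obtain ⟨ψ, ⟨_, n, rfl⟩, hψ⟩ := Module.FinitePresentation.exists_lift_of_isLocalizedModule
      (Submonoid.powers r) (H29Fitt.resLin G r) φ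
    obtain ⟨f, hf⟩ := (bijective_toLinₗ F G hFq (hU i)).2 ψ
    refine ⟨n, f, homSh_ext (X.basicOpen_le r) (id : Γ(F, U i) → Γ(F, U i))
      (span_germ_all F hFq (hU i) (X.basicOpen_le r)) fun m y => ?_⟩
    show f.1 ⟨y.1, X.basicOpen_le r y.2⟩ (F.presheaf.germ (U i) y.1 (X.basicOpen_le r y.2) m) =
      X.presheaf.germ (X.basicOpen r) y.1 y.2 (ρ (r ^ n)) •
        g.1 y (F.presheaf.germ (U i) y.1 (X.basicOpen_le r y.2) m)
    rw [← germ_toLin f m ⟨y.1, X.basicOpen_le r y.2⟩, ← germ_res F (X.basicOpen_le r) y.1 y.2 m,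
      ← germ_toLin g _ y, ← Mero.germ_smul, ← germ_res G (X.basicOpen_le r) y.1 y.2]
    refine congrArg _ ?_
    have h1 := LinearMap.congr_fun hψ m
    rw [show ψ = toLinₗ F G (U i) f from hf.symm] at h1
    exact h1

/-- The sheaf Hom of coherent modules on a locally Noetherian scheme is coherent. -/
theorem isCoh_homSh [IsLocallyNoetherian X] (F G : X.Modules) (hF : Coh.IsCoh F) (hG : Coh.IsCoh G) :
    Coh.IsCoh (RefHull.homSh F G) := by
  refine (H10Coh.isCoh_iff_finite_sections _).2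
    ⟨isQCoh_homSh F G (H10Coh.isFP_of_isCoh F hF) hG.1, fun U hU => ?_⟩
  haveI := IsLocallyNoetherian.component_noetherian (X := X) ⟨U, hU⟩
  haveI := ((H10Coh.isCoh_iff_finite_sections F).1 hF).2 U hU
  haveI := ((H10Coh.isCoh_iff_finite_sections G).1 hG).2 U hU
  exact Module.Finite.of_injective (toLinₗ F G U) (bijective_toLinₗ F G hF.1 hU).1

end Groth.Agent.H29Ref
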