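import Groth.Agent.H29Ref.Rational

/-!
# The generic stalk of a coherent module
-/

set_option autoImplicit false
set_option maxHeartbeats 400000

universe u

open CategoryTheory CategoryTheory.Limits AlgebraicGeometry Opposite TopologicalSpace

namespace Groth.Agent.H29Ref

variable {X : Scheme.{u}}

/-- Stalks of finite type modules are finite. -/
theorem finite_stalk (F : X.Modules) (hF : CohB1.IsFT F) (x : X) :
    Module.Finite (X.presheaf.stalk x) (F.presheaf.stalk x) := by
  obtain ⟨W, hxW, I, _, m, hm⟩ := exists_span_germ F hF x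
  exact ⟨⟨(Set.finite_range fun i => F.presheaf.germ W x hxW (m i)).toFinset, by
    rw [Set.Finite.coe_toFinset]; exact hm x hxW⟩⟩

/-- The local ring at the generic point is a field. -/
theorem isField_generic [IsIntegral X] : IsField (X.presheaf.stalk (genericPoint X)) :=
  Field.toIsField X.functionField

/-- Coherent modules are reflexive at the generic point. -/
theorem isReflexiveAt_generic [IsIntegral X] [IsLocallyNoetherian X] (F : X.Modules)
    (hF : Coh.IsCoh F) : RefHull.IsReflexiveAt F (genericPoint X) := by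
  haveI := finite_stalk F hF.2 (genericPoint X)
  letI := (isField_generic (X := X)).toField
  exact (inferInstance : Module.IsReflexive (X.presheaf.stalk (genericPoint X))
    (F.presheaf.stalk (genericPoint X)))

/-- The biduality map of a coherent module is bijective at the generic point. -/
theorem bijective_bidual_generic [IsIntegral X] [IsLocallyNoetherian X] (F : X.Modules)
    (hF : Coh.IsCoh F) :
    Function.Bijective (RefHull.stalkMapₗ (RefHull.bidualMap F) (genericPoint X)) :=
  (isReflexiveAt_iff F (H10Coh.isFP_of_isCoh F hF) (isFP_dual F hF) _).mp (isReflexiveAt_generic F hF)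

/-- Cyclic stalks of a restriction are cyclic stalks. -/
theorem exists_generator_of_restrict {Z : Scheme.{u}} (j : Z ⟶ X) [IsOpenImmersion j]
    (M : X.Modules) (z : Z)
    (h : ∃ t : (M.restrict j).presheaf.stalk z, ∀ v, ∃ a : Z.presheaf.stalk z, a • t = v) :
    ∃ t : M.presheaf.stalk (j z), ∀ v, ∃ a : X.presheaf.stalk (j z), a • t = v := by
  classical
  obtain ⟨t, ht⟩ := h
  obtain ⟨V, hzV, g, rfl⟩ := TopCat.Presheaf.exists_germ_eq (M.restrict j).presheaf t
  have hzV' : j z ∈ j ''ᵁ V := ⟨z, hzV, rfl⟩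
  refine ⟨M.presheaf.germ (j ''ᵁ V) (j z) hzV' g, fun v => ?_⟩
  obtain ⟨O', hzO, m, rfl⟩ := TopCat.Presheaf.exists_germ_eq M.presheaf v
  let O := j ⁻¹ᵁ O'
  have hle : j ''ᵁ O ≤ O' := Scheme.Hom.image_preimage_le j O'
  let s : Γ(M.restrict j, O) := M.presheaf.map (homOfLE hle).op m
  obtain ⟨a, ha⟩ := ht ((M.restrict j).presheaf.germ O z hzO s)
  obtain ⟨W, hzW, hWO, hWV, d, hd⟩ := exists_nhd_germ_eq_sum (M.restrict j) s (fun _ : Unit => g) z
    hzO hzV {()} (fun _ => a) (by rw [Finset.sum_singleton]; exact ha.symm)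
  rw [Finset.sum_singleton] at hd
  have hzW' : j z ∈ j ''ᵁ W := ⟨z, hzW, rfl⟩
  refine ⟨X.presheaf.germ (j ''ᵁ W) (j z) hzW' ((j.appIso W).inv (d ())), ?_⟩
  have h1 := congrArg (fun q : Γ(M.restrict j, W) => M.presheaf.germ (j ''ᵁ W) (j z) hzW' q) hd
  have h2 : M.presheaf.germ (j ''ᵁ W) (j z) hzW' ((M.restrict j).presheaf.map (homOfLE hWO).op s) =
      M.presheaf.germ O' (j z) hzO m :=
    (germ_res M (Scheme.Hom.image_mono j hWO) (j z) hzW' s).trans (germ_res M hle (j z) _ m)
  refine (h2.symm.trans (h1.trans ?_)).symm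
  refine (Mero.germ_smul M (j ''ᵁ W) (j z) hzW' ((j.appIso W).inv (d ()))
    ((M.restrict j).presheaf.map (homOfLE hWV).op g)).trans ?_
  exact congrArg (_ • ·) (germ_res M (Scheme.Hom.image_mono j hWV) (j z) hzW' g)

/-- A rank one module has cyclic generic stalk. -/
theorem exists_generator_generic [IsIntegral X] (M : X.Modules) (hM : RefHull.GenInvertible M) :
    ∃ t : M.presheaf.stalk (genericPoint X), ∀ v, ∃ a : X.presheaf.stalk (genericPoint X), a • t = v := by
  obtain ⟨U, hUd, hU⟩ := hM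
  obtain ⟨x, hxU⟩ := hUd.nonempty
  have hη : genericPoint X ∈ U := genericPoint_mem hxU
  obtain ⟨W, hηW, ⟨e⟩⟩ := hU ⟨_, hη⟩
  have h2 : ∃ t : ((M.restrict U.ι).restrict W.ι).presheaf.stalk ⟨⟨_, hη⟩, hηW⟩,
      ∀ v, ∃ a : (W : Scheme.{u}).presheaf.stalk ⟨⟨_, hη⟩, hηW⟩, a • t = v := by
    refine ⟨RefHull.stalkMapₗ e.inv _ (oneStalk _), fun v => ?_⟩
    obtain ⟨w, rfl⟩ := ((isIso_iff_bijective_stalk e.inv).mp inferInstance _).2 v
    obtain ⟨a, rfl⟩ := (bijective_smul_oneStalk _).2 w
    exact ⟨a, (map_smul _ a _).symm⟩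
  exact exists_generator_of_restrict U.ι M ⟨_, hη⟩ (exists_generator_of_restrict W.ι _ ⟨⟨_, hη⟩, hηW⟩ h2)

end Groth.Agent.H29Ref
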