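import Groth.Agent.H29Ref.Ops
import Groth.Prelude.Def_Pic

/-!
# The divisor of a rank one reflexive module
-/

set_option autoImplicit false
set_option maxHeartbeats 400000

universe u

open CategoryTheory CategoryTheory.Limits AlgebraicGeometry Opposite TopologicalSpace

namespace Groth.Agent.H29Ref

open H8Props.FunDescent (StalkFree)

variable {X : Scheme.{u}}

/-- Equal classes are isomorphic modules. -/
theorem nonempty_iso_of_cl_eq {F G : X.Modules} (h : PicF.cl F = PicF.cl G) : Nonempty (F ≅ G) := by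
  have he : Equivalence (fun L L' : X.Modules => Nonempty (L ≅ L')) :=
    ⟨fun L => ⟨Iso.refl L⟩, fun ⟨e⟩ => ⟨e.symm⟩, fun ⟨e⟩ ⟨e'⟩ => ⟨e ≪≫ e'⟩⟩
  exact he.eqvGen_iff.mp (Quot.eqvGen_exact h)

variable [IsIntegral X] [IsLocallyNoetherian X]

/-- `F` has a rational section whose divisor is `D` in codimension one. -/
def HasOrd (F : X.Modules) (D : X → ℤ) : Prop :=
  ∃ v : F.presheaf.stalk (genericPoint X), v ≠ 0 ∧ ∀ x, Order.coheight x = 1 → secO F x v = D x

theorem exists_hasOrd {F : X.Modules} (hF : RefHull.IsRef1 F) : ∃ D, HasOrd F D := by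
  obtain ⟨b⟩ := stalkFree_generic F hF.1 hF.2.2
  exact ⟨fun x => secO F x (b 0), b 0, b.ne_zero 0, fun _ _ => rfl⟩

theorem isRef1_structureModule : RefHull.IsRef1 (Coh.structureModule X) := by
  have hc := H10Coh.isCoh_structureModule' X
  refine ⟨hc, (isReflexive_iff _ hc).mpr fun x => Module.equiv (unitEquiv x),
    genInvertible_of_stalkFree _ hc ⟨(Module.Basis.singleton (Fin 1) _).map (unitEquiv _)⟩⟩

omit [IsLocallyNoetherian X] in
theorem sp_oneStalk (x : X) : sp (Coh.structureModule X) x (oneStalk x) = oneStalk (genericPoint X) := by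
  rw [oneStalk, sp_germ]
  rfl

omit [IsLocallyNoetherian X] in
theorem oneStalk_ne_zero (x : X) : oneStalk (X := X) x ≠ 0 := fun h =>
  one_ne_zero ((bijective_smul_oneStalk x).1 (show (1 : X.presheaf.stalk x) • oneStalk x =
    (0 : X.presheaf.stalk x) • oneStalk x by rw [one_smul, zero_smul, h]))

theorem hasOrd_structureModule : HasOrd (Coh.structureModule X) 0 := by
  refine ⟨oneStalk _, oneStalk_ne_zero _, fun x hx => ?_⟩
  have hη : StalkFree (Coh.structureModule X) 1 (genericPoint X) :=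
    ⟨(Module.Basis.singleton (Fin 1) _).map (unitEquiv _)⟩
  have hg : IsStalkGen (Coh.structureModule X) x (oneStalk x) := by
    refine IsStalkGen.mk' hη (eq_top_iff.mpr fun v _ => ?_) (by
      rw [sp_oneStalk]; exact oneStalk_ne_zero _)
    obtain ⟨r, rfl⟩ := (bijective_smul_oneStalk x).2 v
    exact Submodule.smul_mem _ _ (Submodule.mem_span_singleton_self _)
  rw [secO_eq hx hg (oneStalk_ne_zero _) (φ := spO x 1)
    (by rw [← sp_smul, one_smul, sp_oneStalk]), ord_unit isUnit_one]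
  rfl

theorem HasOrd.iso (hX : Pi1.IsNormalScheme X) {F G : X.Modules} (hF : RefHull.IsRef1 F)
    {D : X → ℤ} (h : HasOrd F D) (e : F ≅ G) : HasOrd G D := by
  obtain ⟨v, hv, hD⟩ := h
  have hb := (isIso_iff_bijective_stalk e.hom).mp inferInstance
  refine ⟨RefHull.stalkMapₗ e.hom (genericPoint X) v, (map_ne_zero_iff _ (hb _).1).mpr hv, fun x hx => ?_⟩
  obtain ⟨t, ht⟩ := exists_isStalkGen_of_isRef1 hX F hF x hx
  rw [secO_map e.hom hx ht (hb x).2 (hb _) hv, hD x hx]

theorem HasOrd.refTensor (hX : Pi1.IsNormalScheme X) {F G : X.Modules} (hF : RefHull.IsRef1 F)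
    (hG : RefHull.IsRef1 G) {D E : X → ℤ} (hD : HasOrd F D) (hE : HasOrd G E) :
    HasOrd (RefHull.ddual (CohB1.tensorMod F G)) (D + E) := by
  obtain ⟨v, hv, hv'⟩ := hD
  obtain ⟨w, hw, hw'⟩ := hE
  obtain ⟨z, hz, hz'⟩ := exists_secO_refTensor hX hF hG hv hw
  exact ⟨z, hz, fun x hx => by rw [hz' x hx, hv' x hx, hw' x hx]; rfl⟩

theorem HasOrd.dual (hX : Pi1.IsNormalScheme X) {F : X.Modules} (hF : RefHull.IsRef1 F)
    {D : X → ℤ} (hD : HasOrd F D) : HasOrd (RefHull.dual F) (-D) := by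
  obtain ⟨v, hv, hv'⟩ := hD
  obtain ⟨z, hz, hz'⟩ := exists_secO_dual hX hF hv
  exact ⟨z, hz, fun x hx => by rw [hz' x hx, hv' x hx]; rfl⟩

/-- Rank one reflexive modules with the same divisor are isomorphic. -/
theorem HasOrd.nonempty_iso (hX : Pi1.IsNormalScheme X) {F G : X.Modules} (hF : RefHull.IsRef1 F)
    (hG : RefHull.IsRef1 G) {D : X → ℤ} (hD : HasOrd F D) (hE : HasOrd G D) : Nonempty (F ≅ G) := by
  obtain ⟨v, hv, hv'⟩ := hD
  obtain ⟨w, hw, hw'⟩ := hE
  exact nonempty_iso_of_secO_eq hX hF hG hv hw fun x hx => (hv' x hx).trans (hw' x hx).symm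

end Groth.Agent.H29Ref
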