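import Groth.Prelude.Def_RefPow
import Groth.Agent.H29Ref.DivClass
import Groth.Agent.H16Derived.QCohD.MV

/-!
# Reflexive powers and the locus where a section generates
-/

set_option autoImplicit false
set_option maxHeartbeats 400000

universe u

open CategoryTheory CategoryTheory.Limits AlgebraicGeometry Opposite TopologicalSpace

namespace Groth.Agent.H29Ref

open H8Props.FunDescent (StalkFree)

variable {X : Scheme.{u}}

/-- Bijectivity on the stalks over an open gives an isomorphism of the restrictions. -/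
theorem isIso_restrict_of_bijective (U : X.Opens) {M N : X.Modules} (φ : M ⟶ N)
    (h : ∀ x ∈ U, Function.Bijective (RefHull.stalkMapₗ φ x)) :
    IsIso ((Scheme.Modules.restrictFunctor U.ι).map φ) := by
  refine H17.PushColim.isIso_of_stalkAb _ fun y => ?_
  refine (NatIso.isIso_map_iff (Scheme.Modules.restrictStalkNatIso U.ι y) φ).2 ?_
  exact (ConcreteCategory.isIso_iff_bijective _).2 (h y.1 y.2)

variable {F : X.Modules} (s : Coh.structureModule X ⟶ F)

/-- The germ of `s^n`. -/
noncomputable def sigma (n : ℕ) (x : X) : (RefPow.refPow F n).presheaf.stalk x :=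
  RefHull.stalkMapₗ (RefPow.sPow s n) x (oneStalk x)

theorem sPow_stalk_eq (n : ℕ) (x : X) (r : X.presheaf.stalk x) :
    RefHull.stalkMapₗ (RefPow.sPow s n) x (r • oneStalk x) = r • sigma s n x :=
  map_smul _ r _

theorem sigma_eq_sPowGerm (n : ℕ) (x : X) : sigma s n x = RefPow.sPowGerm s n x :=
  RefHull.stalkMapₗ_germ (RefPow.sPow s n) (U := ⊤) x trivial _

theorem sigma_one (x : X) : sigma s 1 x = RefHull.stalkMapₗ s x (oneStalk x) := by
  rw [sigma, RefPow.sPow_one]; rfl

/-- The germ of `s`, typed in the stalk of `F`. -/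
noncomputable def sec1 (x : X) : F.presheaf.stalk x := RefHull.stalkMapₗ s x (oneStalk x)

theorem sigma_succ (n : ℕ) (x : X) :
    sigma s (n + 1) x = RefHull.stalkMapₗ (RefPow.mulBy s n) x (sigma s n x) := by
  rw [sigma, RefPow.sPow_succ, stalkMapₗ_comp_apply]; rfl

theorem mulBy_stalk (n : ℕ) (x : X) (a : (RefPow.refPow F (n + 1)).presheaf.stalk x) :
    RefHull.stalkMapₗ (RefPow.mulBy s (n + 1)) x a =
      RefHull.stalkMapₗ (RefPow.toRefTensor (RefPow.refPow F (n + 1)) F) x
        (H16Derived.KFlat.Stalk.pair (RefPow.refPow F (n + 1)) F x a (sigma s 1 x)) := by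
  obtain ⟨W, hx, t, rfl⟩ := TopCat.Presheaf.exists_germ_eq (RefPow.refPow F (n + 1)).presheaf a
  have hs : sigma s 1 x = F.presheaf.germ W x hx (SecTwist.val s W) := by
    rw [sigma_one, ← germ_one x hx, RefHull.stalkMapₗ_germ]
    rfl
  rw [RefHull.stalkMapₗ_germ, RefPow.mulBy_succ_app, hs, H16Derived.KFlat.Stalk.pair_germ]
  exact (RefHull.stalkMapₗ_germ (RefPow.toRefTensor (RefPow.refPow F (n + 1)) F) x hx _).symm

theorem sigma_succ_succ (n : ℕ) (x : X) :
    sigma s (n + 2) x = RefHull.stalkMapₗ (RefPow.toRefTensor (RefPow.refPow F (n + 1)) F) x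
      (H16Derived.KFlat.Stalk.pair (RefPow.refPow F (n + 1)) F x (sigma s (n + 1) x) (sigma s 1 x)) := by
  rw [sigma_succ, mulBy_stalk]

variable [IsIntegral X] [IsLocallyNoetherian X]

theorem isRef1_refPow (hF : RefHull.IsRef1 F) : ∀ n, RefHull.IsRef1 (RefPow.refPow F n)
  | 0 => isRef1_structureModule
  | 1 => hF
  | n + 2 => isRef1_refTensor (isRef1_refPow hF (n + 1)) hF

/-- The powers of `s` generate where `s` does. -/
theorem bijective_toSpan_sigma (hF : RefHull.IsRef1 F) {x : X} (hx : x ∈ RefPow.isoLocus s) :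
    ∀ n, Function.Bijective (fun r : X.presheaf.stalk x => r • sigma s n x) := by
  have h1 : Function.Bijective (fun r : X.presheaf.stalk x => r • sigma s 1 x) := by
    refine (congrArg Function.Bijective (funext fun r => ?_)).mp (hx.comp (bijective_smul_oneStalk x))
    exact (map_smul (RefHull.stalkMapₗ s x) r _).trans (congrArg (r • ·) (sigma_one s x).symm)
  intro n
  induction n with
  | zero =>
    refine (congrArg Function.Bijective (funext fun r => ?_)).mp (bijective_smul_oneStalk x)
    exact congrArg (r • ·) (stalkMapₗ_id_apply x (oneStalk x)).symm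
  | succ n ih =>
    rcases n with _ | n
    · exact h1
    let R := X.presheaf.stalk x
    let ea := LinearEquiv.ofBijective (LinearMap.toSpanSingleton R _ (sigma s (n + 1) x)) ih
    let eb := LinearEquiv.ofBijective (LinearMap.toSpanSingleton R _ (sigma s 1 x)) h1
    let e := (TensorProduct.lid R R).symm.trans ((TensorProduct.congr ea eb).trans
      (LinearEquiv.ofBijective _
        (H16Derived.KFlat.Stalk.toStalk_bijective (RefPow.refPow F (n + 1)) F x)))
    have hT : Coh.IsCoh (CohB1.tensorMod (RefPow.refPow F (n + 1)) F) :=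
      H10Coh.TT.isCoh_tensorMod (isRef1_refPow hF (n + 1)).1 hF.1
    haveI : Module.Free R ((CohB1.tensorMod (RefPow.refPow F (n + 1)) F).presheaf.stalk x) :=
      Module.Free.of_equiv e
    haveI := finite_stalk _ hT.2 x
    have hb := (isReflexiveAt_iff _ (H10Coh.isFP_of_isCoh _ hT) (isFP_dual _ hT) x).mp
      (inferInstance : Module.IsReflexive R _)
    refine (congrArg Function.Bijective (funext fun r => ?_)).mp (hb.comp e.bijective)
    refine Eq.symm ((congrArg (r • ·) (sigma_succ_succ s n x)).trans ((map_smul _ r _).symm.trans ?_))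
    refine congrArg (RefHull.stalkMapₗ (RefPow.toRefTensor (RefPow.refPow F (n + 1)) F) x) ?_
    show r • H16Derived.KFlat.Stalk.pair (RefPow.refPow F (n + 1)) F x _ _ =
      H16Derived.KFlat.Stalk.toStalk (RefPow.refPow F (n + 1)) F x
        (TensorProduct.congr ea eb ((TensorProduct.lid R R).symm r))
    rw [TensorProduct.lid_symm_apply, TensorProduct.congr_tmul]
    refine Eq.trans ?_ (H16Derived.KFlat.Stalk.toStalk_tmul (RefPow.refPow F (n + 1)) F x (ea 1) (eb r)).symm
    refine Eq.trans ?_ (pair_smul_smul (RefPow.refPow F (n + 1)) F x 1 r (sigma s (n + 1) x)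
      (sigma s 1 x)).symm
    rw [one_mul]

theorem bijective_sPow (hF : RefHull.IsRef1 F) {x : X} (hx : x ∈ RefPow.isoLocus s) (n : ℕ) :
    Function.Bijective (RefHull.stalkMapₗ (RefPow.sPow s n) x) := by
  refine (Function.Bijective.of_comp_iff _ (bijective_smul_oneStalk x)).mp ?_
  convert bijective_toSpan_sigma s hF hx n using 1
  funext r
  exact sPow_stalk_eq s n x r

theorem sigma_generic_ne_zero (hF : RefHull.IsRef1 F) (hη : genericPoint X ∈ RefPow.isoLocus s) (n : ℕ) :
    sigma s n (genericPoint X) ≠ 0 := fun h =>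
  one_ne_zero ((bijective_toSpan_sigma s hF hη n).1 (a₁ := 1) (a₂ := 0) (by simp [h]))

omit [IsLocallyNoetherian X] in
theorem sp_sigma (n : ℕ) (x : X) : sp _ x (sigma s n x) = sigma s n (genericPoint X) := by
  rw [sigma, sp_stalkMap, sp_oneStalk]; rfl

/-- The divisor of `s^n`. -/
theorem secO_sigma (hX : Pi1.IsNormalScheme X) (hF : RefHull.IsRef1 F)
    (hη : genericPoint X ∈ RefPow.isoLocus s) {x : X} (hx : Order.coheight x = 1) :
    ∀ n : ℕ, secO (RefPow.refPow F n) x (sigma s n (genericPoint X)) =
      n * secO F x (sigma s 1 (genericPoint X)) := by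
  intro n
  induction n with
  | zero =>
    obtain ⟨t, ht⟩ := exists_isStalkGen_of_isRef1 hX _ (isRef1_structureModule (X := X)) x hx
    obtain ⟨v, hv, hord⟩ := hasOrd_structureModule (X := X)
    have h1 : sigma s 0 (genericPoint X) = oneStalk (genericPoint X) :=
      stalkMapₗ_id_apply (genericPoint X) _
    have hg : IsStalkGen (Coh.structureModule X) x (oneStalk x) := by
      refine IsStalkGen.mk' (stalkFree_generic _ isRef1_structureModule.1 isRef1_structureModule.2.2)
        (eq_top_iff.mpr fun v _ => ?_) (by rw [sp_oneStalk]; exact oneStalk_ne_zero _)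
      obtain ⟨r, rfl⟩ := (bijective_smul_oneStalk x).2 v
      exact Submodule.smul_mem _ _ (Submodule.mem_span_singleton_self _)
    show secO (Coh.structureModule X) x (sigma s 0 (genericPoint X)) = _
    rw [h1, secO_eq hx hg (oneStalk_ne_zero _) (φ := spO x 1)
      (by rw [← sp_smul, one_smul, sp_oneStalk]), ord_unit isUnit_one]
    simp
  | succ n ih =>
    rcases n with _ | n
    · simp
    have hG := isRef1_refPow hF (n + 1)
    have hη1 := stalkFree_generic _ hG.1 hG.2.2
    have hη2 := stalkFree_generic F hF.1 hF.2.2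
    have hv := sigma_generic_ne_zero s hF hη (n + 1)
    have hw : sigma s 1 (genericPoint X) ≠ 0 := sigma_generic_ne_zero s hF hη 1
    have hT : Coh.IsCoh (CohB1.tensorMod (RefPow.refPow F (n + 1)) F) :=
      H10Coh.TT.isCoh_tensorMod hG.1 hF.1
    obtain ⟨a, ha⟩ := exists_isStalkGen_of_isRef1 hX _ hG x hx
    obtain ⟨b, hb'⟩ := exists_isStalkGen_of_isRef1 hX F hF x hx
    have h2 := (secO_map (RefPow.toRefTensor (RefPow.refPow F (n + 1)) F) hx (ha.pair hη1 hη2 hb')
      (surjective_bidual_stalk hX _ hT x (by rw [ringKrullDim_stalk_eq_coheight, hx]; rfl))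
      (bijective_bidual_generic _ hT) (pair_ne_zero hη1 hη2 hv hw)).trans
      (secO_pair hη1 hη2 hx ha hb' hv hw)
    rw [← sigma_succ_succ s n, ih] at h2
    refine h2.trans ?_
    push_cast
    ring

omit [IsLocallyNoetherian X] in
theorem sp_sec1 (x : X) : sp F x (sec1 s x) = sec1 s (genericPoint X) := by
  rw [sec1, sp_stalkMap, sp_oneStalk]; rfl

theorem sec1_eq_sigma (x : X) : sec1 s x = sigma s 1 x := (sigma_one s x).symm

/-- Where `s` does not generate, its divisor is positive. -/
theorem one_le_secO (hX : Pi1.IsNormalScheme X) (hF : RefHull.IsRef1 F)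
    (hη : genericPoint X ∈ RefPow.isoLocus s) {x : X} (hx : Order.coheight x = 1)
    (hxs : x ∉ RefPow.isoLocus s) : 1 ≤ secO F x (sec1 s (genericPoint X)) := by
  obtain ⟨t, ht⟩ := exists_isStalkGen_of_isRef1 hX F hF x hx
  obtain ⟨a, ha⟩ := Submodule.mem_span_singleton.mp
    (ht.span_eq.symm ▸ Submodule.mem_top : sec1 s x ∈ Submodule.span (X.presheaf.stalk x) {t})
  have hv : sec1 s (genericPoint X) ≠ 0 := fun h =>
    sigma_generic_ne_zero s hF hη 1 ((sigma_one s (genericPoint X)).trans h)
  have hφ : sec1 s (genericPoint X) = spO x a • sp F x t :=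
    (sp_sec1 s x).symm.trans ((congrArg (sp F x) ha.symm).trans (sp_smul F x a t))
  have ha0 : a ≠ 0 := fun h => hv (hφ.trans (by rw [h, map_zero, zero_smul]))
  have hau : ¬ IsUnit a := by
    intro hu
    refine hxs ((Function.Bijective.of_comp_iff _ (bijective_smul_oneStalk x)).mp ?_)
    refine ⟨fun r r' h => spO_injective x (smul_right_inj F hv ?_), fun w => ?_⟩
    · have h1 := congrArg (sp F x) h
      simp only [Function.comp_apply, map_smul] at h1
      have h2 : ∀ q, sp F x (q • sec1 s x) = spO x q • sec1 s (genericPoint X) := fun q => by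
        exact (sp_smul F x q (sec1 s x)).trans (congrArg (spO x q • ·) (sp_sec1 s x))
      exact (h2 r).symm.trans (h1.trans (h2 r'))
    · obtain ⟨c, rfl⟩ := Submodule.mem_span_singleton.mp
        (ht.span_eq.symm ▸ Submodule.mem_top : w ∈ Submodule.span (X.presheaf.stalk x) {t})
      obtain ⟨u, rfl⟩ := hu
      refine ⟨c * (u⁻¹ : _ˣ), ?_⟩
      simp only [Function.comp_apply, map_smul]
      exact (congrArg (_ • ·) ha.symm).trans ((smul_smul _ _ t).trans (by rw [mul_assoc, Units.inv_mul, mul_one]))
  rw [secO_eq hx ht hv (φ := spO x a) hφ]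
  have hK : (spO x a : X.functionField) ≠ 0 := (map_ne_zero_iff _ (spO_injective x)).mpr ha0
  have h0 := (H26CDiv.ord_nonneg_iff_reg (fun y => (hX y).2) hx hK).mpr ⟨a, rfl⟩
  have h1 : Scheme.ord (spO x a : X.functionField) x ≠ 0 := fun h =>
    hau ((H26CDiv.ord_spec_eq_zero_iff (fun y => (hX y).2) hx ha0).mp h)
  omega

end Groth.Agent.H29Ref
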