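import Groth.Agent.H29Ref.DDualInvertible
import Groth.Agent.H29Ref.RefPow
import Groth.Agent.LeadQSub.Extend
import Groth.Agent.H10Coh.QcqsPush
import Groth.Agent.LeadDev.Basic
import Groth.Agent.H17.QcImage
import Groth.Agent.H11Ample.Tensor
import Groth.Agent.H11Proj.Finite

/-!
# Extending invertible modules from opens
-/

set_option autoImplicit false
set_option maxHeartbeats 400000
set_option linter.style.haveILetI false

universe u

open CategoryTheory CategoryTheory.Limits AlgebraicGeometry Opposite TopologicalSpace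

namespace Groth.Agent.H29Ref

variable {X : Scheme.{u}}

/-- A coherent module on an open extends to a coherent module which vanishes on disjoint opens. -/
theorem exists_coh_extension [IsLocallyNoetherian X] (W : X.Opens) (G : (W : Scheme.{u}).Modules)
    (hG : Coh.IsCoh G) :
    ∃ K : X.Modules, Coh.IsCoh K ∧ Nonempty (K.restrict W.ι ≅ G) ∧
      ∀ O : X.Opens, Disjoint O W → IsZero (K.restrict O.ι) := by
  let P := (Scheme.Modules.pushforward W.ι).obj G
  haveI : G.IsQuasicoherent := hG.1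
  have hP : Coh.IsQCoh P := H10Coh.isQuasicoherent_pushforward W.ι G
  let c := asIso ((Scheme.Modules.restrictAdjunction W.ι).counit.app G)
  haveI : Mono (c.inv) := inferInstance
  have hX : ∀ x : X, ∃ U : X.Opens, x ∈ U ∧ NoetherianSpace (U : Set X) := fun x => by
    obtain ⟨V, hV, hxV, -⟩ := exists_isAffineOpen_mem_and_subset (X := X) (x := x) (U := ⊤) trivial
    haveI := IsLocallyNoetherian.component_noetherian ⟨V, hV⟩
    haveI : IsAffine V.toScheme := hV
    haveI : CompactSpace V.toScheme := isCompact_iff_compactSpace.mp hV.isCompact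
    haveI : IsLocallyNoetherian V.toScheme := inferInstance
    haveI : IsNoetherian V.toScheme := {}
    exact ⟨V, hxV, inferInstanceAs (NoetherianSpace V.toScheme)⟩
  obtain ⟨K, i, e, hi, hKq, hKft, -⟩ := LeadQSub.exists_extension_subsheaf_locallyNoetherian (F := P) hX W
    (G := G) c.inv hP hG.1 hG.2
  refine ⟨K, ⟨hKq, hKft⟩, ⟨e⟩, fun O hO => ?_⟩
  haveI := hi
  have hPz : IsZero (P.restrict O.ι) := by
    rw [IsZero.iff_id_eq_zero]
    ext V s
    have hbot : W.ι ⁻¹ᵁ (O.ι ''ᵁ V) = ⊥ := by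
      ext z
      constructor
      · intro hz
        exact (Set.disjoint_left.mp (Opens.coe_disjoint.mpr hO) ((Scheme.Opens.ι_image_le (U := O) V) hz) z.2).elim
      · exact fun hz => hz.elim
    haveI : Subsingleton Γ(G, W.ι ⁻¹ᵁ (O.ι ''ᵁ V)) := by
      rw [hbot]
      exact AddCommGrpCat.subsingleton_of_isZero
        (TopCat.Sheaf.isTerminalOfEmpty ⟨_, G.isSheaf⟩).isZero
    exact @Subsingleton.elim _ this _ _
  exact IsZero.of_mono ((Scheme.Modules.restrictFunctor O.ι).map i) hPz

/-- A module whose restriction is invertible is free of rank one near the points of the open. -/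
theorem isFreeOfRankNear_of_restrict (F : X.Modules) (U : X.Opens) {L : (U : Scheme.{u}).Modules}
    (hL : PicF.IsInvertible L) (e₀ : F.restrict U.ι ≅ L) (x : X) (hx : x ∈ U) :
    FlatFun.IsFreeOfRankNear F 1 x := by
  obtain ⟨W, hW, ⟨e⟩⟩ := hL ⟨x, hx⟩
  exact ⟨U.ι ''ᵁ W, ⟨_, hW, rfl⟩, ⟨H11Tilde.restrictImageIso U.ι F W ≪≫
      (Scheme.Modules.restrictFunctor (U.ι.isoImage W).inv).mapIso
        ((Scheme.Modules.restrictFunctor W.ι).mapIso e₀ ≪≫ e) ≪≫
      Scheme.Modules.restrictUnitIso (U.ι.isoImage W).inv ≪≫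
      (coproductUniqueIso fun _ : Fin 1 =>
        Coh.structureModule (↑(U.ι ''ᵁ W) : Scheme.{u})).symm⟩⟩

/-- Near a point with integral local ring the space is irreducible. -/
theorem exists_open_generic [IsLocallyNoetherian X] (x : X) [IsDomain (X.presheaf.stalk x)] :
    ∃ g : X, (∀ q, q ⤳ x → g ⤳ q) ∧ ∃ N : X.Opens, x ∈ N ∧ ∀ y ∈ N, g ⤳ y := by
  let g := X.fromSpecStalk x (⊥ : PrimeSpectrum (X.presheaf.stalk x))
  have hg : ∀ q, q ⤳ x → g ⤳ q := fun q hq => by
    obtain ⟨p, rfl⟩ := (Set.ext_iff.mp (Scheme.range_fromSpecStalk (x := x)) q).mpr hq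
    exact ((PrimeSpectrum.le_iff_specializes _ p).mp bot_le).map (X.fromSpecStalk x).continuous
  let O : X.Opens := ⟨(closure {g})ᶜ, isClosed_closure.isOpen_compl⟩
  refine ⟨g, hg, ⟨(closure (O : Set X))ᶜ, isClosed_closure.isOpen_compl⟩, fun hx => ?_, fun y hy => ?_⟩
  · obtain ⟨q, hq⟩ := H17.exists_specializes_of_mem_closure_range O.ι (y := x)
      (by rw [Scheme.Opens.range_ι]; exact hx)
    exact q.2 (specializes_iff_mem_closure.mp (hg _ hq))
  · rw [specializes_iff_mem_closure]
    by_contra h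
    exact hy (subset_closure h)

/-- An invertible module on an open extends if the local rings outside are factorial. -/
theorem exists_invertible_extension [IsLocallyNoetherian X] (U : X.Opens)
    (L : (U : Scheme.{u}).Modules) (hL : PicF.IsInvertible L)
    (hufd : ∀ x : X, x ∉ U → UniqueFactorizationMonoid (X.presheaf.stalk x)) :
    ∃ L' : X.Modules, PicF.IsInvertible L' ∧ Nonempty (L'.restrict U.ι ≅ L) := by
  have hop : IsOpen (closure (U : Set X)) := by
    refine isOpen_iff_forall_mem_open.mpr fun x hx => ?_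
    by_cases hxU : x ∈ U
    · exact ⟨U, subset_closure, U.2, hxU⟩
    haveI := hufd x hxU
    haveI : IsDomain (X.presheaf.stalk x) := { }
    obtain ⟨g, hg, N, hxN, hN⟩ := exists_open_generic x
    obtain ⟨q, hq⟩ := H17.exists_specializes_of_mem_closure_range U.ι (y := x)
      (by rw [Scheme.Opens.range_ι]; exact hx)
    have hgU : g ∈ U := (hg _ hq).mem_open U.2 q.2
    exact ⟨N, fun y hy => closure_mono (Set.singleton_subset_iff.mpr hgU)
      (specializes_iff_mem_closure.mp (hN y hy)), N.2, hxN⟩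
  let X₀ : X.Opens := ⟨(closure (U : Set X))ᶜ, isClosed_closure.isOpen_compl⟩
  have hdis : Disjoint X₀ U := Opens.coe_disjoint.mp
    (Set.disjoint_left.mpr fun y hy hyU => hy (subset_closure hyU))
  have hLc : Coh.IsCoh L := H11Ample.isCoh_of_isInvertible hL
  obtain ⟨K₁, hK₁, ⟨e₁⟩, hz₁⟩ := exists_coh_extension U L hLc
  obtain ⟨K₂, hK₂, ⟨e₂⟩, hz₂⟩ := exists_coh_extension X₀ (Coh.structureModule _)
    (H10Coh.isCoh_structureModule' _)
  let F := K₁ ⊞ K₂
  haveI hU2 : PreservesBinaryBiproduct K₁ K₂ (Scheme.Modules.restrictFunctor U.ι) :=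
    preservesBinaryBiproduct_of_preservesBinaryCoproduct _
  haveI hX2 : PreservesBinaryBiproduct K₁ K₂ (Scheme.Modules.restrictFunctor X₀.ι) :=
    preservesBinaryBiproduct_of_preservesBinaryCoproduct _
  let a : F.restrict U.ι ≅ L :=
    (Scheme.Modules.restrictFunctor U.ι).mapBiprod K₁ K₂ ≪≫
      (isoBiprodZero (hz₂ U hdis.symm)).symm ≪≫ e₁
  let b : F.restrict X₀.ι ≅ Coh.structureModule _ :=
    (Scheme.Modules.restrictFunctor X₀.ι).mapBiprod K₁ K₂ ≪≫
      (isoZeroBiprod (hz₁ X₀ hdis)).symm ≪≫ e₂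
  have hF : Coh.IsCoh F := LeadDev.isCoh_biprod hK₁ hK₂
  obtain ⟨hinv, hbij⟩ := isInvertible_ddual F hF (U ⊔ X₀) (fun x => by
      rw [Opens.coe_sup]
      by_cases hx : x ∈ closure (U : Set X)
      · exact closure_mono Set.subset_union_left hx
      · exact subset_closure (Or.inr hx))
    (fun x hx => H8Props.FunDescent.stalkFree_of_isFreeOfRankNear F hF.1 (hx.elim
      (isFreeOfRankNear_of_restrict F U hL a x)
      (isFreeOfRankNear_of_restrict F X₀ (H11Proj.isInvertible_structureModule) b x)))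
    (fun x hx => hufd x fun h => hx (Or.inl h))
  haveI := isIso_restrict_of_bijective U (RefHull.bidualMap F) fun x hx => hbij x (Or.inl hx)
  exact ⟨RefHull.ddual F, hinv,
    ⟨(asIso ((Scheme.Modules.restrictFunctor U.ι).map (RefHull.bidualMap F))).symm ≪≫ a⟩⟩

end Groth.Agent.H29Ref
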