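import Groth.Agent.H29Ref.Generic
import Groth.Agent.H1CAlg.ReflexiveDomain
import Groth.Agent.H4Depth.DepthHom
import Groth.Agent.H4Depth.Regular
import Groth.Agent.H4Depth.CM
import Groth.Agent.H28Alg.RegularUFD
import Groth.Agent.H8Props.FunDescent.GenericLimit
import Groth.Agent.H11Tilde.Local
import Groth.Agent.S0605

/-!
# Freeness of reflexive modules over regular local rings
-/

set_option autoImplicit false
set_option maxHeartbeats 400000

universe u

open CategoryTheory CategoryTheory.Limits AlgebraicGeometry Opposite TopologicalSpace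

namespace Groth.Agent.H29Ref

section Ring

variable {R : Type u} [CommRing R] [IsRegularLocalRing R] (M : Type u) [AddCommGroup M] [Module R M]
  [Module.Finite R M]

theorem free_of_dim_le_depth (h : ringKrullDim R ≤ ((LocCoh.depth R M : ℕ∞) : WithBot ℕ∞)) :
    Module.Free R M := by
  rcases subsingleton_or_nontrivial M with hM | hM
  · exact Module.Free.of_subsingleton R M
  exact S0605.result R M (le_antisymm
    (H4Depth.depth_le_supportDim.trans (Module.supportDim_le_ringKrullDim R M)) h)

/-- Over a regular local ring of dimension at most one, torsion-free finite modules are free. -/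
theorem free_of_isTorsionFree (hd : ringKrullDim R ≤ 1) [Module.IsTorsionFree R M] :
    Module.Free R M := by
  haveI := H4Depth.isDomain_of_isRegularLocalRing R
  refine free_of_dim_le_depth M ?_
  obtain ⟨k, r, a, b, hr, hab⟩ := H1CAlg.exists_free_approx (R := R) M
  have ha : Function.Injective a := fun x y hxy => by
    have h2 := (hab x).symm.trans ((congrArg b hxy).trans (hab y))
    exact smul_right_injective M hr h2
  have hRd := H4Depth.depth_self_eq_ringKrullDim_of_regular R
  obtain ⟨d, hd'⟩ := H4Depth.exists_nat_ringKrullDim_eq (R := R)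
  rw [hd'] at hRd hd ⊢
  have hRd' : LocCoh.depth R R = (d : ℕ∞) := by exact_mod_cast hRd
  have hd1 : d ≤ 1 := by exact_mod_cast hd
  rcases Nat.le_one_iff_eq_zero_or_eq_one.mp hd1 with rfl | rfl
  · exact_mod_cast bot_le
  · have hpi : (1 : ℕ∞) ≤ LocCoh.idealDepth (IsLocalRing.maximalIdeal R) (Fin k → R) :=
      (show (1 : ℕ∞) ≤ LocCoh.depth R R by simp [hRd']).trans (H4Depth.idealDepth_le_idealDepth_pi _ k)
    have h1 : (1 : ℕ∞) ≤ LocCoh.depth R M :=
      H4Depth.one_le_idealDepth_of_injective _ (f := a) ha hpi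
    exact_mod_cast h1

/-- A reflexive finite module is the kernel of a map between free modules. -/
theorem exists_exact_of_isReflexive [Module.IsReflexive R M] :
    ∃ (n m : ℕ) (f : M →ₗ[R] (Fin n → R)) (g : (Fin n → R) →ₗ[R] (Fin m → R)),
      Function.Injective f ∧ Function.Exact f g := by
  haveI : Module.Finite R (Module.Dual R M) := by
    obtain ⟨k, m₀, f₀, g₀, hf₀, -⟩ := H4Depth.exists_dual_presentation (R := R) M
    exact Module.Finite.of_injective f₀ hf₀
  obtain ⟨n, m, f, g, hf, hfg⟩ := H4Depth.exists_dual_presentation (R := R) (Module.Dual R M)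
  exact ⟨n, m, f ∘ₗ (Module.evalEquiv R M).toLinearMap, g,
    hf.comp (Module.evalEquiv R M).injective, fun y => (hfg y).trans
      ⟨fun ⟨x, hx⟩ => ⟨(Module.evalEquiv R M).symm x, by
        show f (Module.evalEquiv R M ((Module.evalEquiv R M).symm x)) = y
        rw [LinearEquiv.apply_symm_apply, hx]⟩,
        fun ⟨x, hx⟩ => ⟨Module.evalEquiv R M x, hx⟩⟩⟩

/-- Over a regular local ring of dimension at most two, reflexive finite modules are free. -/
theorem free_of_isReflexive (hd : ringKrullDim R ≤ 2) [Module.IsReflexive R M] : Module.Free R M := by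
  obtain ⟨n, m, f, g, hf, hfg⟩ := exists_exact_of_isReflexive (R := R) M
  have hRd := H4Depth.depth_self_eq_ringKrullDim_of_regular R
  obtain ⟨d, hd'⟩ := H4Depth.exists_nat_ringKrullDim_eq (R := R)
  refine free_of_dim_le_depth M ?_
  rw [hd'] at hRd hd ⊢
  have hRd' : LocCoh.idealDepth (IsLocalRing.maximalIdeal R) R = (d : ℕ∞) := by exact_mod_cast hRd
  have hd2 : d ≤ 2 := by exact_mod_cast hd
  have hpi : ∀ i : ℕ, (d : ℕ∞) ≤ LocCoh.idealDepth (IsLocalRing.maximalIdeal R) (Fin i → R) :=
    fun i => hRd'.symm.le.trans (H4Depth.idealDepth_le_idealDepth_pi _ i)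
  suffices h : (d : ℕ∞) ≤ LocCoh.depth R M by exact_mod_cast h
  interval_cases d
  · exact bot_le
  · exact H4Depth.one_le_idealDepth_of_injective _ hf (hpi n)
  · exact H4Depth.two_le_idealDepth_of_exact _ hf hfg (hpi n) (le_trans (by norm_num) (hpi m))

end Ring

/-- Over a factorial domain a rank one reflexive module is free. -/
theorem free_of_rank_one {R : Type u} [CommRing R] [IsDomain R] [UniqueFactorizationMonoid R]
    (M : Type u) [AddCommGroup M] [Module R M] [Module.IsReflexive R M]
    [Module.Finite R M]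
    (h1 : ∀ x y : M, y ≠ 0 → ∃ α β : R, α ≠ 0 ∧ α • x = β • y) : Module.Free R M := by
  classical
  rcases subsingleton_or_nontrivial M with hM | hM
  · exact Module.Free.of_subsingleton R M
  obtain ⟨b₀, hb₀⟩ := exists_ne (0 : M)
  obtain ⟨φ, hφ⟩ : ∃ φ : Module.Dual R M, φ b₀ ≠ 0 := by
    by_contra h
    push Not at h
    exact hb₀ ((Module.bijective_dual_eval R M).1 (LinearMap.ext fun φ => (h φ).trans (by simp)))
  have hφi : Function.Injective φ := by
    rw [injective_iff_map_eq_zero]
    intro x hx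
    obtain ⟨α, β, hα, he⟩ := h1 x b₀ hb₀
    have h2 : β * φ b₀ = 0 := by
      rw [← smul_eq_mul, ← map_smul, ← he, map_smul, hx, smul_zero]
    rw [(mul_eq_zero.mp h2).resolve_right hφ, zero_smul] at he
    by_contra hx0
    obtain ⟨ψ, hψ⟩ : ∃ ψ : Module.Dual R M, ψ x ≠ 0 := by
      by_contra h
      push Not at h
      exact hx0 ((Module.bijective_dual_eval R M).1 (LinearMap.ext fun φ => (h φ).trans (by simp)))
    exact mul_ne_zero hα hψ (by rw [← smul_eq_mul, ← map_smul, he, map_zero])
  letI : NormalizedGCDMonoid R := Classical.arbitrary _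
  obtain ⟨s, hs⟩ := Module.Finite.fg_top (R := R) (M := M)
  let d := s.gcd φ
  have hdvd : ∀ a, d ∣ φ a := by
    intro a
    have ha : a ∈ Submodule.span R (s : Set M) := hs ▸ Submodule.mem_top
    induction ha using Submodule.span_induction with
    | mem x hx => exact Finset.gcd_dvd hx
    | zero => rw [map_zero]; exact dvd_zero _
    | add x y _ _ hx hy => rw [map_add]; exact dvd_add hx hy
    | smul r x _ hx => rw [map_smul]; exact Dvd.dvd.mul_left hx r
  have hd : d ≠ 0 := fun h => hφ (zero_dvd_iff.mp (h ▸ hdvd b₀))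
  choose f hf using hdvd
  let φ₀ : Module.Dual R M :=
    { toFun := f
      map_add' := fun x y => mul_left_cancel₀ hd (by rw [← hf, mul_add, ← hf, ← hf, map_add])
      map_smul' := fun r x => mul_left_cancel₀ hd (by
        rw [RingHom.id_apply, smul_eq_mul, ← hf, map_smul, smul_eq_mul, hf x, mul_left_comm]) }
  have hφ₀ : φ₀ b₀ ≠ 0 := fun h => hφ (by rw [hf b₀, show f b₀ = 0 from h, mul_zero])
  have hbij : Function.Bijective (LinearMap.toSpanSingleton R (Module.Dual R M) φ₀) := by
    refine ⟨fun a a' h => ?_, fun ψ => ?_⟩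
    · exact mul_right_cancel₀ hφ₀ (by simpa using LinearMap.congr_fun h b₀)
    · have hkey : ∀ a, ψ a * φ₀ b₀ = ψ b₀ * φ₀ a := fun a => by
        refine mul_left_cancel₀ hd ?_
        rw [mul_left_comm, mul_left_comm d (ψ b₀), show φ₀ b₀ = f b₀ from rfl,
          show φ₀ a = f a from rfl, ← hf, ← hf]
        have e : φ a • b₀ = φ b₀ • a := hφi (by
          rw [map_smul, map_smul, smul_eq_mul, smul_eq_mul, mul_comm])
        have e' := congrArg ψ e
        rw [map_smul, map_smul, smul_eq_mul, smul_eq_mul] at e'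
        rw [mul_comm (ψ a), mul_comm (ψ b₀)]
        exact e'.symm
      have hdv : φ₀ b₀ ∣ ψ b₀ := by
        have h2 : φ₀ b₀ * d ∣ s.gcd fun a => ψ b₀ * φ a := Finset.dvd_gcd fun a _ => ⟨ψ a, by
          rw [hf a, mul_left_comm, ← show φ₀ a = f a from rfl, ← hkey, mul_comm (φ₀ b₀) d]
          ring⟩
        exact (mul_dvd_mul_iff_right hd).mp (h2.trans (Finset.gcd_mul_left' (s := s) (f := φ) (ψ b₀)).dvd)
      obtain ⟨c, hc⟩ := hdv
      refine ⟨c, LinearMap.ext fun a => mul_right_cancel₀ hφ₀ ?_⟩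
      rw [hkey, hc]
      simp only [LinearMap.toSpanSingleton_apply, LinearMap.smul_apply, smul_eq_mul]
      ring
  let e₀ := LinearEquiv.ofBijective _ hbij
  let e : M ≃ₗ[R] R := (Module.evalEquiv R M).trans (e₀.dualMap.trans (LinearMap.ringLmapEquivSelf R R R))
  exact Module.Free.of_equiv e.symm

variable {X : Scheme.{u}}

/-- Coherent modules with free stalks are finite locally free. -/
theorem isFinLocFree_of_free_stalk [IsLocallyNoetherian X] (F : X.Modules) (hF : Coh.IsCoh F)
    (h : ∀ x, Module.Free (X.presheaf.stalk x) (F.presheaf.stalk x)) : FlatMod.IsFinLocFree F := fun x => by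
  haveI := finite_stalk F hF.2 x
  haveI := h x
  obtain ⟨U, hU, e⟩ := H8Props.FunDescent.isFreeOfRankNear_of_stalkFree_of_isFP F
    (H10Coh.isFP_of_isCoh F hF) (p := Module.finrank (X.presheaf.stalk x) (F.presheaf.stalk x)) (x := x)
    ⟨Module.finBasis _ _⟩
  exact ⟨U, _, hU, e⟩

/-- A module free of rank one nearby is trivial nearby. -/
theorem exists_iso_of_isFreeOfRankNear_one (F : X.Modules) (x : X)
    (h : FlatFun.IsFreeOfRankNear F 1 x) :
    ∃ U : X.Opens, x ∈ U ∧ Nonempty (F.restrict U.ι ≅ Coh.structureModule (↑U)) := by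
  obtain ⟨U, hU, ⟨e⟩⟩ := h
  exact ⟨U, hU, ⟨e ≪≫ (coproductUniqueIso fun _ : Fin 1 => Coh.structureModule (U : Scheme.{u}))⟩⟩

/-- On an integral scheme with cyclic generic stalk, elements of a torsion-free stalk are dependent. -/
theorem exists_smul_eq_smul [IsIntegral X] (F : X.Modules) (hF : Coh.IsQCoh F) (hFt : TorSh.IsTorsionFree F)
    (t : F.presheaf.stalk (genericPoint X))
    (ht : ∀ v, ∃ a : X.presheaf.stalk (genericPoint X), a • t = v) (x : X)
    (v w : F.presheaf.stalk x) (hw : w ≠ 0) :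
    ∃ α β : X.presheaf.stalk x, α ≠ 0 ∧ α • v = β • w := by
  obtain ⟨a, ha⟩ := ht (sp F x v)
  obtain ⟨b, hb⟩ := ht (sp F x w)
  have hb0 : b ≠ 0 := fun h => hw (sp_injective F hF hFt x (by rw [← hb, h, zero_smul, map_zero]))
  let K : Type u := X.functionField
  obtain ⟨β, α, hα, hq⟩ := IsFractionRing.div_surjective (A := X.presheaf.stalk x) ((a : K) / (b : K))
  have hα0 : spO x α ≠ 0 := (map_ne_zero_iff _ (spO_injective x)).mpr (nonZeroDivisors.ne_zero hα)
  have hq' : spO x β * b = spO x α * a := by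
    have h3 : (spO x β : K) / (spO x α : K) = (a : K) / (b : K) := hq
    have h4 := (div_eq_div_iff (G₀ := K) hα0 hb0).mp h3
    exact h4.trans (mul_comm (a : K) _)
  refine ⟨α, β, nonZeroDivisors.ne_zero hα, sp_injective F hF hFt x ?_⟩
  rw [sp_smul, sp_smul, ← ha, ← hb, smul_smul, smul_smul, hq']

/-- A rank one coherent module with free stalks is invertible. -/
theorem isInvertible_of_free_stalk [IsIntegral X] [IsLocallyNoetherian X] (F : X.Modules)
    (hF : Coh.IsCoh F) (hrk : RefHull.GenInvertible F)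
    (h : ∀ x, Module.Free (X.presheaf.stalk x) (F.presheaf.stalk x)) : PicF.IsInvertible F := by
  intro x
  obtain ⟨U, hUd, hU⟩ := hrk
  obtain ⟨y, hyU⟩ := hUd.nonempty
  have hηU : genericPoint X ∈ U := genericPoint_mem hyU
  obtain ⟨W, hηW, ⟨e⟩⟩ := hU ⟨_, hηU⟩
  have h1 : FlatFun.IsFreeOfRankNear F 1 (genericPoint X) := ⟨U.ι ''ᵁ W, ⟨_, hηW, rfl⟩,
    ⟨H11Tilde.restrictImageIso U.ι F W ≪≫
      (Scheme.Modules.restrictFunctor (U.ι.isoImage W).inv).mapIso e ≪≫
      Scheme.Modules.restrictUnitIso (U.ι.isoImage W).inv ≪≫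
      (coproductUniqueIso fun _ : Fin 1 =>
        Coh.structureModule (↑(U.ι ''ᵁ W) : Scheme.{u})).symm⟩⟩
  haveI := finite_stalk F hF.2 x
  haveI := h x
  have hfp := H10Coh.isFP_of_isCoh F hF
  obtain ⟨V, hxV, hV⟩ := H8Props.FunDescent.isFreeOfRankNear_of_stalkFree_of_isFP F hfp
    (p := Module.finrank (X.presheaf.stalk x) (F.presheaf.stalk x)) (x := x) ⟨Module.finBasis _ _⟩
  have hn := H8Props.FunDescent.stalkFree_unique
    (H8Props.FunDescent.stalkFree_of_isFreeOfRankNear F hF.1 h1)
    (H8Props.FunDescent.stalkFree_of_isFreeOfRankNear F hF.1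
      (x := genericPoint X) ⟨V, genericPoint_mem hxV, hV⟩)
  exact exists_iso_of_isFreeOfRankNear_one F x (hn ▸ ⟨V, hxV, hV⟩)

end Groth.Agent.H29Ref
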