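import Groth.Prelude.Def_C1
import Groth.Agent.H29Ref.Free
import Groth.Agent.H22Alg.CycDiv
import Groth.Agent.S2877

/-!
# Orders of rational sections
-/

set_option autoImplicit false
set_option maxHeartbeats 400000

universe u

open CategoryTheory CategoryTheory.Limits AlgebraicGeometry Opposite TopologicalSpace
namespace Groth.Agent.H29Ref

open H8Props.FunDescent (StalkFree)

variable {X : Scheme.{u}} [IsIntegral X]

/-- The generic point specializes to every point. -/
theorem spec_generic (x : X) : genericPoint X ⤳ x :=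
  (genericPoint_spec X).specializes (Set.mem_univ x)

theorem maximalIdeal_generic : IsLocalRing.maximalIdeal (X.presheaf.stalk (genericPoint X)) = ⊥ :=
  (IsLocalRing.isField_iff_maximalIdeal_eq).mp isField_generic

/-- The generic stalk as a space of rational sections. -/
noncomputable abbrev rat (F : X.Modules) (v : F.presheaf.stalk (genericPoint X)) :
    Cyc.secFibre F (genericPoint X) := Submodule.Quotient.mk v

theorem rat_injective (F : X.Modules) : Function.Injective (rat F) := fun a b h => by
  rw [Submodule.Quotient.eq, maximalIdeal_generic, Submodule.bot_smul, Submodule.mem_bot,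
    sub_eq_zero] at h
  exact h

theorem exists_rat_eq (F : X.Modules) (s : Cyc.secFibre F (genericPoint X)) :
    ∃ v, rat F v = s := Submodule.Quotient.mk_surjective _ s

theorem rat_ne_zero_iff (F : X.Modules) (v : F.presheaf.stalk (genericPoint X)) :
    rat F v ≠ 0 ↔ v ≠ 0 :=
  not_congr ⟨fun h => rat_injective F (h.trans (Submodule.Quotient.mk_zero _).symm),
    fun h => h ▸ Submodule.Quotient.mk_zero _⟩

theorem residue_generic_bijective : Function.Bijective (X.residue (genericPoint X)).hom := by
  refine ⟨?_, X.residue_surjective (genericPoint X)⟩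
  rw [RingHom.injective_iff_ker_eq_bot]
  exact (show RingHom.ker (X.residue (genericPoint X)).hom =
    IsLocalRing.maximalIdeal (X.presheaf.stalk (genericPoint X)) from
      Ideal.mk_ker).trans maximalIdeal_generic

/-- The order of a rational function along a codimension one point is Mathlib's order. -/
theorem ordAt_eq [IsLocallyNoetherian X] {x : X} (hx : Order.coheight x = 1) (φ : X.functionField) :
    Cyc.ordAt x (genericPoint X) (spec_generic x) (X.residue (genericPoint X) φ) =
      Scheme.ord φ x := by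
  classical
  let sm := Cyc.specMap x (genericPoint X) (spec_generic x)
  letI : Algebra (X.presheaf.stalk x ⧸ RingHom.ker sm) (X.residueField (genericPoint X)) :=
    H22Alg.CycDiv.quotAlg sm
  have hker : RingHom.ker sm = ⊥ := by
    rw [← RingHom.injective_iff_ker_eq_bot]
    exact residue_generic_bijective.1.comp (spO_injective x)
  let e : X.presheaf.stalk x ≃+* X.presheaf.stalk x ⧸ RingHom.ker sm :=
    (RingEquiv.quotientBot (X.presheaf.stalk x)).symm.trans (Ideal.quotEquivOfEq hker.symm)
  let K : Type u := X.functionField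
  let ψ : K ≃+* X.residueField (genericPoint X) :=
    RingEquiv.ofBijective (X.residue (genericPoint X)).hom residue_generic_bijective
  have h := H22Alg.CycDiv.ordFrac_congr (K := K) e ψ (fun r => rfl) φ
  refine (show Cyc.ordAt x (genericPoint X) (spec_generic x) (X.residue (genericPoint X) φ) =
    CycAlg.ordFrac (X.presheaf.stalk x ⧸ RingHom.ker sm) (X.residueField (genericPoint X)) (ψ φ) from
      rfl).trans (h.trans ?_)
  haveI : Ring.KrullDimLE 1 (X.presheaf.stalk x) := krullDimLE_of_coheight_le hx.le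
  haveI : IsNoetherianRing (X.presheaf.stalk x) := inferInstance
  rw [Scheme.ord_eq_ordHom_of_coheight_eq_one hx, CycAlg.ordFrac,
    dif_pos ⟨inferInstance, inferInstance, inferInstance, inferInstance⟩]
  show WithZero.recZeroCoe (motive := fun _ => ℤ) 0 (fun z => Multiplicative.toAdd z)
    (Ring.ordFrac (X.presheaf.stalk x) φ) = Multiplicative.toAdd ((Ring.ordFrac (X.presheaf.stalk x) φ).unzeroD 1)
  generalize Ring.ordFrac (X.presheaf.stalk x) φ = z
  cases z <;> rfl

/-- The order of a rational section. -/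
noncomputable abbrev secO (F : X.Modules) (x : X) (v : F.presheaf.stalk (genericPoint X)) : ℤ :=
  Cyc.secOrdAt F (genericPoint X) x (spec_generic x) (rat F v)

theorem ord_unit [IsLocallyNoetherian X] {x : X} {a : X.presheaf.stalk x} (ha : IsUnit a) :
    Scheme.ord (spO x a : X.functionField) x = 0 := by
  by_cases hx : Order.coheight x = 1
  · haveI : Ring.KrullDimLE 1 (X.presheaf.stalk x) := krullDimLE_of_coheight_le hx.le
    rw [Scheme.ord_eq_iff hx ((map_ne_zero_iff _ (spO_injective x)).mpr ha.ne_zero)]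
    exact Ring.ordFrac_of_isUnit ha
  · exact Scheme.ord_eq_zero_of_coheight_neq_one hx _

/-- A generator at `x` that stays nonzero and generates at the generic point. -/
structure IsStalkGen (F : X.Modules) (x : X) (t : F.presheaf.stalk x) : Prop where
  span_eq : Submodule.span (X.presheaf.stalk x) {t} = ⊤
  sp_ne : sp F x t ≠ 0
  exists_smul : ∀ v, ∃ φ : X.presheaf.stalk (genericPoint X), v = φ • sp F x t

theorem smul_right_inj (F : X.Modules) {v : F.presheaf.stalk (genericPoint X)} (hv : v ≠ 0)
    {a b : X.presheaf.stalk (genericPoint X)} (h : a • v = b • v) : a = b := by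
  letI := (isField_generic (X := X)).toField
  exact smul_left_injective _ hv h

/-- The order in terms of a generator. -/
theorem secO_eq [IsLocallyNoetherian X] {F : X.Modules} {x : X} (hx : Order.coheight x = 1)
    {t : F.presheaf.stalk x} (ht : IsStalkGen F x t) {v : F.presheaf.stalk (genericPoint X)}
    (hv : v ≠ 0) {φ : X.functionField} (hφ : v = (φ : X.presheaf.stalk (genericPoint X)) • sp F x t) :
    secO F x v = Scheme.ord φ x := by
  classical
  have h1 : ∃ t : F.presheaf.stalk x, Submodule.span (X.presheaf.stalk x) {t} = ⊤ := ⟨t, ht.span_eq⟩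
  obtain ⟨b, hb⟩ := Submodule.mem_span_singleton.mp
    (h1.choose_spec.symm ▸ Submodule.mem_top : t ∈ Submodule.span (X.presheaf.stalk x) {h1.choose})
  obtain ⟨a, ha⟩ := Submodule.mem_span_singleton.mp
    (ht.span_eq.symm ▸ Submodule.mem_top : h1.choose ∈ Submodule.span (X.presheaf.stalk x) {t})
  have hba : b * a = 1 := by
    refine spO_injective x (smul_right_inj F ht.sp_ne ?_)
    rw [← sp_smul, map_one, one_smul, mul_smul, ha, hb]
  have hbu : IsUnit b := IsUnit.of_mul_eq_one _ hba
  have hv' : v = (φ * spO x b : X.presheaf.stalk (genericPoint X)) • sp F x h1.choose := by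
    rw [mul_smul, ← sp_smul, hb, hφ]
  have h2 : ∃ ψ : X.presheaf.stalk (genericPoint X), rat F v =
      ψ • (Submodule.Quotient.mk ((F.presheaf.stalkSpecializes (spec_generic x)) h1.choose) :
        Cyc.secFibre F (genericPoint X)) :=
    ⟨_, congrArg (rat F) hv'⟩
  show Cyc.secOrdAt F (genericPoint X) x (spec_generic x) (rat F v) = _
  rw [Cyc.secOrdAt, dif_pos h1, dif_pos h2, ordAt_eq hx]
  have e : h2.choose = φ * spO x b := by
    have hne : sp F x h1.choose ≠ 0 := fun h => hv (by rw [hv', h, smul_zero])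
    refine smul_right_inj F hne ?_
    rw [← hv']
    exact (rat_injective F (h2.choose_spec.trans (Submodule.Quotient.mk_smul _ _ _).symm)).symm
  rw [show Classical.choose h2 = φ * spO x b from e]
  have hφ0 : φ ≠ 0 := fun h => hv (by rw [hφ, h]; exact zero_smul _ _)
  refine (Scheme.ord_mul hφ0 ((map_ne_zero_iff _ (spO_injective x)).mpr hbu.ne_zero)).trans ?_
  rw [ord_unit hbu, add_zero]

theorem secO_smul [IsLocallyNoetherian X] {F : X.Modules} {x : X} (hx : Order.coheight x = 1)
    {t : F.presheaf.stalk x} (ht : IsStalkGen F x t) {v : F.presheaf.stalk (genericPoint X)}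
    (hv : v ≠ 0) {f : X.functionField} (hf : f ≠ 0) :
    secO F x ((f : X.presheaf.stalk (genericPoint X)) • v) = Scheme.ord f x + secO F x v := by
  obtain ⟨φ, hφ⟩ := ht.exists_smul v
  have hφ0 : (φ : X.functionField) ≠ 0 := fun h => hv (by
    rw [hφ, show φ = 0 from h]; exact zero_smul _ _)
  have hfv : (f : X.presheaf.stalk (genericPoint X)) • v ≠ 0 := by
    letI := (isField_generic (X := X)).toField
    exact smul_ne_zero hf hv
  rw [secO_eq hx ht hv hφ, secO_eq hx ht hfv (φ := f * φ) (by rw [hφ, mul_smul]),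
    Scheme.ord_mul hf hφ0]

/-- Free rank one stalks at a point and at the generic point give a generator. -/
theorem exists_isStalkGen {F : X.Modules} (hF : Coh.IsQCoh F) (hFt : TorSh.IsTorsionFree F)
    (hη : StalkFree F 1 (genericPoint X)) (x : X) (h : StalkFree F 1 x) :
    ∃ t, IsStalkGen F x t := by
  obtain ⟨b⟩ := h
  obtain ⟨e⟩ := hη
  have hne : sp F x (b 0) ≠ 0 := fun h => b.ne_zero 0 (sp_injective F hF hFt x (h.trans (map_zero _).symm))
  refine ⟨b 0, ?_, hne, fun v => ?_⟩
  · rw [← b.span_eq]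
    congr 1
    ext w
    simp [Fin.exists_fin_one, eq_comm]
  · letI := (isField_generic (X := X)).toField
    have hs : ∀ w, w = e.repr w 0 • e 0 := fun w => by
      conv_lhs => rw [← e.sum_repr w, Fin.sum_univ_one]
    have hc : e.repr (sp F x (b 0)) 0 ≠ 0 := fun h => hne (by rw [hs (sp F x (b 0)), h, zero_smul])
    refine ⟨e.repr v 0 / e.repr (sp F x (b 0)) 0, ?_⟩
    exact ((congrArg (_ • ·) (hs (sp F x (b 0)))).trans (by
      rw [smul_smul, div_mul_cancel₀ _ hc]; exact (hs v).symm)).symm

/-- Rank one is read off the generic stalk. -/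
theorem stalkFree_generic [IsLocallyNoetherian X] (F : X.Modules) (hF : Coh.IsCoh F)
    (hrk : RefHull.GenInvertible F) : StalkFree F 1 (genericPoint X) := by
  obtain ⟨U, hUd, hU⟩ := hrk
  obtain ⟨y, hyU⟩ := hUd.nonempty
  obtain ⟨W, hηW, ⟨e⟩⟩ := hU ⟨_, genericPoint_mem hyU⟩
  refine H8Props.FunDescent.stalkFree_of_isFreeOfRankNear F hF.1 ⟨U.ι ''ᵁ W, ⟨_, hηW, rfl⟩,
    ⟨H11Tilde.restrictImageIso U.ι F W ≪≫
      (Scheme.Modules.restrictFunctor (U.ι.isoImage W).inv).mapIso e ≪≫
      Scheme.Modules.restrictUnitIso (U.ι.isoImage W).inv ≪≫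
      (coproductUniqueIso fun _ : Fin 1 =>
        Coh.structureModule (↑(U.ι ''ᵁ W) : Scheme.{u})).symm⟩⟩

/-- Rank one from the generic stalk. -/
theorem genInvertible_of_stalkFree [IsLocallyNoetherian X] (F : X.Modules) (hF : Coh.IsCoh F)
    (h : StalkFree F 1 (genericPoint X)) : RefHull.GenInvertible F := by
  obtain ⟨U, hU, ⟨e⟩⟩ := exists_iso_of_isFreeOfRankNear_one F _
    (H8Props.FunDescent.isFreeOfRankNear_of_stalkFree_of_isFP F (H10Coh.isFP_of_isCoh F hF) h)
  refine ⟨U, IsOpen.dense U.2 ⟨_, hU⟩, fun z => ⟨⊤, trivial, ⟨?_⟩⟩⟩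
  exact (Scheme.Modules.restrictFunctor (Scheme.Opens.ι (⊤ : (U : Scheme.{u}).Opens))).mapIso e ≪≫
    Scheme.Modules.restrictUnitIso _

/-- Where the stalk is free, a rank one module has rank one. -/
theorem stalkFree_one_of_free [IsLocallyNoetherian X] (F : X.Modules) (hF : Coh.IsCoh F)
    (hη : StalkFree F 1 (genericPoint X)) (x : X)
    [Module.Free (X.presheaf.stalk x) (F.presheaf.stalk x)] : StalkFree F 1 x := by
  haveI := finite_stalk F hF.2 x
  have hb : StalkFree F (Module.finrank (X.presheaf.stalk x) (F.presheaf.stalk x)) x :=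
    ⟨Module.finBasis _ _⟩
  obtain ⟨V, hxV, hV⟩ := H8Props.FunDescent.isFreeOfRankNear_of_stalkFree_of_isFP F
    (H10Coh.isFP_of_isCoh F hF) hb
  have hn := H8Props.FunDescent.stalkFree_unique hη
    (H8Props.FunDescent.stalkFree_of_isFreeOfRankNear F hF.1
      (x := genericPoint X) ⟨V, genericPoint_mem hxV, hV⟩)
  exact hn ▸ hb

/-- Generators of rank one reflexive modules at points of codimension one. -/
theorem exists_isStalkGen_of_isRef1 [IsLocallyNoetherian X] (hX : Pi1.IsNormalScheme X)
    (F : X.Modules) (hF : RefHull.IsRef1 F) (x : X) (hx : Order.coheight x = 1) :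
    ∃ t, IsStalkGen F x t := by
  have hFt := isTorsionFree_of_isReflexive F hF.1 hF.2.1
  have hη := stalkFree_generic F hF.1 hF.2.2
  haveI := isDiscreteValuationRing_stalk hX x (by rw [ringKrullDim_stalk_eq_coheight, hx]; rfl)
  haveI := finite_stalk F hF.1.2 x
  haveI := hFt x
  haveI : Module.Free (X.presheaf.stalk x) (F.presheaf.stalk x) :=
    Module.free_of_finite_type_torsion_free'
  exact exists_isStalkGen hF.1.1 hFt hη x (stalkFree_one_of_free F hF.1 hη x)

/-- A rank one module has order zero outside the complement of a nonempty open. -/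
theorem exists_open_secO_eq_zero [IsLocallyNoetherian X] (F : X.Modules) (hF : Coh.IsCoh F)
    (hη : StalkFree F 1 (genericPoint X)) (v : F.presheaf.stalk (genericPoint X)) (hv : v ≠ 0) :
    ∃ V : X.Opens, genericPoint X ∈ V ∧ ∀ x ∈ V, Order.coheight x = 1 → secO F x v = 0 := by
  obtain ⟨b⟩ := id hη
  obtain ⟨U, hU, g, hg⟩ := TopCat.Presheaf.exists_germ_eq F.presheaf (b 0)
  obtain ⟨W, hηW, hW⟩ := H8Props.FunDescent.isFreeOfRankNear_of_stalkFree_of_isFP F
    (H10Coh.isFP_of_isCoh F hF) hη
  obtain ⟨O, hηO, I, _, m, hm⟩ := exists_span_germ F hF.2 (genericPoint X)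
  letI := Fintype.ofFinite I
  have hrepr : ∀ w, w = b.repr w 0 • b 0 := fun w => by
    conv_lhs => rw [← b.sum_repr w, Fin.sum_univ_one]
  choose a ha using fun i => show ∃ a : X.presheaf.stalk (genericPoint X),
    F.presheaf.germ O _ hηO (m i) = ∑ _j ∈ ({()} : Finset Unit), a • F.presheaf.germ U _ hU g from
      ⟨b.repr (F.presheaf.germ O _ hηO (m i)) 0, by rw [Finset.sum_singleton, hg]; exact hrepr _⟩
  choose V hηV hVO hVU d hd using fun i =>
    exists_nhd_germ_eq_sum F (m i) (fun _ : Unit => g) (genericPoint X) hηO hU {()} (fun _ => a i) (ha i)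
  obtain ⟨R, hηR, f, hf⟩ := TopCat.Presheaf.exists_germ_eq X.presheaf (b.repr v 0)
  have hf0 : b.repr v 0 ≠ 0 := fun h => hv (by rw [hrepr v, h, zero_smul])
  have hηB : genericPoint X ∈ X.basicOpen f := by
    rw [X.mem_basicOpen f _ hηR, hf]
    letI := (isField_generic (X := X)).toField
    exact Ne.isUnit hf0
  let V₀ : X.Opens := (Finset.univ.inf V ⊓ O) ⊓ (U ⊓ W ⊓ X.basicOpen f)
  have hηV₀ : genericPoint X ∈ V₀ := by
    refine ⟨⟨?_, hηO⟩, ⟨hU, hηW⟩, hηB⟩
    show genericPoint X ∈ ((Finset.univ.inf V : X.Opens) : Set X)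
    rw [Opens.coe_finset_inf]
    simp only [Finset.inf_set_eq_iInter, Set.mem_iInter]
    exact fun i _ => hηV i
  refine ⟨V₀, hηV₀, fun x hx hx1 => ?_⟩
  obtain ⟨⟨hxV, hxO⟩, ⟨hxU, hxW⟩, hxB⟩ := hx
  have hxi : ∀ i, x ∈ V i := fun i =>
    (show Finset.univ.inf V ≤ V i from Finset.inf_le (Finset.mem_univ i)) hxV
  have hspan : Submodule.span (X.presheaf.stalk x) {F.presheaf.germ U x hxU g} = ⊤ := by
    rw [eq_top_iff, ← hm x hxO, Submodule.span_le]
    rintro _ ⟨i, rfl⟩
    refine Submodule.mem_span_singleton.mpr ⟨X.presheaf.germ (V i) x (hxi i) (d i ()), ?_⟩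
    have h1 := congrArg (fun q : Γ(F, V i) => F.presheaf.germ (V i) x (hxi i) q) (hd i)
    simp only [Finset.sum_singleton] at h1
    rw [germ_res, Mero.germ_smul, germ_res] at h1
    exact h1.symm
  have hgen : IsStalkGen F x (F.presheaf.germ U x hxU g) := ⟨hspan, by
      rw [sp_germ, hg]; exact b.ne_zero 0, fun w => ⟨b.repr w 0, by rw [sp_germ, hg]; exact hrepr w⟩⟩
  rw [secO_eq hx1 hgen hv (φ := (b.repr v 0 : X.functionField)) (by rw [sp_germ, hg]; exact hrepr v)]
  have hxR : x ∈ R := X.basicOpen_le f hxB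
  rw [← hf, ← spO_germ x hxR f]
  exact ord_unit ((X.mem_basicOpen f x hxR).mp hxB)

/-- Points of codimension one with nonzero order are locally finite. -/
theorem finite_secO_ne_zero [IsLocallyNoetherian X] (F : X.Modules) (hF : Coh.IsCoh F)
    (hη : StalkFree F 1 (genericPoint X)) (v : F.presheaf.stalk (genericPoint X)) (hv : v ≠ 0)
    {W : X.Opens} (hW : IsAffineOpen W) :
    {x | x ∈ W ∧ Order.coheight x = 1 ∧ secO F x v ≠ 0}.Finite := by
  obtain ⟨V, hηV, hV⟩ := exists_open_secO_eq_zero F hF hη v hv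
  exact (S2877.finite_coheight_one V.2.isClosed_compl (fun h => h hηV) hW).subset
    fun x ⟨hxW, hx1, hne⟩ => ⟨fun hxV => hne (hV x hxV hx1), hxW, hx1⟩

end Groth.Agent.H29Ref
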