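import Groth.Agent.H29Ref.Hartogs
import Groth.Agent.H29Ref.RefPow
import Groth.Agent.H29Ref.DenseExt
import Groth.Agent.H29Ref.DepthCriterion
import Groth.Agent.H29Ref.SecOrd
import Groth.Agent.H16Derived.KFlat.PerfConcD

/-!
# Reflexive modules and big opens
-/

set_option autoImplicit false
set_option maxHeartbeats 400000
set_option linter.style.haveILetI false

universe u

open CategoryTheory CategoryTheory.Limits AlgebraicGeometry Opposite TopologicalSpace

namespace Groth.Agent.H29Ref

variable {X : Scheme.{u}}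

/-- Finite torsion-free modules over one-dimensional normal points are free. -/
theorem free_of_dim_le_one [IsIntegral X] [IsLocallyNoetherian X] (hX : Pi1.IsNormalScheme X)
    (x : X) (hx : ringKrullDim (X.presheaf.stalk x) ≤ 1)
    (M : Type u) [AddCommGroup M] [Module (X.presheaf.stalk x) M]
    [Module.Finite (X.presheaf.stalk x) M] [Module.IsTorsionFree (X.presheaf.stalk x) M] :
    Module.Free (X.presheaf.stalk x) M := by
  by_cases h1 : (1 : WithBot ℕ∞) ≤ ringKrullDim (X.presheaf.stalk x)
  · haveI := isDiscreteValuationRing_stalk hX x (le_antisymm hx h1)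
    exact Module.free_of_finite_type_torsion_free'
  · letI := (isField_of_dim_zero x h1).toField
    exact Module.Free.of_divisionRing _ _

/-- A module locally free on an open is free near its points. -/
theorem exists_isFreeOfRankNear_of_restrict (F : X.Modules) (U : X.Opens)
    (h : FlatMod.IsFinLocFree (F.restrict U.ι)) (x : X) (hx : x ∈ U) :
    ∃ n, FlatFun.IsFreeOfRankNear F n x := by
  obtain ⟨W, n, hW, ⟨e⟩⟩ := h ⟨x, hx⟩
  refine ⟨n, U.ι ''ᵁ W, ⟨_, hW, rfl⟩, ⟨H11Tilde.restrictImageIso U.ι F W ≪≫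
      (Scheme.Modules.restrictFunctor (U.ι.isoImage W).inv).mapIso e ≪≫
      (Scheme.Modules.restrictFunctorIsoPullback (U.ι.isoImage W).inv).app _ ≪≫
      H16Derived.KFlat.Stalk.freeModPullbackIso (U.ι.isoImage W).inv n⟩⟩

/-- A module free near every point of an open is locally free there. -/
theorem isFinLocFree_restrict (F : X.Modules) (U : X.Opens)
    (h : ∀ x ∈ U, ∃ n, FlatFun.IsFreeOfRankNear F n x) : FlatMod.IsFinLocFree (F.restrict U.ι) := by
  refine H16Derived.KFlat.Stalk.isFinLocFree_restrict_of_forall fun x hx => ?_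
  obtain ⟨n, V, hxV, ⟨e⟩⟩ := h x hx
  refine ⟨U ⊓ V, ⟨hx, hxV⟩, inf_le_left,
    H16Derived.KFlat.Stalk.isFinLocFree_restrict_of_le (inf_le_right : U ⊓ V ≤ V)
      (H16Derived.KFlat.Stalk.isFinLocFree_of_iso e.symm fun y => ⟨⊤, n, trivial, ⟨?_⟩⟩)⟩
  exact (Scheme.Modules.restrictFunctorIsoPullback _).app _ ≪≫
    H16Derived.KFlat.Stalk.freeModPullbackIso _ n

/-- The unit of restriction is an isomorphism iff all sections extend uniquely from the open. -/
theorem isIso_unit_iff (F : X.Modules) (U : X.Opens) :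
    IsIso ((Scheme.Modules.restrictAdjunction U.ι).unit.app F) ↔
      ∀ W : X.Opens, Function.Bijective (F.presheaf.map (homOfLE (U.ι.image_preimage_le W)).op) := by
  rw [Scheme.Modules.Hom.isIso_iff_isIso_app]
  exact forall_congr' fun W => by
    rw [ConcreteCategory.isIso_iff_bijective, Scheme.Modules.restrictAdjunction_unit_app_app]
    rfl

/-- A module extending uniquely from an open on which it is reflexive is reflexive on a normal scheme. -/
theorem isReflexive_of_isIso_unit [IsIntegral X] [IsLocallyNoetherian X] (hX : Pi1.IsNormalScheme X)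
    (F : X.Modules) (hF : Coh.IsCoh F) (U : X.Opens)
    (hU : ∀ x : X, x ∉ U → (2 : WithBot ℕ∞) ≤ ringKrullDim (X.presheaf.stalk x))
    (hb : ∀ x ∈ U, Function.Bijective (RefHull.stalkMapₗ (RefHull.bidualMap F) x))
    (h : IsIso ((Scheme.Modules.restrictAdjunction U.ι).unit.app F)) : RefHull.IsReflexive F := by
  rw [RefHull.IsReflexive, Scheme.Modules.Hom.isIso_iff_isIso_app]
  intro W
  rw [ConcreteCategory.isIso_iff_bijective]
  have hle := U.ι.image_preimage_le W
  have hnat : ∀ a, (RefHull.bidualMap F).app _ (F.presheaf.map (homOfLE hle).op a) =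
      (RefHull.ddual F).presheaf.map (homOfLE hle).op ((RefHull.bidualMap F).app W a) :=
    fun a => congr($((RefHull.bidualMap F).mapPresheaf.naturality (homOfLE hle).op) a)
  have h1 := (isIso_unit_iff F U).mp h W
  have h2 := bijective_res hX (RefHull.ddual F) (isCoh_ddual F hF) (isReflexive_ddual F hF) hle
    fun x hxW hx => hU x fun hxU => hx ⟨⟨x, hxU⟩, hxW, rfl⟩
  haveI := isIso_restrict_of_bijective U (RefHull.bidualMap F) hb
  have h3 : Function.Bijective ((RefHull.bidualMap F).app (U.ι ''ᵁ (U.ι ⁻¹ᵁ W))) :=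
    (ConcreteCategory.isIso_iff_bijective _).mp (Scheme.Modules.Hom.isIso_iff_isIso_app.mp
      (inferInstance : IsIso ((Scheme.Modules.restrictFunctor U.ι).map (RefHull.bidualMap F))) (U.ι ⁻¹ᵁ W))
  have hfun : ((RefHull.ddual F).presheaf.map (homOfLE hle).op : _ → _) ∘
      (RefHull.bidualMap F).app W =
      (RefHull.bidualMap F).app _ ∘ F.presheaf.map (homOfLE hle).op := funext fun a => (hnat a).symm
  exact (Function.Bijective.of_comp_iff' h2 _).mp (hfun ▸ h3.comp h1)

/-- Reflexive modules over points of depth at least two have depth at least two. -/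
theorem two_le_depth_of_isReflexive {R : Type u} [CommRing R] [IsLocalRing R] [IsNoetherianRing R]
    (M : Type u) [AddCommGroup M] [Module R M] [Module.Finite R M] [Module.IsReflexive R M]
    (h : (2 : ℕ∞) ≤ LocCoh.depth R R) : (2 : ℕ∞) ≤ LocCoh.depth R M := by
  haveI : Module.Finite R (Module.Dual R M) := by
    obtain ⟨k, m₀, f₀, g₀, hf₀, -⟩ := H4Depth.exists_dual_presentation (R := R) M
    exact Module.Finite.of_injective f₀ hf₀
  obtain ⟨n, m, f, g, hf, hfg⟩ := H4Depth.exists_dual_presentation (R := R) (Module.Dual R M)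
  have hpi : ∀ k, (2 : ℕ∞) ≤ LocCoh.idealDepth (IsLocalRing.maximalIdeal R) (Fin k → R) := fun k =>
    h.trans (H4Depth.idealDepth_le_idealDepth_pi _ k)
  have h2 : (2 : ℕ∞) ≤ LocCoh.depth R (Module.Dual R (Module.Dual R M)) :=
    H4Depth.two_le_idealDepth_of_exact _ hf hfg (hpi n) ((show (1 : ℕ∞) ≤ 2 by norm_num).trans (hpi m))
  rwa [H4Depth.depth_congr (Module.evalEquiv R M)]

/-- The generic point lies in every open containing all points of small depth. -/
theorem genericPoint_mem_of_depth [IsIntegral X] [IsLocallyNoetherian X] (U : X.Opens)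
    (hU : ∀ x : X, x ∉ U → (2 : ℕ∞) ≤ LocCoh.depth (X.presheaf.stalk x) (X.presheaf.stalk x)) :
    genericPoint X ∈ U := by
  by_contra hη
  have h1 := (hU _ hη)
  have h2 : ((LocCoh.depth (X.presheaf.stalk (genericPoint X)) (X.presheaf.stalk (genericPoint X)) : ℕ∞) : WithBot ℕ∞) ≤ 0 :=
    (H4Depth.depth_le_supportDim.trans (Module.supportDim_le_ringKrullDim _ _)).trans
      (ringKrullDim_eq_zero_of_isField isField_generic).le
  have h3 : ((2 : ℕ∞) : WithBot ℕ∞) ≤ 0 := (WithBot.coe_le_coe.mpr h1).trans h2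
  exact absurd h3 (by decide)

/-- Reflexive modules extend uniquely across points of depth two. -/
theorem isIso_unit_of_depth_two [IsIntegral X] [IsLocallyNoetherian X] (U : X.Opens)
    (hU : ∀ x : X, x ∉ U → (2 : ℕ∞) ≤ LocCoh.depth (X.presheaf.stalk x) (X.presheaf.stalk x))
    (F : X.Modules) (hF : Coh.IsCoh F) (hFr : RefHull.IsReflexive F) :
    IsIso ((Scheme.Modules.restrictAdjunction U.ι).unit.app F) := by
  have hηU := genericPoint_mem_of_depth U hU
  have hFt := isTorsionFree_of_isReflexive F hF hFr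
  haveI : F.IsQuasicoherent := hF.1
  let G : X.Modules := (Scheme.Modules.pushforward U.ι).obj (F.restrict U.ι)
  let η : F ⟶ G := (Scheme.Modules.restrictAdjunction U.ι).unit.app F
  haveI : (F.restrict U.ι).IsQuasicoherent := Scheme.Modules.isQuasicoherent_restrictFunctor _ F
  have hG : Coh.IsQCoh G := H10Coh.isQuasicoherent_pushforward U.ι _
  -- sections of `G` are determined at the generic point
  have hinj : ∀ (O : X.Opens) (h : genericPoint X ∈ U.ι ''ᵁ (U.ι ⁻¹ᵁ O)),
      Function.Injective (F.presheaf.germ _ _ h) := fun O h => germ_generic_injective F hF.1 hFt h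
  refine isIso_of_depth_two η hF hG fun x => ?_
  by_cases hx : x ∈ U
  · left
    show Function.Bijective ((Scheme.Modules.toPresheaf X ⋙ TopCat.Presheaf.stalkFunctor Ab.{u} x).map η)
    refine (ConcreteCategory.isIso_iff_bijective _).1 ?_
    refine (NatIso.isIso_map_iff (Scheme.Modules.restrictStalkNatIso U.ι ⟨x, hx⟩) η).1 ?_
    haveI : IsIso ((Scheme.Modules.restrictFunctor U.ι).map η) := by
      haveI : IsIso ((Scheme.Modules.restrictFunctor U.ι).map η ≫
          (Scheme.Modules.restrictAdjunction U.ι).counit.app ((Scheme.Modules.restrictFunctor U.ι).obj F)) := by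
        rw [(Scheme.Modules.restrictAdjunction U.ι).left_triangle_components]
        infer_instance
      exact IsIso.of_isIso_comp_right _ ((Scheme.Modules.restrictAdjunction U.ι).counit.app _)
    exact Functor.map_isIso (Scheme.Modules.toPresheaf (U : Scheme.{u}) ⋙
      TopCat.Presheaf.stalkFunctor Ab.{u} (⟨x, hx⟩ : (U : Scheme.{u})))
      ((Scheme.Modules.restrictFunctor U.ι).map η)
  · right
    haveI := finite_stalk F hF.2 x
    haveI : Module.IsReflexive (X.presheaf.stalk x) (F.presheaf.stalk x) :=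
      (isReflexive_iff F hF).mp hFr x
    refine ⟨two_le_depth_of_isReflexive _ (hU x hx), fun hass => hx ?_⟩
    obtain ⟨-, t, ht⟩ := isAssociatedPrime_iff.mp hass
    obtain ⟨O, hxO, s, rfl⟩ := TopCat.Presheaf.exists_germ_eq G.presheaf t
    by_contra
    have hm : ∃ a ∈ IsLocalRing.maximalIdeal (X.presheaf.stalk x), a ≠ 0 := by
      refine (Submodule.ne_bot_iff _).mp fun hb => ?_
      have h1 : ((LocCoh.depth (X.presheaf.stalk x) (X.presheaf.stalk x) : ℕ∞) : WithBot ℕ∞) ≤ 0 :=
        (H4Depth.depth_le_supportDim.trans (Module.supportDim_le_ringKrullDim _ _)).trans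
          (ringKrullDim_eq_zero_of_isField (IsLocalRing.isField_iff_maximalIdeal_eq.mpr hb)).le
      exact absurd ((WithBot.coe_le_coe.mpr (hU x hx)).trans h1) (by decide)
    obtain ⟨a, ha, ha0⟩ := hm
    have h0 := Submodule.mem_colon_singleton.mp (ht.le ha)
    obtain ⟨O', hxO', r, rfl⟩ := TopCat.Presheaf.exists_germ_eq X.presheaf a
    rw [Submodule.mem_bot] at h0
    let O'' := O ⊓ O'
    have hx'' : x ∈ O'' := ⟨hxO, hxO'⟩
    rw [← germ_res G (inf_le_left : O'' ≤ O) x hx'' s,
      ← TopCat.Presheaf.germ_res_apply X.presheaf (homOfLE (inf_le_right : O'' ≤ O')) x hx'' r,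
      ← Mero.germ_smul, ← map_zero (G.presheaf.germ O'' x hx'').hom] at h0
    obtain ⟨W, hxW, i₁, i₂, h4⟩ := TopCat.Presheaf.germ_eq G.presheaf x hx'' hx'' _ _ h0
    rw [map_zero, Scheme.Modules.map_smul] at h4
    let sW : Γ(F, U.ι ''ᵁ (U.ι ⁻¹ᵁ W)) :=
      G.presheaf.map i₁.op (G.presheaf.map (homOfLE (inf_le_left : O'' ≤ O)).op s)
    let rW : Γ(X, U.ι ''ᵁ (U.ι ⁻¹ᵁ W)) := X.presheaf.map (homOfLE (U.ι.image_preimage_le W)).op
      (X.presheaf.map i₁.op (X.presheaf.map (homOfLE (inf_le_right : O'' ≤ O')).op r))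
    have h5 : rW • sW = 0 := by
      have h5' : ((U.ι.app W ≫ (U.ι.appIso (U.ι ⁻¹ᵁ W)).inv)
          (X.presheaf.map i₁.op (X.presheaf.map (homOfLE (inf_le_right : O'' ≤ O')).op r))) • sW = 0 := h4
      rwa [Scheme.Hom.app_appIso_inv] at h5'
    have hηW : genericPoint X ∈ U.ι ''ᵁ (U.ι ⁻¹ᵁ W) :=
      ⟨⟨_, hηU⟩, genericPoint_mem hxW, rfl⟩
    have h6 : sW = 0 := by
      refine hinj W hηW ?_
      have h7 := congrArg (F.presheaf.germ _ _ hηW) h5
      rw [Mero.germ_smul, map_zero] at h7
      rw [map_zero]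
      refine (smul_eq_zero.mp h7).resolve_left fun h8 => ha0 ?_
      rw [TopCat.Presheaf.germ_res_apply, TopCat.Presheaf.germ_res_apply,
        TopCat.Presheaf.germ_res_apply, ← X.presheaf.germ_stalkSpecializes_apply hxO'
          (spec_generic x) r] at h8
      exact spO_injective x (h8.trans (map_zero _).symm)
    refine (IsLocalRing.maximalIdeal.isMaximal (X.presheaf.stalk x)).ne_top (ht.trans ?_)
    have h9 : G.presheaf.germ O x hxO s = 0 := by
      rw [← germ_res G (inf_le_left : O'' ≤ O) x hx'' s, ← germ_res G i₁.le x hxW]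
      exact (congrArg _ (show G.presheaf.map i₁.op (G.presheaf.map (homOfLE (inf_le_left : O'' ≤ O)).op s) = 0
        from h6)).trans (map_zero _)
    rw [h9]
    exact eq_top_iff.mpr fun b _ => Submodule.mem_colon_singleton.mpr (by simp)

end Groth.Agent.H29Ref
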