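import Groth.Agent.H29Ref.HomSections
import Groth.Agent.H17.PushColim
import Groth.Agent.H05EGA4.Regular
import Groth.Agent.H8Props.StalkLocal
import Groth.Agent.H10Coh.Proper

/-!
# Stalks of the dual and of the reflexive hull
-/

set_option autoImplicit false
set_option maxHeartbeats 400000

universe u

open CategoryTheory CategoryTheory.Limits AlgebraicGeometry Opposite TopologicalSpace

namespace Groth.Agent.H29Ref

variable {X : Scheme.{u}}

/-- The germ of the unit section. -/
noncomputable def oneStalk (x : X) : (Coh.structureModule X).presheaf.stalk x :=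
  (Coh.structureModule X).presheaf.germ ⊤ x trivial ((1 : Γ(X, ⊤)) : Γ(Coh.structureModule X, ⊤))

theorem germ_one (x : X) {U : X.Opens} (hx : x ∈ U) :
    (Coh.structureModule X).presheaf.germ U x hx ((1 : Γ(X, U)) : Γ(Coh.structureModule X, U)) =
      oneStalk x := by
  rw [oneStalk, ← germ_res (Coh.structureModule X) (le_top : U ≤ ⊤) x hx]
  exact congrArg _ (map_one (X.presheaf.map (homOfLE (le_top : U ≤ ⊤)).op).hom).symm

theorem germ_unit_eq_smul (x : X) {U : X.Opens} (hx : x ∈ U) (s : Γ(X, U)) :
    (Coh.structureModule X).presheaf.germ U x hx (s : Γ(Coh.structureModule X, U)) =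
      X.presheaf.germ U x hx s • oneStalk x := by
  rw [← germ_one x hx, ← Mero.germ_smul]
  exact congrArg _ (mul_one s).symm

theorem bijective_smul_oneStalk (x : X) :
    Function.Bijective (fun r : X.presheaf.stalk x => r • oneStalk x) := by
  constructor
  · suffices h0 : ∀ r : X.presheaf.stalk x, r • oneStalk x = 0 → r = 0 from fun a b hab =>
      sub_eq_zero.mp (h0 _ (by rw [sub_smul]; exact sub_eq_zero.mpr hab))
    intro r hr
    obtain ⟨U, hxU, a, rfl⟩ := TopCat.Presheaf.exists_germ_eq X.presheaf r
    have h : (Coh.structureModule X).presheaf.germ U x hxU (a : Γ(Coh.structureModule X, U)) =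
        (Coh.structureModule X).presheaf.germ U x hxU 0 := by
      rw [germ_unit_eq_smul, map_zero]; exact hr
    obtain ⟨W, hxW, i₁, i₂, h1⟩ :=
      TopCat.Presheaf.germ_eq (Coh.structureModule X).presheaf x hxU hxU _ _ h
    have h2 : X.presheaf.map i₁.op a = 0 := h1.trans (map_zero _)
    rw [← TopCat.Presheaf.germ_res_apply X.presheaf i₁ x hxW a, h2, map_zero]
  · intro v
    obtain ⟨U, hxU, s, rfl⟩ := TopCat.Presheaf.exists_germ_eq (Coh.structureModule X).presheaf v
    exact ⟨X.presheaf.germ U x hxU s, (germ_unit_eq_smul x hxU s).symm⟩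

/-- The stalk of the structure module is the local ring. -/
noncomputable def unitEquiv (x : X) :
    X.presheaf.stalk x ≃ₗ[X.presheaf.stalk x] (Coh.structureModule X).presheaf.stalk x :=
  LinearEquiv.ofBijective (LinearMap.toSpanSingleton _ _ (oneStalk x)) (bijective_smul_oneStalk x)

/-- The stalk of the dual of a finitely presented module is the dual of the stalk. -/
noncomputable def dualEquiv (F : X.Modules) (hF : CohB1.IsFP F) (x : X) :
    (RefHull.dual F).presheaf.stalk x ≃ₗ[X.presheaf.stalk x]
      Module.Dual (X.presheaf.stalk x) (F.presheaf.stalk x) :=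
  (LinearEquiv.ofBijective (RefHull.evalStalk F (Coh.structureModule X) x)
    (evalStalk_bijective F _ hF x)).trans
    ((LinearEquiv.refl (X.presheaf.stalk x) (F.presheaf.stalk x)).arrowCongr (unitEquiv x).symm)

theorem dualEquiv_apply (F : X.Modules) (hF : CohB1.IsFP F) (x : X)
    (θ : (RefHull.dual F).presheaf.stalk x) (v : F.presheaf.stalk x) :
    dualEquiv F hF x θ v =
      (unitEquiv x).symm (RefHull.evalStalk F (Coh.structureModule X) x θ v) := rfl

/-- The stalk of the reflexive hull is the double dual of the stalk. -/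
noncomputable def ddualEquiv (F : X.Modules) (hF : CohB1.IsFP F)
    (hF' : CohB1.IsFP (RefHull.dual F)) (x : X) :
    (RefHull.ddual F).presheaf.stalk x ≃ₗ[X.presheaf.stalk x]
      Module.Dual (X.presheaf.stalk x) (Module.Dual (X.presheaf.stalk x) (F.presheaf.stalk x)) :=
  (dualEquiv (RefHull.dual F) hF' x).trans (dualEquiv F hF x).symm.dualMap

/-- On stalks the biduality map is the evaluation into the double dual. -/
theorem ddualEquiv_bidual (F : X.Modules) (hF : CohB1.IsFP F) (hF' : CohB1.IsFP (RefHull.dual F))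
    (x : X) (v : F.presheaf.stalk x) :
    ddualEquiv F hF hF' x (RefHull.stalkMapₗ (RefHull.bidualMap F) x v) =
      Module.Dual.eval (X.presheaf.stalk x) (F.presheaf.stalk x) v := by
  obtain ⟨U, hxU, s, rfl⟩ := TopCat.Presheaf.exists_germ_eq F.presheaf v
  rw [RefHull.stalkMapₗ_germ]
  refine LinearMap.ext fun l => ?_
  show dualEquiv (RefHull.dual F) hF' x _ ((dualEquiv F hF x).symm l) = l _
  rw [dualEquiv_apply, RefHull.evalStalk_germ]
  show (unitEquiv x).symm (RefHull.bidualAt F x (F.presheaf.germ U x hxU s) ((dualEquiv F hF x).symm l)) = _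
  rw [RefHull.bidualAt_apply, ← dualEquiv_apply F hF x, LinearEquiv.apply_symm_apply]

/-- Reflexivity at a point is bijectivity of the stalk of the biduality map. -/
theorem isReflexiveAt_iff (F : X.Modules) (hF : CohB1.IsFP F) (hF' : CohB1.IsFP (RefHull.dual F))
    (x : X) : RefHull.IsReflexiveAt F x ↔
      Function.Bijective (RefHull.stalkMapₗ (RefHull.bidualMap F) x) := by
  have h : (Module.Dual.eval (X.presheaf.stalk x) (F.presheaf.stalk x) : _ → _) =
      ddualEquiv F hF hF' x ∘ RefHull.stalkMapₗ (RefHull.bidualMap F) x :=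
    funext fun v => (ddualEquiv_bidual F hF hF' x v).symm
  rw [← EquivLike.comp_bijective _ (ddualEquiv F hF hF' x)]
  exact ⟨fun hr => h ▸ hr.bijective_dual_eval', fun hb => ⟨h.symm ▸ hb⟩⟩

/-- An isomorphism is bijective on stalks and conversely. -/
theorem isIso_iff_bijective_stalk {F G : X.Modules} (φ : F ⟶ G) :
    IsIso φ ↔ ∀ x, Function.Bijective (RefHull.stalkMapₗ φ x) := by
  constructor
  · intro _ x
    exact (ConcreteCategory.isIso_iff_bijective _).1 ((H17.PushColim.stalkAb x).map_isIso φ)
  · intro h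
    exact H17.PushColim.isIso_of_stalkAb φ fun x => (ConcreteCategory.isIso_iff_bijective _).2 (h x)

theorem isCoh_dual [IsLocallyNoetherian X] (F : X.Modules) (hF : Coh.IsCoh F) :
    Coh.IsCoh (RefHull.dual F) :=
  isCoh_homSh F _ hF (H10Coh.isCoh_structureModule' X)

theorem isFP_dual [IsLocallyNoetherian X] (F : X.Modules) (hF : Coh.IsCoh F) :
    CohB1.IsFP (RefHull.dual F) :=
  H10Coh.isFP_of_isCoh _ (isCoh_dual F hF)

theorem isCoh_ddual [IsLocallyNoetherian X] (F : X.Modules) (hF : Coh.IsCoh F) :
    Coh.IsCoh (RefHull.ddual F) :=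
  isCoh_dual _ (isCoh_dual F hF)

/-- A coherent module on a locally Noetherian scheme is reflexive iff all its stalks are. -/
theorem isReflexive_iff [IsLocallyNoetherian X] (F : X.Modules) (hF : Coh.IsCoh F) :
    RefHull.IsReflexive F ↔ ∀ x : X, RefHull.IsReflexiveAt F x := by
  rw [RefHull.IsReflexive, isIso_iff_bijective_stalk]
  exact forall_congr' fun x =>
    (isReflexiveAt_iff F (H10Coh.isFP_of_isCoh F hF) (isFP_dual F hF) x).symm

/-- Bijectivity on stalks at closed points suffices for maps of coherent modules. -/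
theorem isIso_of_bijective_closed [IsLocallyNoetherian X] {F G : X.Modules} (φ : F ⟶ G)
    (hF : Coh.IsCoh F) (hG : Coh.IsCoh G)
    (h : ∀ x : X, IsClosed ({x} : Set X) → Function.Bijective (RefHull.stalkMapₗ φ x)) : IsIso φ := by
  have hz : ∀ M : X.Modules, CohB1.IsFT M →
      (∀ x : X, IsClosed ({x} : Set X) → Subsingleton (M.presheaf.stalk x)) → IsZero M := by
    intro M hM hM0
    have h0 : ∀ x : X, Subsingleton (M.presheaf.stalk x) := by
      intro x
      by_contra hx
      obtain ⟨z, hz, hzc⟩ := H05EGA4.exists_closedPoint X _ (H10Coh.isClosed_support M hM) ⟨x, hx⟩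
      exact hz (hM0 z hzc)
    rw [IsZero.iff_id_eq_zero]
    ext U s
    exact sec_ext M fun y hy => @Subsingleton.elim _ (h0 y) _ _
  have hk := hz (kernel φ) (H10Coh.isCoh_kernel φ hF hG.1).2 fun x hx =>
    H10Coh.subsingleton_stalk_kernel φ x (h x hx).1
  have hc := hz (cokernel φ) (H10Coh.isCoh_cokernel φ hF.1 hG).2 fun x hx =>
    H10Coh.subsingleton_stalk_cokernel φ x (h x hx).2
  haveI : Mono φ := Preadditive.mono_of_kernel_zero (hk.eq_of_src _ _)
  haveI : Epi φ := Preadditive.epi_of_cokernel_zero (hc.eq_of_tgt _ _)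
  exact isIso_of_mono_of_epi φ

end Groth.Agent.H29Ref
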