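import Groth.Agent.H29Ref.DualStalk
import Groth.Agent.H1CAlg.ReflexiveNormal
import Groth.Agent.H7Lim.Birational
import Groth.Prelude.Def_TorSh

/-!
# Reflexive modules on normal schemes as lattices in their generic stalk
-/

set_option autoImplicit false
set_option maxHeartbeats 400000

universe u

open CategoryTheory CategoryTheory.Limits AlgebraicGeometry Opposite TopologicalSpace

namespace Groth.Agent.H29Ref

/-- Algebraic Hartogs for reflexive modules over normal domains. -/
theorem exists_smul_eq_of_height_one {A : Type u} [CommRing A] [IsDomain A] [IsNoetherianRing A]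
    [IsIntegrallyClosed A] {N : Type u} [AddCommGroup N] [Module A N] [Module.IsReflexive A N]
    (c : A) (hc : c ≠ 0) (n : N)
    (h : ∀ (q : Ideal A) [q.IsPrime], q.height = 1 → ∃ s ∉ q, ∃ n' : N, s • n = c • n') :
    ∃ m : N, c • m = n := by
  have hl : ∀ l : Module.Dual A N, ∃ a : A, c * a = l n := by
    intro l
    let K := FractionRing A
    have hc' : algebraMap A K c ≠ 0 :=
      (map_ne_zero_iff _ (IsFractionRing.injective A K)).mpr hc
    obtain ⟨a, ha⟩ := Groth.Agent.H1CAlg.mem_range_of_height_le_one (R := A)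
      (algebraMap A K (l n) / algebraMap A K c) fun q _ hq => by
        obtain ⟨s, hs, n', hn'⟩ := h q hq
        refine ⟨s, hs, l n', ?_⟩
        have h2 := congrArg l hn'
        rw [map_smul, map_smul, smul_eq_mul, smul_eq_mul] at h2
        rw [← mul_div_assoc, div_eq_iff hc', ← map_mul, ← map_mul, h2, mul_comm]
    refine ⟨a, IsFractionRing.injective A K ?_⟩
    rw [map_mul, ha, mul_div_cancel₀ _ hc']
  choose a ha using hl
  let b : Module.Dual A (Module.Dual A N) :=
    { toFun := a
      map_add' := fun l l' => mul_left_cancel₀ hc (by rw [mul_add, ha, ha, ha, LinearMap.add_apply])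
      map_smul' := fun r l => mul_left_cancel₀ hc (by
        rw [ha, LinearMap.smul_apply, smul_eq_mul, RingHom.id_apply, smul_eq_mul, mul_left_comm, ha]) }
  obtain ⟨m, hm⟩ := (Module.bijective_dual_eval A N).2 b
  refine ⟨m, (Module.bijective_dual_eval A N).1 (LinearMap.ext fun l => ?_)⟩
  rw [map_smul, hm, LinearMap.smul_apply]
  exact ha l

/-- Over a principal ideal domain finite modules surject onto their double duals. -/
theorem surjective_eval_of_pid {A : Type u} [CommRing A] [IsDomain A] [IsPrincipalIdealRing A]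
    (M : Type u) [AddCommGroup M] [Module A M] [Module.Finite A M] :
    Function.Surjective (Module.Dual.eval A M) := by
  let q : M →ₗ[A] M ⧸ Submodule.torsion A M := Submodule.mkQ _
  have hb : Function.Bijective q.dualMap := by
    refine ⟨LinearMap.dualMap_injective_of_surjective (Submodule.mkQ_surjective _), fun l => ?_⟩
    have hle : Submodule.torsion A M ≤ LinearMap.ker l := fun v hv => ?_
    · exact ⟨(Submodule.torsion A M).liftQ l hle, Submodule.liftQ_mkQ _ _ hle⟩
    obtain ⟨⟨r, hr⟩, hrv⟩ := hv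
    have h : r * l v = 0 := by rw [← smul_eq_mul, ← map_smul, show r • v = 0 from hrv, map_zero]
    exact (mul_eq_zero.mp h).resolve_left (nonZeroDivisors.ne_zero hr)
  haveI : Module.Free A (M ⧸ Submodule.torsion A M) := Module.free_of_finite_type_torsion_free'
  intro ψ
  obtain ⟨w, hw⟩ := (Module.bijective_dual_eval A (M ⧸ Submodule.torsion A M)).2 (ψ.comp q.dualMap)
  obtain ⟨v, rfl⟩ := Submodule.mkQ_surjective _ w
  refine ⟨v, LinearMap.ext fun l => ?_⟩
  obtain ⟨l', rfl⟩ := hb.2 l
  exact LinearMap.congr_fun hw l'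

variable {X : Scheme.{u}}

/-- A nonempty open contains the generic point. -/
theorem genericPoint_mem [IsIntegral X] {U : X.Opens} {x : X} (hx : x ∈ U) : genericPoint X ∈ U :=
  ((genericPoint_spec X).specializes (Set.mem_univ x)).mem_open U.2 hx

/-- Specialisation to the generic point on stalks of a module. -/
noncomputable def sp [IsIntegral X] (M : X.Modules) (x : X) :
    M.presheaf.stalk x →+ M.presheaf.stalk (genericPoint X) :=
  (M.presheaf.stalkSpecializes ((genericPoint_spec X).specializes (Set.mem_univ x))).hom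

/-- Specialisation to the generic point on local rings. -/
noncomputable def spO [IsIntegral X] (x : X) :
    X.presheaf.stalk x →+* X.presheaf.stalk (genericPoint X) :=
  (X.presheaf.stalkSpecializes ((genericPoint_spec X).specializes (Set.mem_univ x))).hom

theorem sp_germ [IsIntegral X] (M : X.Modules) {U : X.Opens} (x : X) (hx : x ∈ U) (s : Γ(M, U)) :
    sp M x (M.presheaf.germ U x hx s) = M.presheaf.germ U (genericPoint X) (genericPoint_mem hx) s :=
  TopCat.Presheaf.germ_stalkSpecializes_apply M.presheaf hx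
    ((genericPoint_spec X).specializes (Set.mem_univ x)) s

theorem spO_germ [IsIntegral X] {U : X.Opens} (x : X) (hx : x ∈ U) (s : Γ(X, U)) :
    spO x (X.presheaf.germ U x hx s) = X.presheaf.germ U (genericPoint X) (genericPoint_mem hx) s :=
  TopCat.Presheaf.germ_stalkSpecializes_apply X.presheaf hx
    ((genericPoint_spec X).specializes (Set.mem_univ x)) s

theorem sp_smul [IsIntegral X] (M : X.Modules) (x : X) (a : X.presheaf.stalk x)
    (v : M.presheaf.stalk x) : sp M x (a • v) = spO x a • sp M x v := by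
  obtain ⟨U, hxU, r, rfl⟩ := TopCat.Presheaf.exists_germ_eq X.presheaf a
  obtain ⟨V, hxV, m, rfl⟩ := TopCat.Presheaf.exists_germ_eq M.presheaf v
  have hx : x ∈ U ⊓ V := ⟨hxU, hxV⟩
  rw [← TopCat.Presheaf.germ_res_apply X.presheaf (homOfLE (inf_le_left : U ⊓ V ≤ U)) x hx,
    ← germ_res M (inf_le_right : U ⊓ V ≤ V) x hx, ← Mero.germ_smul, sp_germ, sp_germ, spO_germ,
    Mero.germ_smul]

theorem sp_stalkMap [IsIntegral X] {M N : X.Modules} (φ : M ⟶ N) (x : X) (v : M.presheaf.stalk x) :
    sp N x (RefHull.stalkMapₗ φ x v) = RefHull.stalkMapₗ φ (genericPoint X) (sp M x v) := by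
  obtain ⟨V, hxV, m, rfl⟩ := TopCat.Presheaf.exists_germ_eq M.presheaf v
  rw [sp_germ, RefHull.stalkMapₗ_germ, sp_germ, RefHull.stalkMapₗ_germ]

theorem spO_injective [IsIntegral X] (x : X) : Function.Injective (spO (X := X) x) := by
  rw [injective_iff_map_eq_zero]
  intro a ha
  obtain ⟨U, hxU, r, rfl⟩ := TopCat.Presheaf.exists_germ_eq X.presheaf a
  rw [spO_germ, map_eq_zero_iff _ (germ_injective_of_isIntegral X _ _)] at ha
  rw [ha, map_zero]

/-- Torsion-free quasi-coherent modules embed in their generic stalk. -/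
theorem sp_injective [IsIntegral X] (M : X.Modules) (hM : Coh.IsQCoh M) (hMt : TorSh.IsTorsionFree M)
    (x : X) : Function.Injective (sp M x) := by
  haveI := hMt x
  rw [injective_iff_map_eq_zero]
  intro v hv
  obtain ⟨U, hU, hxU, -⟩ := exists_isAffineOpen_mem_and_subset (X := X) (x := x) (U := ⊤) trivial
  obtain ⟨t, w, hw⟩ := H29Blow.exists_germ_eq_smul M hM hU ⟨x, hxU⟩ v
  have hη : M.presheaf.germ U (genericPoint X) (genericPoint_mem hxU) t = 0 := by
    rw [← sp_germ M x hxU, hw, sp_smul, hv, smul_zero]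
  obtain ⟨c, hc, hct⟩ :=
    H29Blow.exists_smul_eq_zero_of_germ M hM hU ⟨_, genericPoint_mem hxU⟩ t hη
  have hc0 : c ≠ 0 := fun h => hc (h ▸ zero_mem _)
  have h1 : (X.presheaf.germ U x hxU c * (w : X.presheaf.stalk x)) • v = 0 := by
    rw [mul_smul, ← hw, ← Mero.germ_smul, hct, map_zero]
  exact (smul_eq_zero.mp h1).resolve_left (mul_ne_zero
    ((map_ne_zero_iff _ (germ_injective_of_isIntegral X _ _)).mpr hc0) w.ne_zero)

/-- Sections over an affine open generate the generic stalk up to denominators. -/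
theorem exists_smul_eq_germ [IsIntegral X] (M : X.Modules) (hM : Coh.IsQCoh M) {U : X.Opens}
    (hU : IsAffineOpen U) (hη : genericPoint X ∈ U) (σ : M.presheaf.stalk (genericPoint X)) :
    ∃ (c : Γ(X, U)) (m : Γ(M, U)), c ≠ 0 ∧
      X.presheaf.germ U _ hη c • σ = M.presheaf.germ U _ hη m := by
  obtain ⟨t, w, hw⟩ := H29Blow.exists_germ_eq_smul M hM hU ⟨_, hη⟩ σ
  letI := TopCat.Presheaf.algebra_section_stalk X.presheaf (⟨genericPoint X, hη⟩ : U)
  haveI := hU.isLocalization_stalk ⟨genericPoint X, hη⟩
  obtain ⟨⟨a, s⟩, has⟩ := IsLocalization.surj (hU.primeIdealOf ⟨genericPoint X, hη⟩).asIdeal.primeCompl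
    (w : X.presheaf.stalk (genericPoint X))
  refine ⟨a, (s : Γ(X, U)) • t, fun h => ?_, ?_⟩
  · subst h
    have h2 : IsUnit (algebraMap Γ(X, U) (X.presheaf.stalk (genericPoint X)) 0) :=
      has ▸ w.isUnit.mul (IsLocalization.map_units _ s)
    rw [map_zero] at h2
    exact not_isUnit_zero h2
  · rw [Mero.germ_smul, hw, smul_smul]
    congr 1
    rw [mul_comm]
    exact has.symm

/-- Codimension one points of an affine open are the height one primes. -/
theorem exists_point_of_prime {U : X.Opens} (hU : IsAffineOpen U) (q : Ideal Γ(X, U)) [q.IsPrime] :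
    ∃ x : U, (hU.primeIdealOf x).asIdeal = q ∧ ringKrullDim (X.presheaf.stalk x.1) = q.height := by
  let p : PrimeSpectrum Γ(X, U) := ⟨q, ‹_›⟩
  have hmem : hU.fromSpec p ∈ U := by rw [← SetLike.mem_coe, ← hU.range_fromSpec]; exact ⟨p, rfl⟩
  have hp : hU.primeIdealOf ⟨hU.fromSpec p, hmem⟩ = p :=
    hU.fromSpec.isOpenEmbedding.injective (hU.fromSpec_primeIdealOf _)
  refine ⟨⟨hU.fromSpec p, hmem⟩, congrArg PrimeSpectrum.asIdeal hp, ?_⟩
  letI := TopCat.Presheaf.algebra_section_stalk X.presheaf (⟨hU.fromSpec p, hmem⟩ : U)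
  haveI : IsLocalization.AtPrime (X.presheaf.stalk (hU.fromSpec p)) q :=
    hU.isLocalization_stalk' p hmem
  exact IsLocalization.AtPrime.ringKrullDim_eq_height q (X.presheaf.stalk (hU.fromSpec p))

/-- The sections of a reflexive coherent module over an affine open form a reflexive module. -/
theorem isReflexive_sections [IsLocallyNoetherian X] (M : X.Modules) (hM : Coh.IsCoh M)
    (hMr : RefHull.IsReflexive M) {U : X.Opens} (hU : IsAffineOpen U) :
    Module.IsReflexive Γ(X, U) Γ(M, U) := by
  haveI : IsNoetherianRing Γ(X, U) := IsLocallyNoetherian.component_noetherian ⟨U, hU⟩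
  have hO : Coh.IsQCoh (Coh.structureModule X) := (H10Coh.isCoh_structureModule' X).1
  have h1 := bijective_toLinₗ M (Coh.structureModule X) hM.1 hU
  have h2 := bijective_toLinₗ (RefHull.dual M) (Coh.structureModule X) (isCoh_dual M hM).1 hU
  let e1 : Γ(RefHull.dual M, U) ≃ₗ[Γ(X, U)] Module.Dual Γ(X, U) Γ(M, U) :=
    LinearEquiv.ofBijective (toLinₗ M (Coh.structureModule X) U) h1
  let e2 : Γ(RefHull.ddual M, U) ≃ₗ[Γ(X, U)] Module.Dual Γ(X, U) Γ(RefHull.dual M, U) :=
    LinearEquiv.ofBijective (toLinₗ (RefHull.dual M) (Coh.structureModule X) U) h2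
  have key : ∀ v : Γ(M, U), Module.Dual.eval Γ(X, U) Γ(M, U) v =
      e1.symm.dualMap (e2 ((RefHull.bidualMap M).app U v)) := by
    intro v
    refine LinearMap.ext fun l => sec_ext (Coh.structureModule X) fun y hy => ?_
    obtain ⟨f, rfl⟩ := e1.surjective l
    show _ = (Coh.structureModule X).presheaf.germ U y hy
      (toLin ((RefHull.bidualMap M).app U v) (e1.symm (e1 f)))
    rw [LinearEquiv.symm_apply_apply, germ_toLin _ f ⟨y, hy⟩, RefHull.bidualMap_app_apply,
      RefHull.bidualAt_apply, RefHull.evalStalk_germ, ← germ_toLin f v ⟨y, hy⟩]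
    rfl
  haveI : IsIso (RefHull.bidualMap M) := hMr
  constructor
  have hb : Function.Bijective ((RefHull.bidualMap M).app U) :=
    (ConcreteCategory.isIso_iff_bijective _).1 inferInstance
  rw [show (Module.Dual.eval Γ(X, U) Γ(M, U) : _ → _) =
    e1.symm.dualMap ∘ e2 ∘ (RefHull.bidualMap M).app U from funext key]
  exact e1.symm.dualMap.bijective.comp (e2.bijective.comp hb)

/-- Reflexive coherent modules on an integral scheme are torsion-free. -/
theorem isTorsionFree_of_isReflexive [IsIntegral X] [IsLocallyNoetherian X] (M : X.Modules)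
    (hM : Coh.IsCoh M) (hMr : RefHull.IsReflexive M) : TorSh.IsTorsionFree M := fun x => by
  haveI : Module.IsReflexive (X.presheaf.stalk x) (M.presheaf.stalk x) :=
    (isReflexive_iff M hM).mp hMr x
  exact Function.Injective.moduleIsTorsionFree _
    (Module.bijective_dual_eval (X.presheaf.stalk x) (M.presheaf.stalk x)).1
    fun r v => map_smul _ r v

/-- Sections of a torsion-free quasi-coherent module are determined by their generic germ. -/
theorem germ_generic_injective [IsIntegral X] (M : X.Modules) (hM : Coh.IsQCoh M)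
    (hMt : TorSh.IsTorsionFree M) {U : X.Opens} (hη : genericPoint X ∈ U) :
    Function.Injective (M.presheaf.germ U (genericPoint X) hη) := fun s t h =>
  sec_ext M fun y hy => sp_injective M hM hMt y (by rw [sp_germ, sp_germ]; exact h)

/-- A rational section of a reflexive module regular at all points of codimension one is regular. -/
theorem exists_section [IsIntegral X] [IsLocallyNoetherian X] (hX : Pi1.IsNormalScheme X)
    (M : X.Modules) (hM : Coh.IsCoh M) (hMr : RefHull.IsReflexive M) (U : X.Opens)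
    (hη : genericPoint X ∈ U) (σ : M.presheaf.stalk (genericPoint X))
    (h : ∀ x ∈ U, ringKrullDim (X.presheaf.stalk x) = 1 → σ ∈ Set.range (sp M x)) :
    ∃ s : Γ(M, U), M.presheaf.germ U (genericPoint X) hη s = σ := by
  have hMt := isTorsionFree_of_isReflexive M hM hMr
  have haff : ∀ y : U, ∃ (V : X.Opens) (_ : y.1 ∈ V) (hV : V ≤ U) (hηV : genericPoint X ∈ V)
      (s : Γ(M, V)), M.presheaf.germ V (genericPoint X) hηV s = σ := fun y => by
    obtain ⟨V, hV, hyV, hVU⟩ := exists_isAffineOpen_mem_and_subset y.2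
    refine ⟨V, hyV, hVU, genericPoint_mem hyV, ?_⟩
    haveI : Nonempty V := ⟨⟨y.1, hyV⟩⟩
    haveI : IsNoetherianRing Γ(X, V) := IsLocallyNoetherian.component_noetherian ⟨V, hV⟩
    haveI := H7Lim.isIntegrallyClosed_section (fun z => (hX z).2) hV
    haveI := isReflexive_sections M hM hMr hV
    obtain ⟨c, n, hc, hcn⟩ := exists_smul_eq_germ M hM.1 hV (genericPoint_mem hyV) σ
    obtain ⟨m, hm⟩ := exists_smul_eq_of_height_one c hc n fun q _ hq => by
      obtain ⟨x, hxq, hdim⟩ := exists_point_of_prime hV q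
      obtain ⟨v, hv⟩ := h x.1 (hVU x.2) (by rw [hdim, hq]; rfl)
      obtain ⟨t, w, hw⟩ := H29Blow.exists_germ_eq_smul M hM.1 hV x v
      letI := TopCat.Presheaf.algebra_section_stalk X.presheaf x
      haveI := hV.isLocalization_stalk x
      obtain ⟨⟨a, s⟩, has⟩ := IsLocalization.surj (hV.primeIdealOf x).asIdeal.primeCompl
        (w : X.presheaf.stalk x.1)
      refine ⟨a, fun ha => ?_, (s : Γ(X, V)) • t,
        germ_generic_injective M hM.1 hMt (genericPoint_mem x.2) ?_⟩
      · rw [← hxq] at ha
        exact (H29Blow.mem_primeIdealOf_iff hV x a).mp ha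
          (show IsUnit (algebraMap Γ(X, V) (X.presheaf.stalk x.1) a) from
            has ▸ w.isUnit.mul (IsLocalization.map_units _ s))
      · rw [Mero.germ_smul, Mero.germ_smul, Mero.germ_smul, ← hcn, ← sp_germ M x.1 x.2 t, hw, sp_smul,
          hv, smul_smul, smul_smul, smul_smul, ← spO_germ x.1 x.2 a, ← spO_germ x.1 x.2 (s : Γ(X, V))]
        congr 1
        have has' : spO x.1 (w : X.presheaf.stalk x.1) * spO x.1 (X.presheaf.germ V x.1 x.2 (s : Γ(X, V))) =
            spO x.1 (X.presheaf.germ V x.1 x.2 a) := by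
          rw [← map_mul]; exact congrArg _ has
        rw [← has']
        ring
    refine ⟨m, ?_⟩
    have hc' : IsUnit (X.presheaf.germ V (genericPoint X) (genericPoint_mem hyV) c) :=
      IsUnit.mk0 (show X.functionField from _)
        ((map_ne_zero_iff _ (germ_injective_of_isIntegral X _ _)).mpr hc)
    refine hc'.smul_left_cancel.mp ?_
    rw [← Mero.germ_smul, hm, hcn]
  choose V hyV hVU hηV s hs using haff
  have hcompat : TopCat.Presheaf.IsCompatible (H10Coh.sh M).obj V s := fun a b => by
    refine germ_generic_injective M hM.1 hMt (⟨hηV a, hηV b⟩ : genericPoint X ∈ V a ⊓ V b) ?_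
    exact ((germ_res M (inf_le_left : V a ⊓ V b ≤ V a) _ _ (s a)).trans (hs a)).trans
      ((germ_res M (inf_le_right : V a ⊓ V b ≤ V b) _ _ (s b)).trans (hs b)).symm
  obtain ⟨g, hg, -⟩ := TopCat.Sheaf.existsUnique_gluing' (H10Coh.sh M) V U
    (fun a => homOfLE (hVU a)) (fun y hy => Opens.mem_iSup.2 ⟨⟨y, hy⟩, hyV ⟨y, hy⟩⟩) s hcompat
  refine ⟨g, ?_⟩
  rw [← hs ⟨_, hη⟩, ← germ_res M (hVU ⟨_, hη⟩) _ (hηV ⟨_, hη⟩) g]
  exact congrArg _ (hg ⟨_, hη⟩)

/-- The local ring at a point of codimension one of a normal scheme is a discrete valuation ring. -/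
theorem isDiscreteValuationRing_stalk [IsIntegral X] [IsLocallyNoetherian X]
    (hX : Pi1.IsNormalScheme X) (x : X) (hx : ringKrullDim (X.presheaf.stalk x) = 1) :
    IsDiscreteValuationRing (X.presheaf.stalk x) := by
  haveI := (hX x).2
  have hnf : ¬ IsField (X.presheaf.stalk x) := fun hf => by
    rw [ringKrullDim_eq_zero_of_isField hf] at hx
    exact zero_ne_one hx
  haveI : Ring.DimensionLEOne (X.presheaf.stalk x) := by
    refine ⟨fun {p} hp0 hp => ?_⟩
    haveI := hp
    by_contra hmax
    have hlt : p < IsLocalRing.maximalIdeal (X.presheaf.stalk x) :=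
      lt_of_le_of_ne (IsLocalRing.le_maximalIdeal hp.ne_top)
        fun h => hmax (h ▸ IsLocalRing.maximalIdeal.isMaximal _)
    have h1 := IsLocalRing.maximalIdeal_height_eq_ringKrullDim (R := X.presheaf.stalk x)
    rw [hx] at h1
    have h1' : (IsLocalRing.maximalIdeal (X.presheaf.stalk x)).height = 1 := WithBot.coe_injective h1
    have h2 : p.height < 1 := h1' ▸ Ideal.height_strict_mono_of_isPrime hlt
    have h3 : p.height = 0 := ENat.lt_one_iff_eq_zero.mp h2
    rw [Ideal.height_eq_zero_iff] at h3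
    exact hp0 (le_bot_iff.mp (h3.2 ⟨Ideal.isPrime_bot, le_rfl⟩ bot_le))
  haveI : IsDedekindDomain (X.presheaf.stalk x) := { }
  exact ((IsDiscreteValuationRing.TFAE (X.presheaf.stalk x) hnf).out 2 0 :
    IsDedekindDomain (X.presheaf.stalk x) ↔ IsDiscreteValuationRing (X.presheaf.stalk x)).mp inferInstance

/-- At a point of codimension one a coherent module surjects onto the stalk of its hull. -/
theorem surjective_bidual_stalk [IsIntegral X] [IsLocallyNoetherian X] (hX : Pi1.IsNormalScheme X)
    (F : X.Modules) (hF : Coh.IsCoh F) (x : X) (hx : ringKrullDim (X.presheaf.stalk x) = 1) :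
    Function.Surjective (RefHull.stalkMapₗ (RefHull.bidualMap F) x) := by
  haveI := isDiscreteValuationRing_stalk hX x hx
  obtain ⟨W, hxW, I, _, m, hm⟩ := exists_span_germ F hF.2 x
  haveI : Module.Finite (X.presheaf.stalk x) (F.presheaf.stalk x) :=
    ⟨⟨(Set.finite_range fun i => F.presheaf.germ W x hxW (m i)).toFinset, by
      rw [Set.Finite.coe_toFinset]; exact hm x hxW⟩⟩
  intro v
  have hFp := H10Coh.isFP_of_isCoh F hF
  obtain ⟨w, hw⟩ := surjective_eval_of_pid (F.presheaf.stalk x)
    (ddualEquiv F hFp (isFP_dual F hF) x v)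
  exact ⟨w, (ddualEquiv F hFp (isFP_dual F hF) x).injective
    ((ddualEquiv_bidual F hFp (isFP_dual F hF) x w).trans hw)⟩

/-- The reflexive hull of a coherent module is reflexive. -/
theorem isReflexive_ddual [IsIntegral X] [IsLocallyNoetherian X] (F : X.Modules) (hF : Coh.IsCoh F) :
    RefHull.IsReflexive (RefHull.ddual F) := by
  rw [isReflexive_iff _ (isCoh_ddual F hF)]
  intro x
  obtain ⟨W, hxW, I, _, m, hm⟩ := exists_span_germ F hF.2 x
  haveI : Module.Finite (X.presheaf.stalk x) (F.presheaf.stalk x) :=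
    ⟨⟨(Set.finite_range fun i => F.presheaf.germ W x hxW (m i)).toFinset, by
      rw [Set.Finite.coe_toFinset]; exact hm x hxW⟩⟩
  haveI := H1CAlg.isReflexive_hom (R := X.presheaf.stalk x) (F.presheaf.stalk x) (X.presheaf.stalk x)
  haveI : Module.Finite (X.presheaf.stalk x)
      (Module.Dual (X.presheaf.stalk x) (F.presheaf.stalk x)) := by
    haveI := Module.finitePresentation_of_finite (X.presheaf.stalk x) (F.presheaf.stalk x)
    infer_instance
  haveI := H1CAlg.isReflexive_hom (R := X.presheaf.stalk x)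
    (Module.Dual (X.presheaf.stalk x) (F.presheaf.stalk x)) (X.presheaf.stalk x)
  exact Module.equiv (ddualEquiv F (H10Coh.isFP_of_isCoh F hF) (isFP_dual F hF) x).symm

/-- Extension of a map of generic stalks to a reflexive target. -/
theorem exists_hom_of_generic [IsIntegral X] [IsLocallyNoetherian X] (hX : Pi1.IsNormalScheme X)
    (G H : X.Modules) (hH : Coh.IsCoh H) (hHr : RefHull.IsReflexive H)
    (T : G.presheaf.stalk (genericPoint X) →ₗ[X.presheaf.stalk (genericPoint X)]
      H.presheaf.stalk (genericPoint X))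
    (hT : ∀ x : X, ringKrullDim (X.presheaf.stalk x) = 1 →
      Set.MapsTo T (Set.range (sp G x)) (Set.range (sp H x))) :
    ∃ ψ : G ⟶ H, RefHull.stalkMapₗ ψ (genericPoint X) = T := by
  have hHt := isTorsionFree_of_isReflexive H hH hHr
  have hex : ∀ (U : X.Opens) (m : Γ(G, U)), ∃ n : Γ(H, U), ∀ hη : genericPoint X ∈ U,
      H.presheaf.germ U (genericPoint X) hη n = T (G.presheaf.germ U (genericPoint X) hη m) := by
    intro U m
    by_cases hη : genericPoint X ∈ U
    · obtain ⟨n, hn⟩ := exists_section hX H hH hHr U hη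
        (T (G.presheaf.germ U (genericPoint X) hη m))
        fun x hx hd => hT x hd ⟨G.presheaf.germ U x hx m, sp_germ G x hx m⟩
      exact ⟨n, fun _ => hn⟩
    · exact ⟨0, fun h => absurd h hη⟩
  choose n hn using hex
  have hsec : ∀ {U : X.Opens} {s t : Γ(H, U)}, (∀ hη : genericPoint X ∈ U,
      H.presheaf.germ U (genericPoint X) hη s = H.presheaf.germ U (genericPoint X) hη t) → s = t :=
    fun {U s t} h => sec_ext H fun y hy =>
      sp_injective H hH.1 hHt y (by rw [sp_germ, sp_germ]; exact h _)
  let φ : ∀ U : (Opens X)ᵒᵖ, Γ(G, U.unop) →+ Γ(H, U.unop) := fun U =>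
    AddMonoidHom.mk' (n U.unop) fun a b => hsec fun hη => by
      rw [hn, map_add, map_add, map_add, hn, hn]
  let ψ : G ⟶ H := ⟨PresheafOfModules.homMk
    { app := fun U => AddCommGrpCat.ofHom (φ U)
      naturality := fun {U V} i => by
        refine AddCommGrpCat.hom_ext (AddMonoidHom.ext fun m => ?_)
        show n V.unop (G.presheaf.map i m) = H.presheaf.map i (n U.unop m)
        refine hsec fun hη => ?_
        rw [hn]
        refine Eq.trans ?_ (TopCat.Presheaf.germ_res_apply' H.presheaf i (genericPoint X) hη (n U.unop m)).symm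
        rw [hn]
        exact congrArg T (TopCat.Presheaf.germ_res_apply' G.presheaf i (genericPoint X) hη m) }
    (fun U (r : Γ(X, U.unop)) (m : Γ(G, U.unop)) => hsec (U := U.unop) fun hη => by
      show H.presheaf.germ U.unop _ hη (n U.unop (r • m)) =
        H.presheaf.germ U.unop _ hη (r • n U.unop m)
      rw [hn, Mero.germ_smul H U.unop _ hη r (n U.unop m), hn]
      exact (congrArg T (Mero.germ_smul G U.unop _ hη r m)).trans (map_smul T _ _))⟩
  refine ⟨ψ, LinearMap.ext fun v => ?_⟩
  obtain ⟨U, hη, m, rfl⟩ := TopCat.Presheaf.exists_germ_eq G.presheaf v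
  rw [RefHull.stalkMapₗ_germ]
  exact hn U m hη

/-- Maps into a reflexive module are determined by the generic stalk. -/
theorem hom_ext_generic [IsIntegral X] [IsLocallyNoetherian X]
    {G H : X.Modules} (hH : Coh.IsQCoh H) (hHt : TorSh.IsTorsionFree H) (ψ ψ' : G ⟶ H)
    (h : RefHull.stalkMapₗ ψ (genericPoint X) = RefHull.stalkMapₗ ψ' (genericPoint X)) : ψ = ψ' := by
  ext U m
  refine sec_ext H fun y hy => sp_injective H hH hHt y ?_
  rw [sp_germ, sp_germ, ← RefHull.stalkMapₗ_germ, ← RefHull.stalkMapₗ_germ, h]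

end Groth.Agent.H29Ref
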