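import Groth.Agent.H29Ref.SecOrd
import Groth.Agent.H26CDiv.Generization

/-!
# Rank one reflexive modules and their orders
-/

set_option autoImplicit false
set_option maxHeartbeats 400000

universe u

open CategoryTheory CategoryTheory.Limits AlgebraicGeometry Opposite TopologicalSpace

namespace Groth.Agent.H29Ref

open H8Props.FunDescent (StalkFree)

variable {X : Scheme.{u}}

theorem stalkMapₗ_comp_apply {F G H : X.Modules} (φ : F ⟶ G) (ψ : G ⟶ H) (x : X)
    (v : F.presheaf.stalk x) : RefHull.stalkMapₗ (φ ≫ ψ) x v =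
      RefHull.stalkMapₗ ψ x (RefHull.stalkMapₗ φ x v) := by
  obtain ⟨U, hU, s, rfl⟩ := TopCat.Presheaf.exists_germ_eq F.presheaf v
  rw [RefHull.stalkMapₗ_germ, RefHull.stalkMapₗ_germ, RefHull.stalkMapₗ_germ]
  rfl

theorem stalkMapₗ_id_apply {F : X.Modules} (x : X) (v : F.presheaf.stalk x) :
    RefHull.stalkMapₗ (𝟙 F) x v = v := by
  obtain ⟨U, hU, s, rfl⟩ := TopCat.Presheaf.exists_germ_eq F.presheaf v
  rw [RefHull.stalkMapₗ_germ]
  rfl

variable [IsIntegral X]

/-- A nonzero vector of a one dimensional generic stalk is a basis. -/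
theorem bijective_toSpan {F : X.Modules} (hη : StalkFree F 1 (genericPoint X))
    {v : F.presheaf.stalk (genericPoint X)} (hv : v ≠ 0) :
    Function.Bijective (LinearMap.toSpanSingleton (X.presheaf.stalk (genericPoint X))
      (F.presheaf.stalk (genericPoint X)) v) := by
  obtain ⟨b⟩ := hη
  letI := (isField_generic (X := X)).toField
  have hs : ∀ w, w = b.repr w 0 • b 0 := fun w => by
    conv_lhs => rw [← b.sum_repr w, Fin.sum_univ_one]
  refine ⟨fun a c h => smul_left_injective _ hv (by simpa using h), fun w => ?_⟩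
  have hc : b.repr v 0 ≠ 0 := fun h => hv (by rw [hs v, h, zero_smul])
  refine ⟨b.repr w 0 / b.repr v 0, ?_⟩
  show (b.repr w 0 / b.repr v 0) • v = w
  exact (congrArg ((b.repr w 0 / b.repr v 0) • ·) (hs v)).trans (by rw [smul_smul, div_mul_cancel₀ _ hc]; exact (hs w).symm)

/-- A nonzero rational section trivialises the generic stalk. -/
noncomputable def trivGen {F : X.Modules} (hη : StalkFree F 1 (genericPoint X))
    (v : F.presheaf.stalk (genericPoint X)) (hv : v ≠ 0) :
    X.presheaf.stalk (genericPoint X) ≃ₗ[X.presheaf.stalk (genericPoint X)]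
      F.presheaf.stalk (genericPoint X) :=
  LinearEquiv.ofBijective _ (bijective_toSpan hη hv)

theorem trivGen_one {F : X.Modules} (hη : StalkFree F 1 (genericPoint X))
    (v : F.presheaf.stalk (genericPoint X)) (hv : v ≠ 0) : trivGen hη v hv 1 = v :=
  (LinearMap.toSpanSingleton_apply_one _ _ v)

theorem IsStalkGen.map {F G : X.Modules} (φ : F ⟶ G) {x : X} {t : F.presheaf.stalk x}
    (ht : IsStalkGen F x t) (hx : Function.Surjective (RefHull.stalkMapₗ φ x))
    (hη : Function.Bijective (RefHull.stalkMapₗ φ (genericPoint X))) :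
    IsStalkGen G x (RefHull.stalkMapₗ φ x t) where
  span_eq := by
    have h := Submodule.map_span (RefHull.stalkMapₗ φ x) {t}
    rw [ht.span_eq, Set.image_singleton, Submodule.map_top, LinearMap.range_eq_top.mpr hx] at h
    exact h.symm
  sp_ne h := ht.sp_ne (hη.1 (by rw [← sp_stalkMap, h, map_zero]))
  exists_smul w := by
    obtain ⟨v, rfl⟩ := hη.2 w
    obtain ⟨c, rfl⟩ := ht.exists_smul v
    exact ⟨c, by rw [sp_stalkMap]; exact map_smul _ c _⟩

variable [IsLocallyNoetherian X]

/-- Orders are preserved by maps that are isomorphisms at the point and generically. -/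
theorem secO_map {F G : X.Modules} (φ : F ⟶ G) {x : X} (hx1 : Order.coheight x = 1)
    {t : F.presheaf.stalk x}
    (ht : IsStalkGen F x t) (hx : Function.Surjective (RefHull.stalkMapₗ φ x))
    (hη : Function.Bijective (RefHull.stalkMapₗ φ (genericPoint X)))
    {v : F.presheaf.stalk (genericPoint X)} (hv : v ≠ 0) :
    secO G x (RefHull.stalkMapₗ φ (genericPoint X) v) = secO F x v := by
  obtain ⟨c, rfl⟩ := ht.exists_smul v
  rw [secO_eq hx1 ht hv (φ := c) rfl, secO_eq hx1 (ht.map φ hx hη)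
    ((map_ne_zero_iff _ hη.1).mpr hv) (φ := c) (by rw [sp_stalkMap]; exact map_smul _ _ _)]

/-- A map of generic stalks that does not lower orders respects the stalk at the point. -/
theorem mapsTo_of_le (hX : Pi1.IsNormalScheme X) {F G : X.Modules}
    (T : F.presheaf.stalk (genericPoint X) →ₗ[X.presheaf.stalk (genericPoint X)]
      G.presheaf.stalk (genericPoint X)) {x : X} (hx : Order.coheight x = 1)
    {u : F.presheaf.stalk x} (hu : IsStalkGen F x u) {t : G.presheaf.stalk x} (ht : IsStalkGen G x t)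
    {v : F.presheaf.stalk (genericPoint X)} (hv : v ≠ 0) (hTv : T v ≠ 0)
    (h : secO F x v ≤ secO G x (T v)) :
    Set.MapsTo T (Set.range (sp F x)) (Set.range (sp G x)) := by
  obtain ⟨φ, hφ⟩ := hu.exists_smul v
  obtain ⟨ψ, hψ⟩ := ht.exists_smul (T v)
  rw [secO_eq hx hu hv (φ := φ) hφ, secO_eq hx ht hTv (φ := ψ) hψ] at h
  let K : Type u := X.functionField
  have hφ0 : (φ : K) ≠ 0 := fun e => hv (by rw [hφ, show φ = 0 from e, zero_smul])
  have hψ0 : (ψ : K) ≠ 0 := fun e => hTv (by rw [hψ, show ψ = 0 from e, zero_smul])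
  let r : X.functionField := (ψ : K) / (φ : K)
  have hr : r * φ = ψ := div_mul_cancel₀ (G₀ := K) _ hφ0
  have hr0 : r ≠ 0 := div_ne_zero (G₀ := K) hψ0 hφ0
  have hord : 0 ≤ Scheme.ord r x := by
    have h1 := Scheme.ord_mul (x := x) hr0 hφ0
    rw [show (r * (φ : K) : K) = ψ from hr] at h1
    have h' : Scheme.ord (φ : X.functionField) x ≤ Scheme.ord (ψ : X.functionField) x := h
    have h1' : Scheme.ord (ψ : X.functionField) x =
      Scheme.ord r x + Scheme.ord (φ : X.functionField) x := h1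
    omega
  obtain ⟨a, ha⟩ := (H26CDiv.ord_nonneg_iff_reg (fun y => (hX y).2) hx hr0).mp hord
  have hTu : T (sp F x u) = spO x a • sp G x t := by
    letI := (isField_generic (X := X)).toField
    refine smul_right_injective _ (show (φ : X.presheaf.stalk (genericPoint X)) ≠ 0 from hφ0) ?_
    simp only
    rw [← map_smul, ← hφ, hψ, smul_smul]
    congr 1
    rw [← hr, mul_comm]
    exact congrArg (fun z : K => (φ : K) * z) ha.symm
  rintro _ ⟨w, rfl⟩
  obtain ⟨c, rfl⟩ := Submodule.mem_span_singleton.mp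
    (hu.span_eq.symm ▸ Submodule.mem_top : w ∈ Submodule.span (X.presheaf.stalk x) {u})
  exact ⟨(c * a) • t, by rw [sp_smul, sp_smul, map_smul, hTu, map_mul, mul_smul]⟩

/-- Rank one reflexive modules with the same orders are isomorphic. -/
theorem nonempty_iso_of_secO_eq (hX : Pi1.IsNormalScheme X) {F G : X.Modules}
    (hF : RefHull.IsRef1 F) (hG : RefHull.IsRef1 G)
    {v : F.presheaf.stalk (genericPoint X)} (hv : v ≠ 0)
    {w : G.presheaf.stalk (genericPoint X)} (hw : w ≠ 0)
    (h : ∀ x, Order.coheight x = 1 → secO F x v = secO G x w) : Nonempty (F ≅ G) := by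
  let T := (trivGen (stalkFree_generic F hF.1 hF.2.2) v hv).symm.trans
    (trivGen (stalkFree_generic G hG.1 hG.2.2) w hw)
  have hTv : T v = w := by
    show trivGen (stalkFree_generic G hG.1 hG.2.2) w hw
      ((trivGen (stalkFree_generic F hF.1 hF.2.2) v hv).symm v) = w
    rw [(LinearEquiv.symm_apply_eq _).mpr (trivGen_one (stalkFree_generic F hF.1 hF.2.2) v hv).symm,
      trivGen_one (stalkFree_generic G hG.1 hG.2.2)]
  have hd : ∀ x : X, ringKrullDim (X.presheaf.stalk x) = 1 → Order.coheight x = 1 := fun x hx => by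
    rw [ringKrullDim_stalk_eq_coheight] at hx
    exact WithBot.coe_injective hx
  obtain ⟨ψ, hψ⟩ := exists_hom_of_generic hX F G hG.1 hG.2.1 T.toLinearMap fun x hx => by
    obtain ⟨u, hu⟩ := exists_isStalkGen_of_isRef1 hX F hF x (hd x hx)
    obtain ⟨t, ht⟩ := exists_isStalkGen_of_isRef1 hX G hG x (hd x hx)
    exact mapsTo_of_le hX _ (hd x hx) hu ht hv (hTv.symm ▸ hw) (hTv.symm ▸ (h x (hd x hx)).le)
  have hTw : T.symm w = v := (LinearEquiv.symm_apply_eq _).mpr hTv.symm
  obtain ⟨ψ', hψ'⟩ := exists_hom_of_generic hX G F hF.1 hF.2.1 T.symm.toLinearMap fun x hx => by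
    obtain ⟨u, hu⟩ := exists_isStalkGen_of_isRef1 hX F hF x (hd x hx)
    obtain ⟨t, ht⟩ := exists_isStalkGen_of_isRef1 hX G hG x (hd x hx)
    exact mapsTo_of_le hX _ (hd x hx) ht hu hw (hTw.symm ▸ hv) (hTw.symm ▸ (h x (hd x hx)).ge)
  refine ⟨⟨ψ, ψ', hom_ext_generic hF.1.1 (isTorsionFree_of_isReflexive F hF.1 hF.2.1) _ _ ?_,
    hom_ext_generic hG.1.1 (isTorsionFree_of_isReflexive G hG.1 hG.2.1) _ _ ?_⟩⟩
  · refine LinearMap.ext fun a => ?_
    rw [stalkMapₗ_comp_apply, hψ, hψ', stalkMapₗ_id_apply]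
    exact T.symm_apply_apply a
  · refine LinearMap.ext fun a => ?_
    rw [stalkMapₗ_comp_apply, hψ', hψ, stalkMapₗ_id_apply]
    exact T.apply_symm_apply a

end Groth.Agent.H29Ref
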