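import Groth.Agent.H29Ref.Generic
import Groth.Agent.H1CAlg.ReflexiveDomain
import Groth.Agent.H05EGA4.CompleteNormalization

/-!
# Reflexive = torsion-free and extending across codimension two
-/

set_option autoImplicit false
set_option maxHeartbeats 400000

universe u

open CategoryTheory CategoryTheory.Limits AlgebraicGeometry Opposite TopologicalSpace

namespace Groth.Agent.H29Ref

variable {X : Scheme.{u}}

/-- Points of dimension zero of an integral scheme. -/
theorem isField_of_dim_zero [IsIntegral X] (x : X) (hx : ¬ (1 : WithBot ℕ∞) ≤ ringKrullDim (X.presheaf.stalk x)) :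
    IsField (X.presheaf.stalk x) := by
  have hle : Ring.KrullDimLE 0 (X.presheaf.stalk x) := by
    rw [Ring.krullDimLE_iff]
    by_contra h
    push Not at h
    exact hx (Order.succ_le_of_lt h |>.trans' le_rfl)
  exact Ring.KrullDimLE.isField_of_isDomain

/-- Points where a map is locally surjective on a section. -/
theorem exists_lift_open {F H : X.Modules} (φ : F ⟶ H) {U : X.Opens} (t : Γ(H, U)) :
    ∃ V : X.Opens, V ≤ U ∧ (∀ x (hx : x ∈ U), (∃ v, RefHull.stalkMapₗ φ x v =
      H.presheaf.germ U x hx t) → x ∈ V) ∧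
      ∀ x ∈ V, ∃ (W : X.Opens) (_ : x ∈ W) (hWV : W ≤ V) (hWU : W ≤ U) (m : Γ(F, W)),
        φ.app W m = H.presheaf.map (homOfLE hWU).op t := by
  let good : X → Prop := fun x => ∃ (W : X.Opens) (_ : x ∈ W) (hWU : W ≤ U) (m : Γ(F, W)),
    φ.app W m = H.presheaf.map (homOfLE hWU).op t
  have hopen : IsOpen {x | good x} := isOpen_iff_forall_mem_open.mpr fun x ⟨W, hxW, hWU, m, hm⟩ =>
    ⟨(W : Set X), fun y hy => ⟨W, hy, hWU, m, hm⟩, W.2, hxW⟩
  refine ⟨⟨{x | good x}, hopen⟩, fun x ⟨W, hxW, hWU, _⟩ => hWU hxW, fun x hx ⟨v, hv⟩ => ?_,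
    fun x ⟨W, hxW, hWU, m, hm⟩ => ⟨W, hxW, fun y hy => ⟨W, hy, hWU, m, hm⟩, hWU, m, hm⟩⟩
  obtain ⟨O, hxO, m, rfl⟩ := TopCat.Presheaf.exists_germ_eq F.presheaf v
  rw [RefHull.stalkMapₗ_germ] at hv
  obtain ⟨W, hxW, i₁, i₂, h⟩ := TopCat.Presheaf.germ_eq H.presheaf x hxO hx (φ.app O m) t hv
  refine ⟨W, hxW, i₂.le, F.presheaf.map i₁.op m, ?_⟩
  refine (show φ.app W (F.presheaf.map i₁.op m) = H.presheaf.map i₁.op (φ.app O m) from
    congr($(φ.mapPresheaf.naturality i₁.op) m)).trans (h.trans ?_)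
  rfl

/-- Reflexive modules on normal schemes extend across closed sets of codimension two. -/
theorem bijective_res [IsIntegral X] [IsLocallyNoetherian X] (hX : Pi1.IsNormalScheme X)
    (F : X.Modules) (hF : Coh.IsCoh F) (hFr : RefHull.IsReflexive F) {U V : X.Opens} (hVU : V ≤ U)
    (h : ∀ x : X, x ∈ U → x ∉ V → (2 : WithBot ℕ∞) ≤ ringKrullDim (X.presheaf.stalk x)) :
    Function.Bijective (F.presheaf.map (homOfLE hVU).op) := by
  have hFt := isTorsionFree_of_isReflexive F hF hFr
  rcases Set.eq_empty_or_nonempty (U : Set X) with hU | ⟨x₀, hx₀⟩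
  · refine ⟨fun s t _ => sec_ext F fun y hy => absurd hy ?_, fun s => ⟨0, sec_ext F fun y hy =>
      absurd (hVU hy) ?_⟩⟩ <;> exact fun h => (Set.eq_empty_iff_forall_notMem.mp hU) _ h
  have hηU : genericPoint X ∈ U := genericPoint_mem hx₀
  have hηV : genericPoint X ∈ V := by
    by_contra hη
    have h2 := h _ hηU hη
    rw [ringKrullDim_eq_zero_of_isField isField_generic] at h2
    exact absurd h2 (by decide)
  refine ⟨fun s t hst => germ_generic_injective F hF.1 hFt hηU ?_, fun t => ?_⟩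
  · rw [← germ_res F hVU _ hηV s, hst, germ_res]
  · obtain ⟨s, hs⟩ := exists_section hX F hF hFr U hηU (F.presheaf.germ V _ hηV t) fun x hx hd => by
      have hxV : x ∈ V := by
        by_contra hxV
        have h2 := h x hx hxV
        rw [hd] at h2
        exact absurd h2 (by decide)
      exact ⟨F.presheaf.germ V x hxV t, sp_germ F x hxV t⟩
    exact ⟨s, germ_generic_injective F hF.1 hFt hηV ((germ_res F hVU _ hηV s).trans hs)⟩

/-- Torsion-free modules with the extension property are reflexive. -/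
theorem isReflexive_of_res [IsIntegral X] [IsLocallyNoetherian X] (hX : Pi1.IsNormalScheme X)
    (F : X.Modules) (hF : Coh.IsCoh F) (hFt : TorSh.IsTorsionFree F)
    (h : ∀ (U V : X.Opens) (hVU : V ≤ U),
      (∀ x : X, x ∈ U → x ∉ V → (2 : WithBot ℕ∞) ≤ ringKrullDim (X.presheaf.stalk x)) →
        Function.Surjective (F.presheaf.map (homOfLE hVU).op)) : RefHull.IsReflexive F := by
  classical
  have hFp := H10Coh.isFP_of_isCoh F hF
  have hinj : ∀ x, Function.Injective (RefHull.stalkMapₗ (RefHull.bidualMap F) x) := fun x a b hab => by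
    haveI := finite_stalk F hF.2 x
    haveI := hFt x
    refine H1CAlg.injective_eval_of_isTorsionFree (R := X.presheaf.stalk x) (F.presheaf.stalk x) ?_
    rw [← ddualEquiv_bidual F hFp (isFP_dual F hF), ← ddualEquiv_bidual F hFp (isFP_dual F hF), hab]
  rw [RefHull.IsReflexive, isIso_iff_bijective_stalk]
  refine fun x => ⟨hinj x, fun v => ?_⟩
  obtain ⟨O, hxO, t, rfl⟩ := TopCat.Presheaf.exists_germ_eq (RefHull.ddual F).presheaf v
  obtain ⟨V, hVO, hVmem, hVlift⟩ := exists_lift_open (RefHull.bidualMap F) t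
  have hdim : ∀ y : X, y ∈ O → y ∉ V → (2 : WithBot ℕ∞) ≤ ringKrullDim (X.presheaf.stalk y) := by
    intro y hyO hyV
    by_contra hy
    refine hyV (hVmem y hyO ?_)
    by_cases h1 : (1 : WithBot ℕ∞) ≤ ringKrullDim (X.presheaf.stalk y)
    · have h2 : ringKrullDim (X.presheaf.stalk y) = 1 := by
        refine le_antisymm ?_ h1
        by_contra h3
        push Not at h3
        exact hy (Order.succ_le_of_lt h3 |>.trans' le_rfl)
      exact surjective_bidual_stalk hX F hF y h2 _
    · letI := (isField_of_dim_zero y h1).toField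
      haveI := finite_stalk F hF.2 y
      obtain ⟨w, hw⟩ := (Module.bijective_dual_eval (X.presheaf.stalk y) (F.presheaf.stalk y)).2
        (ddualEquiv F hFp (isFP_dual F hF) y ((RefHull.ddual F).presheaf.germ O y hyO t))
      exact ⟨w, (ddualEquiv F hFp (isFP_dual F hF) y).injective
        ((ddualEquiv_bidual F hFp (isFP_dual F hF) y w).trans hw)⟩
  choose W hyW hWV hWO m hm using fun y : V => hVlift y.1 y.2
  have hgerm : ∀ (a : V) (y : X) (hy : y ∈ W a), RefHull.stalkMapₗ (RefHull.bidualMap F) y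
      (F.presheaf.germ (W a) y hy (m a)) = (RefHull.ddual F).presheaf.germ O y (hWO a hy) t :=
    fun a y hy => by rw [RefHull.stalkMapₗ_germ, hm, germ_res]
  have hcompat : TopCat.Presheaf.IsCompatible (H10Coh.sh F).obj W m := fun a b => sec_ext F fun y hy => by
    refine ((germ_res F (inf_le_left : W a ⊓ W b ≤ W a) y hy (m a)).trans ?_).trans
      (germ_res F (inf_le_right : W a ⊓ W b ≤ W b) y hy (m b)).symm
    exact hinj y ((hgerm a y hy.1).trans (hgerm b y hy.2).symm)
  obtain ⟨g, hg, -⟩ := TopCat.Sheaf.existsUnique_gluing' (H10Coh.sh F) W V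
    (fun a => homOfLE (hWV a)) (fun y hy => Opens.mem_iSup.2 ⟨⟨y, hy⟩, hyW ⟨y, hy⟩⟩) m hcompat
  obtain ⟨s, hs⟩ := h O V hVO hdim g
  refine ⟨F.presheaf.germ O x hxO s, ?_⟩
  rw [RefHull.stalkMapₗ_germ]
  refine congrArg _ (germ_generic_injective (RefHull.ddual F) (isCoh_ddual F hF).1
    (isTorsionFree_of_isReflexive _ (isCoh_ddual F hF) (isReflexive_ddual F hF))
    (genericPoint_mem hxO) ?_)
  have hηV : genericPoint X ∈ V := by
    by_contra hη
    have h2 := hdim _ (genericPoint_mem hxO) hη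
    rw [ringKrullDim_eq_zero_of_isField isField_generic] at h2
    exact absurd h2 (by decide)
  rw [← RefHull.stalkMapₗ_germ, ← germ_res F hVO _ hηV s, hs,
    ← germ_res F (hWV ⟨_, hηV⟩) _ (hyW ⟨_, hηV⟩) g]
  refine Eq.trans ?_ (hgerm ⟨_, hηV⟩ _ (hyW ⟨_, hηV⟩))
  exact congrArg (fun q => RefHull.stalkMapₗ (RefHull.bidualMap F) (genericPoint X)
    (F.presheaf.germ _ _ (hyW ⟨_, hηV⟩) q)) (hg ⟨_, hηV⟩)

/-- Regular schemes are normal. -/
theorem isNormalScheme_of_regular (hreg : ∀ x : X, IsRegularLocalRing (X.presheaf.stalk x)) :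
    Pi1.IsNormalScheme X := fun x =>
  haveI := hreg x
  ⟨H4Depth.isDomain_of_isRegularLocalRing _, H05EGA4.isIntegrallyClosed_of_isRegularLocalRing _⟩

/-- A submodule of a reflexive module with torsion-free quotient extends across codimension two. -/
theorem bijective_res_of_sub [IsIntegral X] [IsLocallyNoetherian X] (hX : Pi1.IsNormalScheme X)
    (S : ShortComplex X.Modules) (hS : S.ShortExact) (hE : Coh.IsCoh S.X₂)
    (hEr : RefHull.IsReflexive S.X₂) (hQ : Coh.IsQCoh S.X₃) (hQt : TorSh.IsTorsionFree S.X₃)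
    {U V : X.Opens} (hVU : V ≤ U)
    (h : ∀ x : X, x ∈ U → x ∉ V → (2 : WithBot ℕ∞) ≤ ringKrullDim (X.presheaf.stalk x)) :
    Function.Bijective (S.X₁.presheaf.map (homOfLE hVU).op) := by
  haveI := hS.mono_f
  have hb := bijective_res hX S.X₂ hE hEr hVU h
  have hnat : ∀ a, S.f.app V (S.X₁.presheaf.map (homOfLE hVU).op a) =
      S.X₂.presheaf.map (homOfLE hVU).op (S.f.app U a) :=
    fun a => congr($(S.f.mapPresheaf.naturality (homOfLE hVU).op) a)
  refine ⟨fun a b hab => H10Coh.injective_app_of_mono' S.f U (hb.1 ?_), fun s => ?_⟩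
  · rw [← hnat, ← hnat, hab]
  · obtain ⟨t, ht⟩ := hb.2 (S.f.app V s)
    have h0 : S.g.app U t = 0 := by
      refine sec_ext S.X₃ fun y hy => sp_injective S.X₃ hQ hQt y ?_
      rw [map_zero, map_zero, sp_germ]
      have hηV : genericPoint X ∈ V := by
        by_contra hη
        have h2 := h _ (genericPoint_mem hy) hη
        rw [ringKrullDim_eq_zero_of_isField isField_generic] at h2
        exact absurd h2 (by decide)
      rw [← germ_res S.X₃ hVU _ hηV, ← show S.g.app V (S.X₂.presheaf.map (homOfLE hVU).op t) =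
        S.X₃.presheaf.map (homOfLE hVU).op (S.g.app U t) from
          congr($(S.g.mapPresheaf.naturality (homOfLE hVU).op) t), ht,
        show S.g.app V (S.f.app V s) = 0 from congr(($(S.zero)).app V s)]
      exact map_zero _
    obtain ⟨a, ha⟩ := H10Coh.exists_app_eq_of_exact hS U t h0
    refine ⟨a, H10Coh.injective_app_of_mono' S.f V ?_⟩
    rw [hnat, ha, ht]

end Groth.Agent.H29Ref
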