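import Groth.Agent.H29Ref.DualStalk
import Groth.Agent.H06Mod.StalkFinite
import Groth.Agent.H10Coh.FinType2

/-!
# Reflexivity of stalks and restriction to opens
-/

set_option autoImplicit false
set_option maxHeartbeats 400000
set_option linter.style.haveILetI false

universe u

open CategoryTheory CategoryTheory.Limits AlgebraicGeometry Opposite TopologicalSpace

namespace Groth.Agent.H29Ref

/-- Reflexivity transfers along semilinear equivalences. -/
theorem isReflexive_of_semilinear {R S : Type*} [CommRing R] [CommRing S] {M N : Type*}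
    [AddCommGroup M] [Module R M] [AddCommGroup N] [Module S N] (σ : R ≃+* S) (e : M ≃+ N)
    (he : ∀ (r : R) (m : M), e (r • m) = σ r • e m) [Module.IsReflexive S N] :
    Module.IsReflexive R M := by
  let back : Module.Dual S N → Module.Dual R M := fun ψ =>
    { toFun := fun m => σ.symm (ψ (e m))
      map_add' := fun a b => by rw [map_add, map_add, map_add]
      map_smul' := fun r m => by
        rw [he, map_smul, smul_eq_mul, map_mul, σ.symm_apply_apply, RingHom.id_apply, smul_eq_mul] }
  let forth : Module.Dual R M → Module.Dual S N := fun φ =>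
    { toFun := fun n => σ (φ (e.symm n))
      map_add' := fun a b => by rw [map_add, map_add, map_add]
      map_smul' := fun r n => by
        have h : e.symm (r • n) = σ.symm r • e.symm n := e.injective (by
          rw [he, e.apply_symm_apply, σ.apply_symm_apply, e.apply_symm_apply])
        rw [h, map_smul, smul_eq_mul, map_mul, σ.apply_symm_apply, RingHom.id_apply, smul_eq_mul] }
  refine ⟨⟨fun a b hab => ?_, fun Φ => ?_⟩⟩
  · refine e.injective ((Module.bijective_dual_eval S N).1 (LinearMap.ext fun ψ => ?_))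
    exact σ.symm.injective (LinearMap.congr_fun hab (back ψ))
  · let Ψ : Module.Dual S (Module.Dual S N) :=
      { toFun := fun ψ => σ (Φ (back ψ))
        map_add' := fun a b => by
          rw [show back (a + b) = back a + back b from LinearMap.ext fun m => map_add σ.symm _ _,
            map_add, map_add]
        map_smul' := fun r a => by
          rw [show back (r • a) = σ.symm r • back a from LinearMap.ext fun m => map_mul σ.symm _ _,
            map_smul, smul_eq_mul, map_mul, σ.apply_symm_apply, RingHom.id_apply, smul_eq_mul] }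
    obtain ⟨n, hn⟩ := (Module.bijective_dual_eval S N).2 Ψ
    refine ⟨e.symm n, LinearMap.ext fun φ => σ.injective ?_⟩
    have h := LinearMap.congr_fun hn (forth φ)
    have hbf : back (forth φ) = φ := LinearMap.ext fun m => by
      show σ.symm (σ (φ (e.symm (e m)))) = φ m
      rw [e.symm_apply_apply, σ.symm_apply_apply]
    exact h.trans (congrArg σ (congrArg Φ hbf))

variable {X : Scheme.{u}}

/-- A module whose restriction has a reflexive stalk has a reflexive stalk. -/
theorem isReflexiveAt_of_restrict (U : X.Opens) (K : X.Modules) (G : (U : Scheme.{u}).Modules)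
    (e : K.restrict U.ι ≅ G) (z : ↥(U : Scheme.{u}))
    (h : Module.IsReflexive ((U : Scheme.{u}).presheaf.stalk z) (G.presheaf.stalk z)) :
    RefHull.IsReflexiveAt K z.1 := by
  haveI := h
  let N := (K.restrict U.ι).presheaf.stalk z
  haveI hN : Module.IsReflexive ((U : Scheme.{u}).presheaf.stalk z) N := by
    have hb : Function.Bijective (RefHull.stalkMapₗ e.hom z) :=
      (isIso_iff_bijective_stalk e.hom).mp inferInstance z
    exact isReflexive_of_semilinear (RingEquiv.refl _)
      ((LinearEquiv.ofBijective _ hb).toAddEquiv) fun r m => (RefHull.stalkMapₗ e.hom z).map_smul r m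
  let σ : X.presheaf.stalk z.1 ≃+* (U : Scheme.{u}).presheaf.stalk z :=
    RingEquiv.ofBijective (U.ι.stalkMap z).hom (ConcreteCategory.bijective_of_isIso (U.ι.stalkMap z))
  let E : N ≃+ K.presheaf.stalk z.1 :=
    ((Scheme.Modules.restrictStalkNatIso U.ι z).app K).addCommGroupIsoToAddEquiv
  have key : ∀ (a : (U : Scheme.{u}).presheaf.stalk z) (v : N), E (a • v) = σ.symm a • E v := by
    intro a v
    obtain ⟨W, hzW, r, m, rfl, rfl⟩ : ∃ (W : (U : Scheme.{u}).Opens) (hz : z ∈ W)
        (r : Γ((U : Scheme.{u}), W)) (m : Γ(K.restrict U.ι, W)),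
        (U : Scheme.{u}).presheaf.germ W z hz r = a ∧ (K.restrict U.ι).presheaf.germ W z hz m = v := by
      obtain ⟨W₁, h₁, r, rfl⟩ := TopCat.Presheaf.exists_germ_eq (U : Scheme.{u}).presheaf a
      obtain ⟨W₂, h₂, m, rfl⟩ := TopCat.Presheaf.exists_germ_eq (K.restrict U.ι).presheaf v
      exact ⟨W₁ ⊓ W₂, ⟨h₁, h₂⟩, _, _,
        TopCat.Presheaf.germ_res_apply (U : Scheme.{u}).presheaf (homOfLE inf_le_left) z ⟨h₁, h₂⟩ r,
        germ_res (K.restrict U.ι) inf_le_right z ⟨h₁, h₂⟩ m⟩
    have hg : ∀ m' : Γ(K.restrict U.ι, W), E ((K.restrict U.ι).presheaf.germ W z hzW m') =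
        K.presheaf.germ (U.ι ''ᵁ W) z.1 ⟨z, hzW, rfl⟩ m' :=
      fun m' => congr($(Scheme.Modules.germ_restrictStalkNatIso_hom_app U.ι z K (U := W) hzW) m')
    rw [← Mero.germ_smul, hg, hg]
    let mm : Γ(K, U.ι ''ᵁ W) := m
    rw [show (r • m : Γ(K.restrict U.ι, W)) = ((U.ι.appIso W).inv r • mm : Γ(K, U.ι ''ᵁ W)) from rfl,
      Mero.germ_smul]
    congr 1
    refine σ.injective ?_
    rw [σ.apply_symm_apply]
    show U.ι.stalkMap z (X.presheaf.germ (U.ι ''ᵁ W) (U.ι z) ⟨z, hzW, rfl⟩ ((U.ι.appIso W).inv r)) = _
    rw [Scheme.Hom.germ_stalkMap_apply]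
    have h1 := congr($(U.ι.appIso_inv_app W) r)
    rw [ConcreteCategory.comp_apply] at h1
    rw [h1, TopCat.Presheaf.germ_res_apply]
  refine @isReflexive_of_semilinear _ _ _ _ _ _ _ _ _ _ σ E.symm (fun r m => ?_) hN
  refine E.injective ?_
  rw [key, E.apply_symm_apply, E.apply_symm_apply, σ.symm_apply_apply]

/-- Reflexivity is invariant under isomorphism. -/
theorem isReflexive_of_iso [IsLocallyNoetherian X] {M N : X.Modules} (e : M ≅ N) (hM : Coh.IsCoh M)
    (h : RefHull.IsReflexive M) : RefHull.IsReflexive N := by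
  refine (isReflexive_iff N (H10Coh.isCoh_of_iso e hM)).mpr fun x => ?_
  haveI : Module.IsReflexive (X.presheaf.stalk x) (M.presheaf.stalk x) :=
    (isReflexive_iff M hM).mp h x
  have hb : Function.Bijective (RefHull.stalkMapₗ e.inv x) :=
    (isIso_iff_bijective_stalk e.inv).mp inferInstance x
  exact isReflexive_of_semilinear (RingEquiv.refl _)
    ((LinearEquiv.ofBijective _ hb).toAddEquiv) fun r m => (RefHull.stalkMapₗ e.inv x).map_smul r m

end Groth.Agent.H29Ref
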