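import Groth.Agent.H29Ref.DualStalk
import Groth.Agent.H29Ref.Free
import Groth.Agent.H29Fitt.Sheaf
import Groth.Agent.H17.QcImage

/-!
# Invertibility of reflexive hulls at factorial points
-/

set_option autoImplicit false
set_option maxHeartbeats 400000
set_option linter.style.haveILetI false

universe u

open CategoryTheory CategoryTheory.Limits AlgebraicGeometry Opposite TopologicalSpace

namespace Groth.Agent.H29Ref

/-- Over a factorial domain the dual of a finite module of rank at most one is free. -/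
theorem free_dual_of_rank_one {R : Type u} [CommRing R] [IsDomain R] [UniqueFactorizationMonoid R]
    (M : Type u) [AddCommGroup M] [Module R M] [Module.Finite R M] (t : M)
    (h : ∀ m, ∃ α β : R, α ≠ 0 ∧ α • m = β • t) : Module.Free R (Module.Dual R M) := by
  classical
  have key : ∀ (ψ φ : Module.Dual R M) (m : M), ψ t * φ m = φ t * ψ m := fun ψ φ m => by
    obtain ⟨α, β, hα, he⟩ := h m
    refine mul_left_cancel₀ hα ?_
    have h1 := congrArg ψ he
    have h2 := congrArg φ he
    rw [map_smul, map_smul, smul_eq_mul, smul_eq_mul] at h1 h2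
    linear_combination (ψ t) * h2 - (φ t) * h1
  by_cases hne : ∀ φ : Module.Dual R M, φ t = 0
  · haveI : Subsingleton (Module.Dual R M) := subsingleton_of_forall_eq 0 fun φ => LinearMap.ext fun m => by
      obtain ⟨α, β, hα, he⟩ := h m
      have h1 := congrArg φ he
      rw [map_smul, map_smul, hne φ, smul_zero, smul_eq_mul] at h1
      exact (mul_eq_zero.mp h1).resolve_left hα
    exact Module.Free.of_subsingleton R _
  push Not at hne
  obtain ⟨φ, hφ⟩ := hne
  letI : NormalizedGCDMonoid R := Classical.arbitrary _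
  obtain ⟨s, hs⟩ := Module.Finite.fg_top (R := R) (M := M)
  let d := s.gcd φ
  have hdvd : ∀ a, d ∣ φ a := by
    intro a
    have ha : a ∈ Submodule.span R (s : Set M) := hs ▸ Submodule.mem_top
    induction ha using Submodule.span_induction with
    | mem x hx => exact Finset.gcd_dvd hx
    | zero => rw [map_zero]; exact dvd_zero _
    | add x y _ _ hx hy => rw [map_add]; exact dvd_add hx hy
    | smul r x _ hx => rw [map_smul]; exact Dvd.dvd.mul_left hx r
  have hd : d ≠ 0 := fun h0 => hφ (zero_dvd_iff.mp (h0 ▸ hdvd t))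
  choose f hf using hdvd
  let φ₀ : Module.Dual R M :=
    { toFun := f
      map_add' := fun x y => mul_left_cancel₀ hd (by rw [← hf, mul_add, ← hf, ← hf, map_add])
      map_smul' := fun r x => mul_left_cancel₀ hd (by
        rw [RingHom.id_apply, smul_eq_mul, ← hf, map_smul, smul_eq_mul, hf x, mul_left_comm]) }
  have hφ₀ : φ₀ t ≠ 0 := fun h0 => hφ (by rw [hf t, show f t = 0 from h0, mul_zero])
  refine Module.Free.of_equiv
    (LinearEquiv.ofBijective (LinearMap.toSpanSingleton R (Module.Dual R M) φ₀) ⟨fun a a' he => ?_, fun ψ => ?_⟩)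
  · exact mul_right_cancel₀ hφ₀ (by simpa using LinearMap.congr_fun he t)
  · have h2 : φ₀ t * d ∣ s.gcd fun a => ψ t * φ a := Finset.dvd_gcd fun a _ => ⟨ψ a, by
      rw [hf a, show f a = φ₀ a from rfl]
      linear_combination d * key ψ φ₀ a⟩
    obtain ⟨c, hc⟩ := (mul_dvd_mul_iff_right hd).mp
      (h2.trans (Finset.gcd_mul_left' (s := s) (f := φ) (ψ t)).dvd)
    refine ⟨c, LinearMap.ext fun a => mul_left_cancel₀ hφ₀ ?_⟩
    rw [LinearMap.toSpanSingleton_apply, LinearMap.smul_apply, smul_eq_mul, ← key ψ φ₀ a, hc]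
    ring

variable {X : Scheme.{u}}

/-- A rank one condition at a generalization gives rank one at the point. -/
theorem exists_rank_one_of_specializes (F : X.Modules) (hF : Coh.IsQCoh F) {q x : X} (hqx : q ⤳ x)
    (h1 : H8Props.FunDescent.StalkFree F 1 q) :
    ∃ t : F.presheaf.stalk x, ∀ v, ∃ α β : X.presheaf.stalk x, α ≠ 0 ∧ α • v = β • t := by
  obtain ⟨V, hV, hxV, -⟩ := exists_isAffineOpen_mem_and_subset (X := X) (x := x) (U := ⊤) trivial
  have hqV : q ∈ V := hqx.mem_open V.2 hxV
  let zx : V := ⟨x, hxV⟩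
  let zq : V := ⟨q, hqV⟩
  letI := TopCat.Presheaf.algebra_section_stalk X.presheaf zx
  letI := Module.compHom (F.presheaf.stalk x) (algebraMap Γ(X, V) (X.presheaf.stalk x))
  letI := TopCat.Presheaf.algebra_section_stalk X.presheaf zq
  letI := Module.compHom (F.presheaf.stalk q) (algebraMap Γ(X, V) (X.presheaf.stalk q))
  haveI : IsScalarTower Γ(X, V) (X.presheaf.stalk x) (F.presheaf.stalk x) :=
    .of_algebraMap_smul fun _ _ => rfl
  haveI : IsScalarTower Γ(X, V) (X.presheaf.stalk q) (F.presheaf.stalk q) :=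
    .of_algebraMap_smul fun _ _ => rfl
  haveI : IsLocalization (hV.primeIdealOf zq).asIdeal.primeCompl (X.presheaf.stalk q) :=
    hV.isLocalization_stalk zq
  haveI : IsLocalizedModule (hV.primeIdealOf zx).asIdeal.primeCompl (H29Fitt.germLin F zx) :=
    H29Fitt.isLocalizedModule_germLin F hF hV zx
  haveI : IsLocalizedModule (hV.primeIdealOf zq).asIdeal.primeCompl (H29Fitt.germLin F zq) :=
    H29Fitt.isLocalizedModule_germLin F hF hV zq
  have hne : ∀ a ∈ (hV.primeIdealOf zq).asIdeal.primeCompl,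
      algebraMap Γ(X, V) (X.presheaf.stalk x) a ≠ 0 := by
    intro a ha h0
    refine (IsLocalization.map_units (X.presheaf.stalk q) ⟨a, ha⟩).ne_zero ?_
    exact (X.presheaf.germ_stalkSpecializes_apply hxV hqx a).symm.trans
      ((congrArg (X.presheaf.stalkSpecializes hqx) h0).trans (map_zero _))
  obtain ⟨b⟩ := h1
  obtain ⟨⟨m₀, s⟩, hs⟩ := IsLocalizedModule.surj (hV.primeIdealOf zq).asIdeal.primeCompl
    (H29Fitt.germLin F zq) (b 0)
  refine ⟨H29Fitt.germLin F zx m₀, fun v => ?_⟩
  obtain ⟨⟨m, c⟩, hc⟩ := IsLocalizedModule.surj (hV.primeIdealOf zx).asIdeal.primeCompl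
    (H29Fitt.germLin F zx) v
  obtain ⟨⟨r, c'⟩, hr⟩ := IsLocalization.surj (hV.primeIdealOf zq).asIdeal.primeCompl
    (b.repr (H29Fitt.germLin F zq m) 0)
  have he : H29Fitt.germLin F zq ((c'.1 * s.1) • m) = H29Fitt.germLin F zq (r • m₀) := by
    simp only [map_smul]
    rw [← hs, Submonoid.smul_def]
    conv_lhs => rw [← b.sum_repr (H29Fitt.germLin F zq m), Fin.sum_univ_one]
    rw [← algebraMap_smul (X.presheaf.stalk q) (c'.1 * s.1), ← algebraMap_smul (X.presheaf.stalk q) r,
      ← algebraMap_smul (X.presheaf.stalk q) s.1 (b 0), smul_smul, smul_smul]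
    congr 1
    rw [map_mul, ← hr]
    ring
  obtain ⟨a, ha⟩ := IsLocalizedModule.exists_of_eq (S := (hV.primeIdealOf zq).asIdeal.primeCompl) he
  have hle : ∀ n ∈ (hV.primeIdealOf zx).asIdeal.primeCompl, n ∈ (hV.primeIdealOf zq).asIdeal.primeCompl := by
    intro n hn hn'
    haveI := hV.isLocalization_stalk zx
    have hu := IsLocalization.map_units (X.presheaf.stalk x) (⟨n, hn⟩ : (hV.primeIdealOf zx).asIdeal.primeCompl)
    have hu' := hu.map (X.presheaf.stalkSpecializes hqx).hom
    rw [show (X.presheaf.stalkSpecializes hqx).hom (algebraMap Γ(X, V) (X.presheaf.stalk x) n) =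
      algebraMap Γ(X, V) (X.presheaf.stalk q) n from X.presheaf.germ_stalkSpecializes_apply hxV hqx n] at hu'
    exact hn' |> ((IsLocalization.AtPrime.isUnit_to_map_iff (X.presheaf.stalk q) _ n).mp hu')
  refine ⟨algebraMap Γ(X, V) _ (a.1 * (c'.1 * s.1) * c.1), algebraMap Γ(X, V) _ (a.1 * r),
    hne _ (mul_mem (mul_mem a.2 (mul_mem c'.2 s.2)) (hle _ c.2)), ?_⟩
  rw [algebraMap_smul, algebraMap_smul, mul_smul, ← Submonoid.smul_def, hc, ← map_smul, ← map_smul]
  congr 1
  rw [mul_smul, mul_smul]
  simpa only [Submonoid.smul_def, mul_smul] using ha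

/-- The reflexive hull of a coherent module which is invertible on a dense open is invertible
if the local rings outside the open are factorial. -/
theorem isInvertible_ddual [IsLocallyNoetherian X] (F : X.Modules) (hF : Coh.IsCoh F) (D : X.Opens)
    (hD : Dense (D : Set X)) (h1 : ∀ x ∈ D, H8Props.FunDescent.StalkFree F 1 x)
    (hufd : ∀ x, x ∉ D → UniqueFactorizationMonoid (X.presheaf.stalk x)) :
    PicF.IsInvertible (RefHull.ddual F) ∧
      ∀ x ∈ D, Function.Bijective (RefHull.stalkMapₗ (RefHull.bidualMap F) x) := by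
  have hFP := H10Coh.isFP_of_isCoh F hF
  have hFP' := isFP_dual F hF
  have hbij : ∀ x ∈ D, Function.Bijective (RefHull.stalkMapₗ (RefHull.bidualMap F) x) := fun x hx => by
    obtain ⟨b⟩ := h1 x hx
    haveI := Module.Free.of_basis b
    haveI := Module.Finite.of_basis b
    exact (isReflexiveAt_iff F hFP hFP' x).mp
      (show Module.IsReflexive (X.presheaf.stalk x) (F.presheaf.stalk x) from inferInstance)
  refine ⟨fun x => ?_, hbij⟩
  haveI hfree : Module.Free (X.presheaf.stalk x)
      (Module.Dual (X.presheaf.stalk x) (F.presheaf.stalk x)) := by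
    by_cases hx : x ∈ D
    · obtain ⟨b⟩ := h1 x hx
      haveI := Module.Free.of_basis b
      haveI := Module.Finite.of_basis b
      infer_instance
    · haveI := hufd x hx
      haveI : IsDomain (X.presheaf.stalk x) := { }
      obtain ⟨q', hq'⟩ := H17.exists_specializes_of_mem_closure_range D.ι
        (y := x) (by rw [Scheme.Opens.range_ι]; exact hD x)
      obtain ⟨t, ht⟩ := exists_rank_one_of_specializes F hF.1 hq' (h1 _ q'.2)
      haveI := finite_stalk F hF.2 x
      exact free_dual_of_rank_one _ t ht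
  haveI : Module.Finite (X.presheaf.stalk x) (Module.Dual (X.presheaf.stalk x) (F.presheaf.stalk x)) := by
    haveI := finite_stalk F hF.2 x
    infer_instance
  have e := ddualEquiv F hFP hFP' x
  haveI : Module.Free (X.presheaf.stalk x) ((RefHull.ddual F).presheaf.stalk x) :=
    Module.Free.of_equiv e.symm
  haveI : Module.Finite (X.presheaf.stalk x) ((RefHull.ddual F).presheaf.stalk x) :=
    Module.Finite.equiv e.symm
  have hGc := isCoh_ddual F hF
  obtain ⟨V, hxV, hV⟩ := H8Props.FunDescent.isFreeOfRankNear_of_stalkFree_of_isFP (RefHull.ddual F)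
    (H10Coh.isFP_of_isCoh _ hGc)
    (p := Module.finrank (X.presheaf.stalk x) ((RefHull.ddual F).presheaf.stalk x)) (x := x)
    ⟨Module.finBasis _ _⟩
  obtain ⟨y, hyV, hyD⟩ := mem_closure_iff.mp (hD x) (V : Set X) V.2 hxV
  obtain ⟨b⟩ := h1 y hyD
  have hn := H8Props.FunDescent.stalkFree_unique
    (F := RefHull.ddual F) ⟨b.map (LinearEquiv.ofBijective _ (hbij y hyD))⟩
    (H8Props.FunDescent.stalkFree_of_isFreeOfRankNear _ hGc.1 (x := y) ⟨V, hyV, hV⟩)
  exact exists_iso_of_isFreeOfRankNear_one _ x (hn ▸ ⟨V, hxV, hV⟩)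

end Groth.Agent.H29Ref
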