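import Groth.Agent.H17.Conormal.Left
import Groth.Agent.H29Omega.ConormalLocFree

/-!
# The conormal sheaf of `H_1`-regular and quasi-regular immersions
-/

set_option autoImplicit false
set_option linter.style.haveILetI false
set_option maxHeartbeats 400000
universe u

open CategoryTheory CategoryTheory.Limits AlgebraicGeometry TopologicalSpace TensorProduct

namespace Groth.Agent.H29Ref.ConormalQReg

open Groth.Agent.H06Mod Groth.Agent.H29Omega Groth.Agent.H17.Conormal

attribute [local instance] Groth.Agent.H06Mod.stalkAlgebra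

variable {Z Y X : Scheme.{u}}

/-- Left exactness of the conormal sequence at a point where the first immersion is `H_1`-regular. -/
theorem injective_stalkLin_of_h1Reg (f : Y ⟶ X) [IsImmersion f] [QuasiCompact f] (j : Z ⟶ Y)
    [IsImmersion j] [QuasiCompact j]
    {φ₁ : (Scheme.Modules.pullback j).obj (Omega.conormal f) ⟶ Omega.conormal (j ≫ f)}
    (hφ₁ : OmegaSh.IsConormalMap (j ≫ f) f (𝟙 X) j φ₁) (z : Z)
    (hj : RegImm.IsRegularImmersionAt .h1 j z) : Function.Injective (stalkLin φ₁ z) := by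
  classical
  obtain ⟨U, hzU, hcl, rs, hrs, hker⟩ := hj
  haveI := hcl
  letI := TopCat.Presheaf.algebra_section_stalk Y.presheaf (⟨j z, hzU⟩ : U.1)
  haveI := U.2.isLocalization_stalk ⟨j z, hzU⟩
  let A := X.presheaf.stalk (f.base (j.base z))
  let q : A →+* Y.presheaf.stalk (j.base z) := (f.stalkMap (j.base z)).hom
  let gY : Fin rs.length → Y.presheaf.stalk (j.base z) :=
    algebraMap Γ(Y, U.1) (Y.presheaf.stalk (j.base z)) ∘ rs.get
  have hgY : CAlgX.IsH1Regular gY :=
    H29Omega.isH1Regular_of_isLocalization (U.2.primeIdealOf ⟨j z, hzU⟩).asIdeal.primeCompl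
      hrs
  choose fl hfl using fun k => f.stalkMap_surjective (j.base z) (gY k)
  have hkerj : RingHom.ker (j.stalkMap z).hom = Ideal.span (Set.range gY) := by
    rw [H17.ker_stalkMap_eq_map j U.2 z hzU, hker, Ideal.map_ofList, Ideal.ofList]
    refine congrArg Ideal.span (Set.ext fun r => ?_)
    constructor
    · intro hr
      obtain ⟨b, hb, rfl⟩ := List.mem_map.1 hr
      obtain ⟨k, rfl⟩ := List.mem_iff_get.1 hb
      exact ⟨k, rfl⟩
    · rintro ⟨k, rfl⟩
      exact List.mem_map.2 ⟨_, List.get_mem rs k, rfl⟩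
  -- the kernel of the composite
  have hcompk : RingHom.ker ((j ≫ f).stalkMap z).hom = Ideal.span (Set.range fl) ⊔ RingHom.ker q := by
    rw [Scheme.Hom.stalkMap_comp]
    change RingHom.ker ((j.stalkMap z).hom.comp q) = _
    rw [← RingHom.comap_ker, hkerj]
    have : Ideal.span (Set.range gY) = (Ideal.span (Set.range fl)).map q := by
      rw [Ideal.map_span, ← Set.range_comp]
      exact congrArg Ideal.span (congrArg Set.range (funext fun k => (hfl k).symm))
    rw [this, Ideal.comap_map_of_surjective _ (f.stalkMap_surjective (j.base z)), ← RingHom.ker_eq_comap_bot]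
  let N := ((Scheme.Modules.pullback j).obj (Omega.conormal f)).presheaf.stalk z
  let gen : RingHom.ker q →+ N := (pullStalk j (Omega.conormal f) z).hom.comp (cgen f (j.base z))
  have hgen : ∀ (r : A) b, gen (r • b) = (j.stalkMap z).hom (q r) • gen b := fun r b => by
    show pullStalk j (Omega.conormal f) z (cgen f (j.base z) (r • b)) = _
    rw [cgen_smul]
    exact pullStalk_smul j (Omega.conormal f) z _ _
  letI : Module A N := Module.compHom N ((j.stalkMap z).hom.comp q)
  let genL : RingHom.ker q →ₗ[A] N := { toFun := gen, map_add' := map_add gen, map_smul' := hgen }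
  let Λ : A ⊗[A] RingHom.ker q →ₗ[A] N := genL ∘ₗ (TensorProduct.lid A _).toLinearMap
  -- every element of the source is the image of a single generator
  have hsurj : ∀ v : N, ∃ a, gen a = v := by
    intro v
    obtain ⟨t, rfl⟩ := (pullStalkEquiv j (Omega.conormal f) z).surjective v
    induction t using TensorProduct.induction_on with
    | zero => exact ⟨0, by rw [map_zero, map_zero]⟩
    | add a b ha hb =>
      obtain ⟨a', ha'⟩ := ha
      obtain ⟨b', hb'⟩ := hb
      exact ⟨a' + b', by rw [map_add, ha', hb', map_add]⟩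
    | tmul r m =>
      obtain ⟨a, rfl⟩ := exists_cgen_eq f (j.base z) m
      obtain ⟨r₁, rfl⟩ := j.stalkMap_surjective z r
      obtain ⟨r₂, rfl⟩ := f.stalkMap_surjective (j.base z) r₁
      refine ⟨r₂ • a, (hgen r₂ a).trans ?_⟩
      show _ = pullStalkLin j (Omega.conormal f) z (_ ⊗ₜ cgen f (j.base z) a)
      rw [pullStalkLin_tmul]
      rfl
  rw [injective_iff_map_eq_zero]
  intro v hv
  obtain ⟨a, rfl⟩ := hsurj v
  have hφa : cgen (j ≫ f) z ⟨(baseStalkMap f (j ≫ f) (𝟙 X) j hφ₁.1 z).hom a.1, baseStalkMap_mem_ker hφ₁.1 z a⟩ = 0 :=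
    (stalkLin_conormalMap hφ₁ z a).symm.trans hv
  have hγ : (baseStalkMap f (j ≫ f) (𝟙 X) j hφ₁.1 z).hom a.1 = a.1 := by
    obtain ⟨W, hW, s, hs⟩ := X.presheaf.exists_germ_eq a.1
    rw [← hs, baseStalkMap_germ hφ₁.1 z W hW W le_rfl hW s,
      show (𝟙 X : X ⟶ X).appLE W W le_rfl = 𝟙 _ by
        simp only [Scheme.Hom.appLE, Scheme.Hom.id_app]
        exact (Category.id_comp _).trans (X.presheaf.map_id _)]
    rfl
  have hsq : a.1 ∈ (Ideal.span (Set.range fl) ⊔ RingHom.ker q) ^ 2 := by
    have h2 : (baseStalkMap f (j ≫ f) (𝟙 X) j hφ₁.1 z).hom a.1 ∈ RingHom.ker ((j ≫ f).stalkMap z).hom ^ 2 :=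
      mem_sq_of_cgen_eq_zero (j ≫ f) z _ hφa
    rw [hcompk, hγ] at h2
    exact h2
  haveI : Module.Flat A A := inferInstance
  have hmem := H29Omega.mem_span_tmul_of_mul_mem_sq (A' := A) (T' := A) (J := RingHom.ker q) q
    (f.stalkMap_surjective (j.base z)) (by rw [Algebra.algebraMap_self, Ideal.map_id]) fl
    (by rwa [show (q ∘ fl) = gY from funext hfl]) ((1 : A) ⊗ₜ[A] a)
    (by rw [H29Omega.tmulMap_tmul, one_mul, Algebra.algebraMap_self, Ideal.map_id]; exact hsq)
  have hkill : ∀ w ∈ Submodule.span A {y | ∃ p ∈ Ideal.span (Set.range fl) ⊔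
      (RingHom.ker q).map (algebraMap A A), ∃ b : RingHom.ker q, y = p ⊗ₜ[A] b}, Λ w = 0 := by
    intro w hw
    induction hw using Submodule.span_induction with
    | mem w hw =>
      obtain ⟨p, hp, b, rfl⟩ := hw
      rw [Algebra.algebraMap_self, Ideal.map_id, ← hcompk] at hp
      show genL ((TensorProduct.lid A _) (p ⊗ₜ[A] b)) = 0
      rw [TensorProduct.lid_tmul, map_smul]
      show (j.stalkMap z).hom (q p) • gen b = 0
      have h0 : (j.stalkMap z).hom (q p) = 0 := by
        have := RingHom.mem_ker.1 hp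
        rwa [Scheme.Hom.stalkMap_comp] at this
      rw [h0, zero_smul]
    | zero => exact map_zero _
    | add x y _ _ hx hy => rw [map_add, hx, hy, add_zero]
    | smul r x _ hx => rw [map_smul, hx, smul_zero]
  have h1 := hkill _ hmem
  simpa [Λ, genL] using h1

/-- The conormal sheaf of a quasi-regular quasi-compact immersion is finite locally free. -/
theorem isFinLocFree_conormal_of_quasi (i : Z ⟶ X) [IsImmersion i] [QuasiCompact i]
    (hi : ∀ z, RegImm.IsRegularImmersionAt .quasi i z) : FlatMod.IsFinLocFree (Omega.conormal i) := by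
  classical
  refine H8Props.FinLocFree.isFinLocFree_of_sections _
    (H29Fitt.isQCoh_pullback i _ (H17.OmegaLocal.isQuasicoherent_idealMod i.ker)) fun z => ?_
  obtain ⟨U, hzU, hcl, rs, hrs, hker⟩ := hi z
  haveI := hcl
  obtain ⟨happ, hBU⟩ := H17.app_surjective_of_restrict i U.2
  refine ⟨i ⁻¹ᵁ U.1, hBU, hzU, ?_⟩
  obtain ⟨hsurj, hkerQ⟩ := H17.PullSect.isQuotOn_of_isAffineOpen i (ClSub.idealMod i.ker)
    (H17.OmegaLocal.isQuasicoherent_idealMod i.ker) U.2
  have hK : RingHom.ker (i.app U.1).hom = i.ker.ideal U := (Scheme.Hom.ker_apply i U).symm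
  set K := RingHom.ker (i.app U.1).hom with hKdef
  choose L hL using fun a : K => (H29Blow.mem_ideal_iff_exists_idealSect i.ker U.2 a.1).1 (hK.le a.2)
  have hinj := H29Blow.idealSect_injective i.ker U.1
  let C := Omega.conormal i
  let e : K →+ Γ(C, i ⁻¹ᵁ U.1) :=
    { toFun := fun a => OmegaSh.pullSect i (ClSub.idealMod i.ker) U.1 (L a)
      map_zero' := by
        rw [show L 0 = 0 from hinj (by rw [hL, map_zero]; rfl)]
        exact map_zero _
      map_add' := fun a b => by
        rw [show L (a + b) = L a + L b from hinj (by rw [hL, map_add, hL, hL]; rfl)]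
        exact map_add _ _ _ }
  have he_smul : ∀ (x : Γ(X, U.1)) a, e (x • a) = i.app U.1 x • e a := fun x a => by
    show OmegaSh.pullSect i (ClSub.idealMod i.ker) U.1 (L (x • a)) = _
    rw [show L (x • a) = x • L a from hinj (by rw [hL, H29Blow.idealSect_smul, hL]; rfl)]
    exact Scheme.Modules.Hom.app_smul _ x (L a)
  have he_surj : Function.Surjective e := fun n => by
    obtain ⟨m, rfl⟩ := hsurj n
    have hm : OmegaSh.idealSect i.ker U.1 m ∈ K :=
      hK.ge ((H29Blow.mem_ideal_iff_exists_idealSect i.ker U.2 _).2 ⟨m, rfl⟩)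
    exact ⟨⟨_, hm⟩, congrArg (OmegaSh.pullSect i (ClSub.idealMod i.ker) U.1) (hinj (hL ⟨_, hm⟩))⟩
  have he_ker : ∀ a, e a = 0 → (a : Γ(X, U.1)) ∈ K ^ 2 := by
    intro a ha
    rw [← hL a]
    refine Submodule.smul_induction_on
      (p := fun m => OmegaSh.idealSect i.ker U.1 m ∈ K ^ 2) (hkerQ (L a) ha) (fun r hr n _ => ?_)
      fun m n hm hn => by rw [map_add]; exact add_mem hm hn
    rw [H29Blow.idealSect_smul, pow_two]
    exact Ideal.mul_mem_mul hr (hK.ge ((H29Blow.mem_ideal_iff_exists_idealSect i.ker U.2 _).2 ⟨n, rfl⟩))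
  have hspan : Ideal.span (Set.range rs.get) = K := by
    rw [hker]
    refine congrArg Ideal.span (Set.ext fun y => ?_)
    exact ⟨fun ⟨k, hk⟩ => hk ▸ List.get_mem rs k, fun hy => (List.mem_iff_get.1 hy).imp fun k hk => hk⟩
  have hfK : ∀ k, rs.get k ∈ K := fun k => hspan ▸ Ideal.subset_span ⟨k, rfl⟩
  obtain ⟨hli, -⟩ := H06QR.cotangent_basis hrs hspan (fun k => ⟨rs.get k, hfK k⟩) fun k => rfl
  have hind : LinearIndependent Γ(Z, i ⁻¹ᵁ U.1) fun k => e ⟨rs.get k, hfK k⟩ := by
    rw [Fintype.linearIndependent_iff] at hli ⊢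
    intro c hc k
    choose a ha using fun k => happ (c k)
    have h0 : e (∑ k, a k • (⟨rs.get k, hfK k⟩ : K)) = 0 := by
      rw [map_sum]
      refine Eq.trans (Finset.sum_congr rfl fun k _ => ?_) hc
      rw [he_smul]
      exact congrArg (· • e ⟨rs.get k, hfK k⟩) (ha k)
    have h1 : K.toCotangent (∑ k, a k • (⟨rs.get k, hfK k⟩ : K)) = 0 :=
      (Ideal.toCotangent_eq_zero _ _).2 (he_ker _ h0)
    rw [map_sum] at h1
    have h2 := hli (fun k => Ideal.Quotient.mk K (a k)) (Eq.trans (Finset.sum_congr rfl fun k _ => by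
      rw [map_smul]
      exact algebraMap_smul (Γ(X, U.1) ⧸ K) (a k) _) h1) k
    rw [← ha k]
    exact Ideal.Quotient.eq_zero_iff_mem.1 h2
  have hsp : ⊤ ≤ Submodule.span Γ(Z, i ⁻¹ᵁ U.1) (Set.range fun k => e ⟨rs.get k, hfK k⟩) := by
    rintro n -
    obtain ⟨a, rfl⟩ := he_surj n
    obtain ⟨a, ha⟩ := a
    have hmem : a ∈ Ideal.span (Set.range rs.get) := hspan.symm ▸ ha
    obtain ⟨c, hc⟩ := Ideal.mem_span_range_iff_exists_fun.1 hmem
    rw [show (⟨a, ha⟩ : K) = ∑ k, c k • (⟨rs.get k, hfK k⟩ : K) from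
      Subtype.ext (hc.symm.trans (by rw [AddSubmonoidClass.coe_finsetSum]; rfl)), map_sum]
    refine Submodule.sum_mem _ fun k _ => ?_
    rw [he_smul]
    exact Submodule.smul_mem _ _ (Submodule.subset_span ⟨k, rfl⟩)
  haveI := Module.Free.of_basis (Module.Basis.mk hind hsp)
  haveI := Module.Finite.of_basis (Module.Basis.mk hind hsp)
  exact ⟨Module.finitePresentation_of_projective _ _, inferInstance⟩

end Groth.Agent.H29Ref.ConormalQReg
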