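import Groth.Agent.H29Ref.ClassMap
import Groth.Agent.H16Derived.KFlat.StalkTensor
import Groth.Agent.H10Coh.TensorTilde

/-!
# Tensor products and duals of rank one reflexive modules
-/

set_option autoImplicit false
set_option maxHeartbeats 400000

universe u

open CategoryTheory CategoryTheory.Limits AlgebraicGeometry Opposite TopologicalSpace
open scoped TensorProduct

namespace Groth.Agent.H29Ref

open H8Props.FunDescent (StalkFree)
open H16Derived.KFlat.Stalk (pair pair_germ exists_germ₂ toStalk toStalk_tmul toStalk_bijective)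

variable {X : Scheme.{u}}

theorem stalkFree_of_bijective {F G : X.Modules} {n : ℕ} {x : X} (φ : F ⟶ G)
    (h : StalkFree F n x) (hb : Function.Bijective (RefHull.stalkMapₗ φ x)) : StalkFree G n x := by
  obtain ⟨b⟩ := h
  exact ⟨b.map (LinearEquiv.ofBijective _ hb)⟩

/-- Generic rank one of a tensor product. -/
theorem stalkFree_tensorMod {F G : X.Modules} {x : X} (hF : StalkFree F 1 x) (hG : StalkFree G 1 x) :
    StalkFree (CohB1.tensorMod F G) 1 x := by
  obtain ⟨b⟩ := hF
  obtain ⟨c⟩ := hG
  exact ⟨((b.tensorProduct c).reindex (finProdFinEquiv.trans (finCongr (Nat.one_mul 1)))).map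
    (LinearEquiv.ofBijective _ (toStalk_bijective F G x))⟩

variable [IsIntegral X]

theorem IsStalkGen.mk' {F : X.Modules} (hη : StalkFree F 1 (genericPoint X)) {x : X}
    {t : F.presheaf.stalk x} (h1 : Submodule.span (X.presheaf.stalk x) {t} = ⊤) (h2 : sp F x t ≠ 0) :
    IsStalkGen F x t :=
  ⟨h1, h2, fun v => by
    obtain ⟨c, hc⟩ := (bijective_toSpan hη h2).2 v
    exact ⟨c, hc.symm⟩⟩

theorem pair_ne_zero {F G : X.Modules} (hF : StalkFree F 1 (genericPoint X))
    (hG : StalkFree G 1 (genericPoint X)) {v : F.presheaf.stalk (genericPoint X)} (hv : v ≠ 0)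
    {w : G.presheaf.stalk (genericPoint X)} (hw : w ≠ 0) : pair F G (genericPoint X) v w ≠ 0 := by
  intro h
  rw [← toStalk_tmul, map_eq_zero_iff _ (toStalk_bijective F G _).1] at h
  let e := (TensorProduct.congr (trivGen hF v hv) (trivGen hG w hw)).symm
  have h1 : e (v ⊗ₜ w) = (1 : X.presheaf.stalk (genericPoint X)) ⊗ₜ 1 := by
    rw [LinearEquiv.symm_apply_eq, TensorProduct.congr_tmul, trivGen_one hF, trivGen_one hG]
  have h2 := congrArg (TensorProduct.lid (X.presheaf.stalk (genericPoint X))
    (X.presheaf.stalk (genericPoint X))) h1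
  rw [h, map_zero, map_zero, TensorProduct.lid_tmul, one_smul] at h2
  exact zero_ne_one h2

theorem sp_pair (F G : X.Modules) (x : X) (a : F.presheaf.stalk x) (b : G.presheaf.stalk x) :
    sp (CohB1.tensorMod F G) x (pair F G x a b) =
      pair F G (genericPoint X) (sp F x a) (sp G x b) := by
  obtain ⟨⟨U, m, n⟩, hU, rfl, rfl⟩ := exists_germ₂ F G x a b
  rw [pair_germ, sp_germ, sp_germ, pair_germ]
  exact sp_germ (CohB1.tensorMod F G) x hU _

theorem pair_smul_smul (F G : X.Modules) (x : X) (c d : X.presheaf.stalk x) (a : F.presheaf.stalk x)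
    (b : G.presheaf.stalk x) : pair F G x (c • a) (d • b) = (c * d) • pair F G x a b := by
  rw [← toStalk_tmul, ← toStalk_tmul, TensorProduct.smul_tmul_smul, map_smul]

theorem IsStalkGen.pair {F G : X.Modules} (hF : StalkFree F 1 (genericPoint X))
    (hG : StalkFree G 1 (genericPoint X)) {x : X} {a : F.presheaf.stalk x} (ha : IsStalkGen F x a)
    {b : G.presheaf.stalk x} (hb : IsStalkGen G x b) :
    IsStalkGen (CohB1.tensorMod F G) x (H16Derived.KFlat.Stalk.pair F G x a b) := by
  refine IsStalkGen.mk' (stalkFree_tensorMod hF hG) (eq_top_iff.mpr fun z _ => ?_) ?_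
  · obtain ⟨t, rfl⟩ := (toStalk_bijective F G x).2 z
    induction t using TensorProduct.induction_on with
    | zero => rw [map_zero]; exact zero_mem _
    | add p q hp hq => rw [map_add]; exact add_mem (hp trivial) (hq trivial)
    | tmul p q =>
      obtain ⟨c, rfl⟩ := Submodule.mem_span_singleton.mp
        (ha.span_eq.symm ▸ Submodule.mem_top : p ∈ Submodule.span (X.presheaf.stalk x) {a})
      obtain ⟨d, rfl⟩ := Submodule.mem_span_singleton.mp
        (hb.span_eq.symm ▸ Submodule.mem_top : q ∈ Submodule.span (X.presheaf.stalk x) {b})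
      rw [toStalk_tmul, pair_smul_smul]
      exact Submodule.smul_mem _ _ (Submodule.mem_span_singleton_self _)
  · rw [sp_pair]
    exact pair_ne_zero hF hG ha.sp_ne hb.sp_ne

variable [IsLocallyNoetherian X]

theorem secO_pair {F G : X.Modules} (hF : StalkFree F 1 (genericPoint X))
    (hG : StalkFree G 1 (genericPoint X)) {x : X} (hx : Order.coheight x = 1)
    {a : F.presheaf.stalk x} (ha : IsStalkGen F x a) {b : G.presheaf.stalk x} (hb : IsStalkGen G x b)
    {v : F.presheaf.stalk (genericPoint X)} (hv : v ≠ 0)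
    {w : G.presheaf.stalk (genericPoint X)} (hw : w ≠ 0) :
    secO (CohB1.tensorMod F G) x (H16Derived.KFlat.Stalk.pair F G (genericPoint X) v w) =
      secO F x v + secO G x w := by
  obtain ⟨c, hc⟩ := ha.exists_smul v
  obtain ⟨d, hd⟩ := hb.exists_smul w
  have hc0 : (c : X.functionField) ≠ 0 := fun h => hv (by rw [hc, show c = 0 from h, zero_smul])
  have hd0 : (d : X.functionField) ≠ 0 := fun h => hw (by rw [hd, show d = 0 from h, zero_smul])
  rw [secO_eq hx ha hv hc, secO_eq hx hb hw hd, secO_eq hx (ha.pair hF hG hb)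
    (pair_ne_zero hF hG hv hw) (φ := (c * d : X.functionField))
    (by rw [hc, hd, pair_smul_smul, ← sp_pair]; rfl)]
  exact Scheme.ord_mul hc0 hd0

/-- A reflexive hull of a rank one coherent module is a rank one reflexive module. -/
theorem isRef1_ddual (F : X.Modules) (hF : Coh.IsCoh F) (hη : StalkFree F 1 (genericPoint X)) :
    RefHull.IsRef1 (RefHull.ddual F) :=
  ⟨isCoh_ddual F hF, isReflexive_ddual F hF, genInvertible_of_stalkFree _ (isCoh_ddual F hF)
    (stalkFree_of_bijective _ hη (bijective_bidual_generic F hF))⟩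

theorem isRef1_refTensor {F G : X.Modules} (hF : RefHull.IsRef1 F) (hG : RefHull.IsRef1 G) :
    RefHull.IsRef1 (RefHull.ddual (CohB1.tensorMod F G)) :=
  isRef1_ddual _ (H10Coh.TT.isCoh_tensorMod hF.1 hG.1)
    (stalkFree_tensorMod (stalkFree_generic F hF.1 hF.2.2) (stalkFree_generic G hG.1 hG.2.2))

/-- The class map is additive. -/
theorem exists_secO_refTensor (hX : Pi1.IsNormalScheme X) {F G : X.Modules} (hF : RefHull.IsRef1 F)
    (hG : RefHull.IsRef1 G) {v : F.presheaf.stalk (genericPoint X)} (hv : v ≠ 0)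
    {w : G.presheaf.stalk (genericPoint X)} (hw : w ≠ 0) :
    ∃ z : (RefHull.ddual (CohB1.tensorMod F G)).presheaf.stalk (genericPoint X), z ≠ 0 ∧
      ∀ x, Order.coheight x = 1 →
        secO (RefHull.ddual (CohB1.tensorMod F G)) x z = secO F x v + secO G x w := by
  have hη1 := stalkFree_generic F hF.1 hF.2.2
  have hη2 := stalkFree_generic G hG.1 hG.2.2
  have hT : Coh.IsCoh (CohB1.tensorMod F G) := H10Coh.TT.isCoh_tensorMod hF.1 hG.1
  have hb := bijective_bidual_generic _ hT
  have hp : (H16Derived.KFlat.Stalk.pair F G (genericPoint X) v w :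
      (CohB1.tensorMod F G).presheaf.stalk (genericPoint X)) ≠ 0 := pair_ne_zero hη1 hη2 hv hw
  refine ⟨RefHull.stalkMapₗ (RefHull.bidualMap (CohB1.tensorMod F G)) (genericPoint X)
    (H16Derived.KFlat.Stalk.pair F G (genericPoint X) v w), (map_ne_zero_iff _ hb.1).mpr hp, fun x hx => ?_⟩
  obtain ⟨a, ha⟩ := exists_isStalkGen_of_isRef1 hX F hF x hx
  obtain ⟨b, hb'⟩ := exists_isStalkGen_of_isRef1 hX G hG x hx
  exact (secO_map _ hx (ha.pair hη1 hη2 hb') (surjective_bidual_stalk hX _ hT x
    (by rw [ringKrullDim_stalk_eq_coheight, hx]; rfl)) hb hp).trans (secO_pair hη1 hη2 hx ha hb' hv hw)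

omit [IsLocallyNoetherian X] in
theorem sp_evalStalk (F G : X.Modules) (x : X) (θ : (RefHull.homSh F G).presheaf.stalk x)
    (a : F.presheaf.stalk x) :
    sp G x (RefHull.evalStalk F G x θ a) =
      RefHull.evalStalk F G (genericPoint X) (sp (RefHull.homSh F G) x θ) (sp F x a) := by
  obtain ⟨U, hxU, g, rfl⟩ := TopCat.Presheaf.exists_germ_eq (RefHull.homSh F G).presheaf θ
  obtain ⟨V, hxV, m, rfl⟩ := TopCat.Presheaf.exists_germ_eq F.presheaf a
  have hx : x ∈ U ⊓ V := ⟨hxU, hxV⟩
  obtain ⟨W, hxW, i, n, hn⟩ := RefHull.isLocSect_of_mem g (U ⊓ V) (homOfLE inf_le_left)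
    (F.presheaf.map (homOfLE (inf_le_right : U ⊓ V ≤ V)).op m) ⟨x, hx⟩
  have e1 := hn ⟨x, hxW⟩
  have e2 := hn ⟨genericPoint X, genericPoint_mem hxW⟩
  rw [germ_res] at e1 e2
  rw [RefHull.evalStalk_germ, sp_germ, sp_germ, RefHull.evalStalk_germ]
  refine (congrArg (sp G x) e1).trans ((sp_germ G x hxW n).trans e2.symm)

omit [IsLocallyNoetherian X] in
theorem sp_dualEquiv (F : X.Modules) (hF : CohB1.IsFP F) (x : X)
    (θ : (RefHull.dual F).presheaf.stalk x) (a : F.presheaf.stalk x) :
    dualEquiv F hF (genericPoint X) (sp (RefHull.dual F) x θ) (sp F x a) =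
      spO x (dualEquiv F hF x θ a) := by
  rw [dualEquiv_apply, LinearEquiv.symm_apply_eq, ← sp_evalStalk]
  have h : RefHull.evalStalk F (Coh.structureModule X) x θ a =
      dualEquiv F hF x θ a • oneStalk x :=
    ((unitEquiv x).apply_symm_apply _).symm
  rw [h, sp_smul]
  refine congrArg (_ • ·) ?_
  rw [oneStalk, sp_germ]
  rfl

/-- The dual of a rank one reflexive module is a rank one reflexive module. -/
theorem isRef1_dual {F : X.Modules} (hF : RefHull.IsRef1 F) : RefHull.IsRef1 (RefHull.dual F) := by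
  have hc := isCoh_dual F hF.1
  refine ⟨hc, (isReflexive_iff _ hc).mpr fun x => ?_, genInvertible_of_stalkFree _ hc ?_⟩
  · haveI := finite_stalk F hF.1.2 x
    haveI := H1CAlg.isReflexive_hom (R := X.presheaf.stalk x) (F.presheaf.stalk x) (X.presheaf.stalk x)
    exact Module.equiv (dualEquiv F (H10Coh.isFP_of_isCoh F hF.1) x).symm
  · obtain ⟨b⟩ := stalkFree_generic F hF.1 hF.2.2
    exact ⟨b.dualBasis.map (dualEquiv F (H10Coh.isFP_of_isCoh F hF.1) (genericPoint X)).symm⟩

/-- The dual has opposite orders. -/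
theorem exists_secO_dual (hX : Pi1.IsNormalScheme X) {F : X.Modules} (hF : RefHull.IsRef1 F)
    {v : F.presheaf.stalk (genericPoint X)} (hv : v ≠ 0) :
    ∃ w : (RefHull.dual F).presheaf.stalk (genericPoint X), w ≠ 0 ∧
      ∀ x, Order.coheight x = 1 → secO (RefHull.dual F) x w = - secO F x v := by
  have hη := stalkFree_generic F hF.1 hF.2.2
  have hd := isRef1_dual hF
  have hfp := H10Coh.isFP_of_isCoh F hF.1
  let e := trivGen hη v hv
  let δ := dualEquiv F hfp (genericPoint X)
  refine ⟨δ.symm e.symm.toLinearMap, fun h => ?_, fun x hx => ?_⟩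
  · have h1 := congrArg (fun q => δ q v) h
    simp only [LinearEquiv.apply_symm_apply, map_zero, LinearMap.zero_apply] at h1
    rw [LinearEquiv.coe_coe, LinearEquiv.symm_apply_eq, map_zero] at h1
    exact hv h1
  obtain ⟨t, ht⟩ := exists_isStalkGen_of_isRef1 hX F hF x hx
  obtain ⟨θ, hθ⟩ := exists_isStalkGen_of_isRef1 hX _ hd x hx
  obtain ⟨φ, hφ⟩ := ht.exists_smul v
  obtain ⟨ψ, hψ⟩ := hθ.exists_smul (δ.symm e.symm.toLinearMap)
  have hne : δ.symm e.symm.toLinearMap ≠ 0 := fun h => by
    have h1 := congrArg (fun q => δ q v) h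
    simp only [LinearEquiv.apply_symm_apply, map_zero, LinearMap.zero_apply] at h1
    rw [LinearEquiv.coe_coe, LinearEquiv.symm_apply_eq, map_zero] at h1
    exact hv h1
  haveI := finite_stalk F hF.1.2 x
  let c := dualEquiv F hfp x θ t
  have hval : (ψ * φ) * spO x c = 1 := by
    have h1 := congrArg (fun q => δ q v) hψ
    simp only [LinearEquiv.apply_symm_apply] at h1
    rw [LinearEquiv.coe_coe, (LinearEquiv.symm_apply_eq _).mpr (trivGen_one hη v hv).symm,
      map_smul, LinearMap.smul_apply, hφ, map_smul] at h1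
    rw [h1, smul_eq_mul, smul_eq_mul, sp_dualEquiv]
    ring
  have hc : IsUnit c := by
    haveI := isDiscreteValuationRing_stalk hX x (by rw [ringKrullDim_stalk_eq_coheight, hx]; rfl)
    haveI : Module.Free (X.presheaf.stalk x) (F.presheaf.stalk x) := by
      haveI := isTorsionFree_of_isReflexive F hF.1 hF.2.1 x
      exact Module.free_of_finite_type_torsion_free'
    obtain ⟨b⟩ := stalkFree_one_of_free F hF.1 hη x
    obtain ⟨a, ha⟩ := Submodule.mem_span_singleton.mp (hθ.span_eq.symm ▸ Submodule.mem_top :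
      (dualEquiv F hfp x).symm (b.coord 0) ∈ Submodule.span (X.presheaf.stalk x) {θ})
    obtain ⟨d, hd'⟩ := Submodule.mem_span_singleton.mp
      (ht.span_eq.symm ▸ Submodule.mem_top : b 0 ∈ Submodule.span (X.presheaf.stalk x) {t})
    have h2 := congrArg (fun q => dualEquiv F hfp x q (b 0)) ha
    simp only [map_smul, LinearEquiv.apply_symm_apply, LinearMap.smul_apply] at h2
    conv at h2 => lhs; rw [← hd']
    rw [map_smul, smul_eq_mul, smul_eq_mul, Module.Basis.coord_apply, Module.Basis.repr_self,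
      Finsupp.single_eq_same] at h2
    exact IsUnit.of_mul_eq_one (a * d) (by rw [← h2]; ring)
  let K : Type u := X.functionField
  have hφ0 : (φ : X.functionField) ≠ 0 := fun h => hv (by rw [hφ, show φ = 0 from h, zero_smul])
  have hψ0 : (ψ : X.functionField) ≠ 0 := fun h => hne (by rw [hψ, show ψ = 0 from h, zero_smul])
  have h3 := congrArg (fun q : X.functionField => Scheme.ord q x) hval
  rw [secO_eq hx ht hv hφ, secO_eq hx hθ hne hψ]
  have h4 : Scheme.ord (ψ * φ * spO x c : X.functionField) x =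
      Scheme.ord (ψ : X.functionField) x + Scheme.ord (φ : X.functionField) x := by
    rw [Scheme.ord_mul (mul_ne_zero hψ0 hφ0) ((map_ne_zero_iff _ (spO_injective x)).mpr hc.ne_zero),
      Scheme.ord_mul hψ0 hφ0, ord_unit hc, add_zero]
  have h5 : Scheme.ord (1 : X.functionField) x = 0 := by
    have h6 := ord_unit (X := X) (x := x) isUnit_one
    rw [map_one] at h6
    exact h6
  have h7 := h4.symm.trans (h3.trans h5)
  omega

end Groth.Agent.H29Ref
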