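import Groth.Agent.H29Blow.Stalk
import Groth.Agent.H29Blow.MaxPoints
import Groth.Agent.H29Blow.OfStalk
import Groth.Prelude.Def_IntMult

/-!
# The divisorial part of a closed subscheme
-/

set_option autoImplicit false
set_option maxHeartbeats 400000
set_option linter.style.haveILetI false

universe u

open CategoryTheory CategoryTheory.Limits AlgebraicGeometry Opposite TopologicalSpace IsLocalRing

namespace Groth.Agent.H29Ref

/-- In a noetherian local ring with principal maximal ideal, a nonzero ideal is a power of it. -/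
theorem exists_eq_span_pow {R : Type u} [CommRing R] [IsNoetherianRing R] [IsLocalRing R]
    (f : R) (hm : maximalIdeal R = Ideal.span {f}) (I : Ideal R) (hI : I ≠ ⊥) :
    ∃ n : ℕ, I = Ideal.span {f ^ n} := by
  classical
  have hex : ∃ n, ¬ I ≤ Ideal.span {f ^ n} := by
    by_contra h
    push Not at h
    refine hI (le_bot_iff.mp ?_)
    rw [← Ideal.iInf_pow_eq_bot_of_isLocalRing (maximalIdeal R) (IsLocalRing.maximalIdeal.isMaximal R).ne_top]
    exact le_iInf fun n => by rw [hm, Ideal.span_singleton_pow]; exact h n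
  obtain ⟨n, hn⟩ : ∃ n, Nat.find hex = n + 1 := Nat.exists_eq_succ_of_ne_zero fun h0 => by
    exact Nat.find_spec hex (by simp [h0])
  have hle : I ≤ Ideal.span {f ^ n} := not_not.mp (Nat.find_min hex (m := n) (by omega))
  have hnle : ¬ I ≤ Ideal.span {f ^ (n + 1)} := hn ▸ Nat.find_spec hex
  obtain ⟨c, hcI, hc⟩ := SetLike.not_le_iff_exists.mp hnle
  obtain ⟨r, hr⟩ := Ideal.mem_span_singleton'.mp (hle hcI)
  have hu : IsUnit r := by
    by_contra hu
    have : r ∈ maximalIdeal R := hu
    rw [hm] at this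
    obtain ⟨s, rfl⟩ := Ideal.mem_span_singleton'.mp this
    exact hc (Ideal.mem_span_singleton'.mpr ⟨s, by rw [← hr]; ring⟩)
  refine ⟨n, le_antisymm hle ?_⟩
  rw [Ideal.span_le, Set.singleton_subset_iff, SetLike.mem_coe]
  exact (Ideal.unit_mul_mem_iff_mem _ hu).mp (hr ▸ hcI)

/-- A noetherian local ring with maximal ideal generated by a regular element is a domain with two primes. -/
theorem isDomain_and_two_primes {R : Type u} [CommRing R] [IsNoetherianRing R] [IsLocalRing R]
    (f : R) (hm : maximalIdeal R = Ideal.span {f}) (hf : f ∈ nonZeroDivisors R) :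
    IsDomain R ∧ ∀ p : Ideal R, p.IsPrime → p = ⊥ ∨ p = maximalIdeal R := by
  have key : ∀ p : Ideal R, p.IsPrime → p ≠ maximalIdeal R → p = ⊥ := fun p hp hpm => by
    have hfp : f ∉ p := fun h => hpm (le_antisymm (le_maximalIdeal hp.ne_top)
      (hm ▸ (Ideal.span_singleton_le_iff_mem _).mpr h))
    have : p ≤ maximalIdeal R • p := fun a ha => by
      have ha' : a ∈ maximalIdeal R := le_maximalIdeal hp.ne_top ha
      rw [hm] at ha'
      obtain ⟨b, rfl⟩ := Ideal.mem_span_singleton'.mp ha'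
      rw [mul_comm]
      exact Submodule.smul_mem_smul (hm ▸ Ideal.mem_span_singleton_self f)
        ((hp.mem_or_mem ha).resolve_right hfp)
    exact Submodule.eq_bot_of_le_smul_of_le_jacobson_bot _ _ (IsNoetherian.noetherian p) this
      (maximalIdeal_le_jacobson ⊥)
  refine ⟨?_, fun p hp => or_iff_not_imp_right.mpr (key p hp)⟩
  obtain ⟨q, hq, -⟩ := Ideal.exists_minimalPrimes_le (bot_le : (⊥ : Ideal R) ≤ maximalIdeal R)
  have hqm : q ≠ maximalIdeal R := fun h => by
    have hfq : f ∈ q := h ▸ hm ▸ Ideal.mem_span_singleton_self f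
    exact Set.disjoint_left.mp (Ideal.disjoint_nonZeroDivisors_of_mem_minimalPrimes hq) hfq hf
  haveI : (⊥ : Ideal R).IsPrime := key q hq.1.1 hqm ▸ hq.1.1
  exact IsDomain.of_bot_isPrime R

variable {X : Scheme.{u}}

local notation "stI" => IntMult.stalkIdeal

/-- Stalks of ideal sheaves are computed on any affine neighbourhood. -/
theorem stalkIdeal_eq (I : X.IdealSheafData) (x : X) (V : X.affineOpens) (hx : x ∈ V.1) :
    stI I x = (I.ideal V).map (X.presheaf.germ V.1 x hx).hom := by
  refine le_antisymm (iSup₂_le fun U hU => ?_) (le_iSup₂_of_le V hx le_rfl)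
  obtain ⟨W, hW, hxW, hWle⟩ := exists_isAffineOpen_mem_and_subset (U := U.1 ⊓ V.1) (x := x) ⟨hU, hx⟩
  have key : ∀ (A : X.affineOpens) (hA : W ≤ A.1), (I.ideal A).map (X.presheaf.germ A.1 x (hA hxW)).hom =
      (I.ideal ⟨W, hW⟩).map (X.presheaf.germ W x hxW).hom := fun A hA => by
    rw [← I.map_ideal (U := ⟨W, hW⟩) (V := A) hA, Ideal.map_map]
    congr 1
    ext a
    exact (TopCat.Presheaf.germ_res_apply X.presheaf (homOfLE hA) x hxW a).symm
  exact (key U fun y hy => (hWle hy).1).le.trans (key V fun y hy => (hWle hy).2).ge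

theorem stalkIdeal_mul (I J : X.IdealSheafData) (x : X) : stI (I * J) x = stI I x * stI J x := by
  obtain ⟨V, hV, hxV, -⟩ := exists_isAffineOpen_mem_and_subset (X := X) (x := x) (U := ⊤) trivial
  simp only [stalkIdeal_eq _ x ⟨V, hV⟩ hxV, Scheme.IdealSheafData.ideal_mul, Pi.mul_apply, Ideal.map_mul]

theorem stalkIdeal_one (x : X) : stI (1 : X.IdealSheafData) x = ⊤ := by
  obtain ⟨V, hV, hxV, -⟩ := exists_isAffineOpen_mem_and_subset (X := X) (x := x) (U := ⊤) trivial
  rw [stalkIdeal_eq _ x ⟨V, hV⟩ hxV, show (1 : X.IdealSheafData) = ⊤ from rfl]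
  simp [Ideal.map_top]

theorem stalkIdeal_pow (I : X.IdealSheafData) (x : X) (n : ℕ) : stI (I ^ n) x = stI I x ^ n := by
  obtain ⟨V, hV, hxV, -⟩ := exists_isAffineOpen_mem_and_subset (X := X) (x := x) (U := ⊤) trivial
  simp only [stalkIdeal_eq _ x ⟨V, hV⟩ hxV, Scheme.IdealSheafData.ideal_pow, Pi.pow_apply, Ideal.map_pow]

theorem stalkIdeal_prod {ι : Type u} (s : Finset ι) (D : ι → X.IdealSheafData) (x : X) :
    stI (∏ i ∈ s, D i) x = ∏ i ∈ s, stI (D i) x := by
  classical
  induction s using Finset.induction with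
  | empty => rw [Finset.prod_empty, Finset.prod_empty, Ideal.one_eq_top, stalkIdeal_one]
  | insert a s ha ih => rw [Finset.prod_insert ha, Finset.prod_insert ha, stalkIdeal_mul, ih]

theorem stalkIdeal_specializes (I : X.IdealSheafData) {y x : X} (h : y ⤳ x) :
    stI I y = (stI I x).map (X.presheaf.stalkSpecializes h).hom := by
  obtain ⟨V, hV, hxV, -⟩ := exists_isAffineOpen_mem_and_subset (X := X) (x := x) (U := ⊤) trivial
  rw [stalkIdeal_eq _ x ⟨V, hV⟩ hxV, stalkIdeal_eq _ y ⟨V, hV⟩ (h.mem_open V.2 hxV), Ideal.map_map]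
  congr 1
  ext a
  exact (X.presheaf.germ_stalkSpecializes_apply hxV h a).symm

theorem stalkIdeal_eq_top_iff (I : X.IdealSheafData) (x : X) :
    stI I x = ⊤ ↔ x ∉ I.support := by
  obtain ⟨V, hV, hxV, -⟩ := exists_isAffineOpen_mem_and_subset (X := X) (x := x) (U := ⊤) trivial
  rw [stalkIdeal_eq _ x ⟨V, hV⟩ hxV]
  refine ⟨fun ht hs => ?_, fun h => H29Blow.map_germ_eq_top_of_notMem_support I x ⟨V, hV⟩ hxV h⟩
  have hs' : x ∈ X.zeroLocus (U := V) (I.ideal ⟨V, hV⟩) :=
    (Scheme.IdealSheafData.mem_support_iff_of_mem (U := ⟨V, hV⟩) hxV).mp hs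
  refine (maximalIdeal.isMaximal (X.presheaf.stalk x)).ne_top (eq_top_iff.mpr (ht ▸ ?_))
  rw [Ideal.map_le_iff_le_comap]
  intro a ha hu
  rw [Scheme.mem_zeroLocus_iff] at hs'
  exact hs' a ha ((X.mem_basicOpen _ x hxV).mpr hu)

theorem stalkIdeal_eq_ker (I : X.IdealSheafData) (d : I.subscheme) :
    stI I (I.subschemeι d) = RingHom.ker (I.subschemeι.stalkMap d).hom := by
  obtain ⟨V, hV, hxV, -⟩ :=
    exists_isAffineOpen_mem_and_subset (X := X) (x := I.subschemeι d) (U := ⊤) trivial
  rw [H29Blow.ker_stalkMap_subschemeι I d ⟨V, hV⟩ hxV, stalkIdeal_eq _ _ ⟨V, hV⟩ hxV]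

theorem exists_stalk_gen {I : X.IdealSheafData} (hI : BlowUp.IsEffCartierIdeal I) (x : X) :
    ∃ g ∈ nonZeroDivisors (X.presheaf.stalk x), stI I x = Ideal.span {g} := by
  by_cases hx : x ∈ I.support
  · obtain ⟨d, rfl⟩ : x ∈ Set.range I.subschemeι := by
      rw [Scheme.IdealSheafData.range_subschemeι]; exact hx
    obtain ⟨g, hg, -, hker⟩ := H29Blow.exists_gen_stalk I hI d
    exact ⟨g, hg, (stalkIdeal_eq_ker I d).trans hker⟩
  · exact ⟨1, one_mem _, ((stalkIdeal_eq_top_iff I x).mpr hx).trans Ideal.span_singleton_one.symm⟩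

theorem le_of_stalkIdeal_le {I J : X.IdealSheafData} (V : X.affineOpens)
    (h : ∀ x ∈ V.1, stI I x ≤ stI J x) : I.ideal V ≤ J.ideal V := by
  refine Ideal.le_of_localization_maximal fun P hP => ?_
  let z : V.1 := ⟨V.2.fromSpec ⟨P, hP.isPrime⟩, V.2.range_fromSpec.le (Set.mem_range_self _)⟩
  have hzp : V.2.primeIdealOf z = ⟨P, hP.isPrime⟩ :=
    V.2.fromSpec.isOpenEmbedding.injective (V.2.fromSpec_primeIdealOf z)
  letI := TopCat.Presheaf.algebra_section_stalk X.presheaf z
  haveI : IsLocalization.AtPrime (X.presheaf.stalk z.1) P := by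
    have := V.2.isLocalization_stalk z
    simpa only [hzp] using this
  let e : X.presheaf.stalk z.1 ≃ₐ[Γ(X, V.1)] Localization.AtPrime P :=
    IsLocalization.algEquiv P.primeCompl _ _
  have h' := h z.1 z.2
  rw [stalkIdeal_eq I _ V z.2, stalkIdeal_eq J _ V z.2] at h'
  have h2 := Ideal.map_mono (f := e.toAlgHom.toRingHom) h'
  rw [Ideal.map_map, Ideal.map_map] at h2
  have he : e.toAlgHom.toRingHom.comp (X.presheaf.germ V.1 z.1 z.2).hom =
      algebraMap Γ(X, V.1) (Localization.AtPrime P) := RingHom.ext fun a => e.commutes a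
  rwa [he] at h2

/-- Where two finitely generated ideal sheaves have the same stalk they agree nearby. -/
theorem exists_nhd_stalkIdeal_le [IsLocallyNoetherian X] (I J : X.IdealSheafData) (x : X)
    (h : stI I x ≤ stI J x) : ∃ O : X.Opens, x ∈ O ∧ ∀ y ∈ O, stI I y ≤ stI J y := by
  classical
  obtain ⟨V, hV, hxV, -⟩ := exists_isAffineOpen_mem_and_subset (X := X) (x := x) (U := ⊤) trivial
  haveI : IsNoetherianRing Γ(X, V) := IsLocallyNoetherian.component_noetherian ⟨V, hV⟩
  rw [stalkIdeal_eq I _ ⟨V, hV⟩ hxV, stalkIdeal_eq J _ ⟨V, hV⟩ hxV] at h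
  letI := TopCat.Presheaf.algebra_section_stalk X.presheaf (⟨x, hxV⟩ : V)
  haveI := hV.isLocalization_stalk ⟨x, hxV⟩
  obtain ⟨s, hs⟩ := IsNoetherian.noetherian (I.ideal ⟨V, hV⟩)
  have h1 : ∀ c ∈ s, ∃ t ∉ (hV.primeIdealOf ⟨x, hxV⟩).asIdeal, t * c ∈ J.ideal ⟨V, hV⟩ := fun c hc =>
    (IsLocalization.algebraMap_mem_map_algebraMap_iff (hV.primeIdealOf ⟨x, hxV⟩).asIdeal.primeCompl
      (X.presheaf.stalk x) _ c).mp (h (Ideal.mem_map_of_mem _ (hs ▸ Ideal.subset_span hc)))
  choose! t ht htc using h1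
  refine ⟨X.basicOpen (∏ c ∈ s, t c), ?_, fun y hy => ?_⟩
  · rw [X.mem_basicOpen _ x hxV]
    refine IsLocalization.map_units (X.presheaf.stalk x)
      (⟨_, fun hP => ?_⟩ : (hV.primeIdealOf ⟨x, hxV⟩).asIdeal.primeCompl)
    obtain ⟨c, hc, hcP⟩ := Ideal.IsPrime.prod_mem_iff.mp hP
    exact ht c hc hcP
  · have hyV : y ∈ V := X.basicOpen_le _ hy
    rw [X.mem_basicOpen _ y hyV, map_prod] at hy
    rw [stalkIdeal_eq I _ ⟨V, hV⟩ hyV, stalkIdeal_eq J _ ⟨V, hV⟩ hyV, ← hs, Ideal.map_span,
      Ideal.span_le]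
    rintro _ ⟨c, hc, rfl⟩
    have h3 := Ideal.mem_map_of_mem (X.presheaf.germ V y hyV).hom (htc c hc)
    rw [map_mul] at h3
    exact (Ideal.unit_mul_mem_iff_mem _
      (isUnit_of_dvd_unit (Finset.dvd_prod_of_mem _ hc) hy)).mp h3

theorem fromSpecStalk_specializes_iff {x : X} (p q : PrimeSpectrum (X.presheaf.stalk x)) :
    X.fromSpecStalk x p ⤳ X.fromSpecStalk x q ↔ p ≤ q :=
  (X.fromSpecStalk x).isEmbedding.isInducing.specializes_iff.trans
    (PrimeSpectrum.le_iff_specializes p q).symm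

theorem exists_prime_of_specializes {x y : X} (h : y ⤳ x) :
    ∃ p : PrimeSpectrum (X.presheaf.stalk x), X.fromSpecStalk x p = y :=
  (show y ∈ Set.range (X.fromSpecStalk x) by rw [Scheme.range_fromSpecStalk]; exact h)

theorem ringKrullDim_le_of_specializes {x y : X} (h : y ⤳ x) :
    ringKrullDim (X.presheaf.stalk y) ≤ ringKrullDim (X.presheaf.stalk x) := by
  have hy : ∀ p, X.fromSpecStalk y p ⤳ y := fun p => by
    have h1 : X.fromSpecStalk y p ∈ Set.range (X.fromSpecStalk y) := Set.mem_range_self p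
    rwa [Scheme.range_fromSpecStalk] at h1
  choose g hg using fun p => exists_prime_of_specializes ((hy p).trans h)
  refine Order.krullDim_le_of_strictMono g fun p q hpq => ?_
  have h1 : g p ≤ g q := by
    rw [← fromSpecStalk_specializes_iff, hg, hg, fromSpecStalk_specializes_iff]
    exact hpq.le
  refine lt_of_le_of_ne h1 fun he => hpq.ne ?_
  exact (X.fromSpecStalk y).isEmbedding.injective ((hg p).symm.trans ((congrArg _ he).trans (hg q)))

theorem two_le_ringKrullDim_of_chain {x y z : X} (h1 : y ⤳ z) (h2 : z ⤳ x) (hne1 : y ≠ z)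
    (hne2 : z ≠ x) : (2 : WithBot ℕ∞) ≤ ringKrullDim (X.presheaf.stalk x) := by
  obtain ⟨p, rfl⟩ := exists_prime_of_specializes (h1.trans h2)
  obtain ⟨q, rfl⟩ := exists_prime_of_specializes h2
  have hpq : p < q := lt_of_le_of_ne ((fromSpecStalk_specializes_iff p q).mp h1) fun h => hne1 (h ▸ rfl)
  have hqm : q < closedPoint (X.presheaf.stalk x) := lt_of_le_of_ne (le_maximalIdeal q.2.ne_top)
    fun h => hne2 (h ▸ Scheme.fromSpecStalk_closedPoint)
  let s : LTSeries (PrimeSpectrum (X.presheaf.stalk x)) :=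
    ((RelSeries.singleton _ p).snoc q hpq).snoc (closedPoint _) (by rw [RelSeries.last_snoc]; exact hqm)
  exact (Order.LTSeries.length_le_krullDim s)

/-- The generic points of integral effective Cartier divisors. -/
theorem gen_spec {D : X.IdealSheafData} (hD : IsIntegral D.subscheme) :
    D.subschemeι (genericPoint D.subscheme) ∈ (D.support : Set X) ∧
      ∀ x ∈ (D.support : Set X), D.subschemeι (genericPoint D.subscheme) ⤳ x := by
  refine ⟨by rw [← Scheme.IdealSheafData.range_subschemeι]; exact Set.mem_range_self _, fun x hx => ?_⟩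
  rw [← Scheme.IdealSheafData.range_subschemeι] at hx
  obtain ⟨d, rfl⟩ := hx
  exact ((genericPoint_spec D.subscheme).specializes (Set.mem_univ d)).map D.subschemeι.continuous

/-- The stalk of the ideal at the generic point of an integral divisor is the maximal ideal. -/
theorem stalkIdeal_gen {D : X.IdealSheafData} (hD : IsIntegral D.subscheme) :
    stI D (D.subschemeι (genericPoint D.subscheme)) =
      maximalIdeal (X.presheaf.stalk (D.subschemeι (genericPoint D.subscheme))) := by
  rw [stalkIdeal_eq_ker]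
  haveI : (RingHom.ker (D.subschemeι.stalkMap (genericPoint D.subscheme)).hom).IsMaximal :=
    RingHom.ker_isMaximal_of_surjective (K := D.subscheme.functionField) _
      (D.subschemeι.stalkMap_surjective _)
  exact eq_maximalIdeal ‹_›

/-- A germ vanishing at the generic point of an integral closed subscheme lies in its ideal. -/
theorem mem_stalkIdeal_of_gen {D : X.IdealSheafData} (hD : IsIntegral D.subscheme) {x : X}
    (h : D.subschemeι (genericPoint D.subscheme) ⤳ x) (hx : x ∈ D.support) (c : X.presheaf.stalk x)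
    (hc : X.presheaf.stalkSpecializes h c ∈
      maximalIdeal (X.presheaf.stalk (D.subschemeι (genericPoint D.subscheme)))) :
    c ∈ stI D x := by
  obtain ⟨d, rfl⟩ : x ∈ Set.range D.subschemeι := by
    rw [Scheme.IdealSheafData.range_subschemeι]; exact hx
  rw [← stalkIdeal_gen hD, stalkIdeal_eq_ker, RingHom.mem_ker] at hc
  rw [stalkIdeal_eq_ker, RingHom.mem_ker]
  have hs : genericPoint D.subscheme ⤳ d := (genericPoint_spec D.subscheme).specializes (Set.mem_univ d)
  have h2 := Scheme.Hom.stalkSpecializes_stalkMap_apply D.subschemeι _ d hs c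
  rw [hc] at h2
  refine (map_eq_zero_iff _ ?_).mp h2.symm
  exact FaithfulSMul.algebraMap_injective (D.subscheme.presheaf.stalk d) D.subscheme.functionField

/-- Structure of the local ring at the generic point of an integral effective Cartier divisor. -/
theorem gen_structure [IsLocallyNoetherian X] {D : X.IdealSheafData} (hD : IsIntegral D.subscheme)
    (hDc : BlowUp.IsEffCartierIdeal D) :
    ∃ f : X.presheaf.stalk (D.subschemeι (genericPoint D.subscheme)),
      maximalIdeal (X.presheaf.stalk (D.subschemeι (genericPoint D.subscheme))) = Ideal.span {f} ∧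
      f ∈ nonZeroDivisors (X.presheaf.stalk (D.subschemeι (genericPoint D.subscheme))) ∧
      IsDomain (X.presheaf.stalk (D.subschemeι (genericPoint D.subscheme))) ∧
      ∃ η : X, η ⤳ D.subschemeι (genericPoint D.subscheme) ∧ η ≠ D.subschemeι (genericPoint D.subscheme) ∧
        (∀ y, y ⤳ D.subschemeι (genericPoint D.subscheme) →
          y = η ∨ y = D.subschemeι (genericPoint D.subscheme)) ∧
        ringKrullDim (X.presheaf.stalk (D.subschemeι (genericPoint D.subscheme))) ≤ 1 := by
  set ξ := D.subschemeι (genericPoint D.subscheme) with hξ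
  obtain ⟨f, hf, hfs⟩ := exists_stalk_gen hDc ξ
  have hm : maximalIdeal (X.presheaf.stalk ξ) = Ideal.span {f} := (stalkIdeal_gen hD).symm.trans hfs
  obtain ⟨hdom, htwo⟩ := isDomain_and_two_primes f hm hf
  refine ⟨f, hm, hf, hdom, X.fromSpecStalk ξ ⟨⊥, Ideal.isPrime_bot⟩, ?_, fun he => ?_, fun y hy => ?_, ?_⟩
  · have h1 : X.fromSpecStalk ξ ⟨⊥, Ideal.isPrime_bot⟩ ∈ Set.range (X.fromSpecStalk ξ) :=
      Set.mem_range_self _
    rwa [Scheme.range_fromSpecStalk] at h1
  · have h1 := (X.fromSpecStalk ξ).isEmbedding.injective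
      (he.trans (Scheme.fromSpecStalk_closedPoint (x := ξ)).symm)
    have h2 : (⊥ : Ideal (X.presheaf.stalk ξ)) = maximalIdeal _ := congrArg PrimeSpectrum.asIdeal h1
    have : f = 0 := Ideal.span_singleton_eq_bot.mp (hm.symm.trans h2.symm)
    exact zero_notMem_nonZeroDivisors (this ▸ hf)
  · obtain ⟨p, rfl⟩ := exists_prime_of_specializes hy
    rcases htwo p.asIdeal p.2 with h | h
    · exact Or.inl (congrArg _ (PrimeSpectrum.ext h))
    · exact Or.inr ((congrArg _ (show p = closedPoint (X.presheaf.stalk ξ) from PrimeSpectrum.ext h)).trans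
        Scheme.fromSpecStalk_closedPoint)
  · haveI := hdom
    haveI : Ring.DimensionLEOne (X.presheaf.stalk ξ) := ⟨fun {p} hp0 hp => (htwo p hp).resolve_left hp0 ▸
      maximalIdeal.isMaximal _⟩
    exact Ring.krullDimLE_iff.mp inferInstance

end Groth.Agent.H29Ref
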