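import Groth.Agent.H29Ref.DivClass
import Groth.Agent.H29Omega.ConormalStalk
import Groth.Agent.H17.OmegaLocal

/-!
# The ideal sheaf of an effective divisor; every divisor comes from a rank one reflexive module
-/

set_option autoImplicit false
set_option maxHeartbeats 400000

universe u

open CategoryTheory CategoryTheory.Limits AlgebraicGeometry Opposite TopologicalSpace

namespace Groth.Agent.H29Ref

open H8Props.FunDescent (StalkFree)

variable {X : Scheme.{u}} (E : X → ℕ)
  (hfin : ∀ W : X.Opens, IsAffineOpen W → {z | z ∈ W ∧ E z ≠ 0}.Finite)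

/-- Functions vanishing to order at least `E z` at every point `z`. -/
noncomputable def condIdeal (U : X.Opens) : Ideal Γ(X, U) :=
  ⨅ z : U, ((IsLocalRing.maximalIdeal (X.presheaf.stalk z.1)) ^ E z.1).comap
    (X.presheaf.germ U z.1 z.2).hom

theorem mem_condIdeal {U : X.Opens} (a : Γ(X, U)) : a ∈ condIdeal E U ↔
    ∀ (z : X) (hz : z ∈ U), X.presheaf.germ U z hz a ∈
      (IsLocalRing.maximalIdeal (X.presheaf.stalk z)) ^ E z := by
  simp [condIdeal]

theorem germ_mem_of_notMem {U : X.Opens} (f : Γ(X, U)) {z : X} (hz : z ∈ U)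
    (h : z ∉ X.basicOpen f) : X.presheaf.germ U z hz f ∈ IsLocalRing.maximalIdeal (X.presheaf.stalk z) :=
  (IsLocalRing.mem_maximalIdeal _).mpr fun hu => h ((X.mem_basicOpen f z hz).mpr hu)

theorem isUnit_germ_of_mem {U : X.Opens} (f : Γ(X, U)) {z : X} (hz : z ∈ U) (h : z ∈ X.basicOpen f) :
    IsUnit (X.presheaf.germ U z hz f) := (X.mem_basicOpen f z hz).mp h

/-- The ideal sheaf of an effective divisor. -/
noncomputable def divIdeal : X.IdealSheafData where
  ideal U := condIdeal E U.1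
  map_ideal_basicOpen U f := by
    refine le_antisymm ?_ fun a' ha' => ?_
    · rw [Ideal.map_le_iff_le_comap]
      intro a ha
      refine Ideal.mem_comap.mpr ((mem_condIdeal E (U := X.basicOpen f) _).mpr ?_)
      intro z hz
      have h := X.presheaf.germ_res_apply (homOfLE (X.basicOpen_le f)) z hz a
      exact h.symm ▸ (mem_condIdeal E a).mp ha z (X.basicOpen_le f hz)
    · haveI := U.2.isLocalization_basicOpen f
      obtain ⟨⟨a, ⟨_, n, rfl⟩⟩, ha⟩ := IsLocalization.surj (Submonoid.powers f) a'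
      let M := (hfin U.1 U.2).toFinset.sup E
      have hmem : f ^ M * a ∈ condIdeal E U.1 := by
        rw [mem_condIdeal]
        intro z hz
        rw [map_mul, map_pow]
        by_cases hzf : z ∈ X.basicOpen f
        · refine Ideal.mul_mem_left _ _ ?_
          have h1 := congrArg (X.presheaf.germ (X.basicOpen f) z hzf) ha
          have h2 : X.presheaf.germ (X.basicOpen f) z hzf a' * X.presheaf.germ U.1 z hz (f ^ n) =
              X.presheaf.germ U.1 z hz a := by
            rw [← X.presheaf.germ_res_apply (homOfLE (X.basicOpen_le f)) z hzf (f ^ n),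
              ← X.presheaf.germ_res_apply (homOfLE (X.basicOpen_le f)) z hzf a, ← map_mul]
            exact h1
          rw [← h2]
          exact Ideal.mul_mem_right _ _ ((mem_condIdeal E a').mp ha' z hzf)
        · rcases Nat.eq_zero_or_pos (E z) with h0 | h0
          · rw [h0, pow_zero, Ideal.one_eq_top]; trivial
          · refine Ideal.mul_mem_right _ _ (Ideal.pow_le_pow_right ?_
              (Ideal.pow_mem_pow (germ_mem_of_notMem f hz hzf) M))
            exact Finset.le_sup ((hfin U.1 U.2).mem_toFinset.mpr ⟨hz, h0.ne'⟩)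
      refine (IsLocalization.mem_map_algebraMap_iff (Submonoid.powers f) _).mpr
        ⟨⟨⟨f ^ M * a, hmem⟩, ⟨f ^ (M + n), ⟨M + n, rfl⟩⟩⟩, ?_⟩
      show a' * algebraMap Γ(X, U.1) _ (f ^ (M + n)) = algebraMap Γ(X, U.1) _ (f ^ M * a)
      rw [pow_add, map_mul, map_mul, ← ha]
      ring

/-- At a point where no other bad point specialises the stalk of the ideal is a power of the maximal ideal. -/
theorem map_germ_condIdeal {V : X.Opens} (hV : IsAffineOpen V) (hfinV : {z | z ∈ V ∧ E z ≠ 0}.Finite)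
    {z : X} (hz : z ∈ V) (hgood : ∀ z', z' ∈ V → E z' ≠ 0 → z' ⤳ z → z' = z) :
    (condIdeal E V).map (X.presheaf.germ V z hz).hom =
      (IsLocalRing.maximalIdeal (X.presheaf.stalk z)) ^ E z := by
  classical
  refine le_antisymm ?_ fun c hc => ?_
  · rw [Ideal.map_le_iff_le_comap]
    exact fun a ha => (mem_condIdeal E a).mp ha z hz
  letI := TopCat.Presheaf.algebra_section_stalk X.presheaf (⟨z, hz⟩ : V)
  haveI := hV.isLocalization_stalk ⟨z, hz⟩
  obtain ⟨⟨c₀, d⟩, hcd⟩ := IsLocalization.surj (hV.primeIdealOf ⟨z, hz⟩).asIdeal.primeCompl c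
  have hcd' : c * X.presheaf.germ V z hz d.1 = X.presheaf.germ V z hz c₀ := hcd
  have hs : ∀ z' : X, z' ∈ V → E z' ≠ 0 → z' ≠ z → ∃ s : Γ(X, V), z ∈ X.basicOpen s ∧ z' ∉ X.basicOpen s := by
    intro z' hz' hE hne
    let O : X.Opens := ⟨(closure {z'})ᶜ, isClosed_closure.isOpen_compl⟩
    obtain ⟨s, hs1, hs2⟩ := hV.exists_basicOpen_le (V := V ⊓ O)
      ⟨z, hz, fun h => hne (hgood z' hz' hE (specializes_iff_mem_closure.mpr h))⟩ hz
    exact ⟨s, hs2, fun h => (hs1 h).2 (subset_closure rfl)⟩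
  choose! s hs₁ hs₂ using hs
  let bad : Finset X := hfinV.toFinset.erase z
  have hbad : ∀ z' ∈ bad, z' ∈ V ∧ E z' ≠ 0 ∧ z' ≠ z := fun z' h => by
    obtain ⟨h1, h2⟩ := Finset.mem_erase.mp h
    exact ⟨(hfinV.mem_toFinset.mp h2).1, (hfinV.mem_toFinset.mp h2).2, h1⟩
  let S : Γ(X, V) := ∏ z' ∈ bad, s z' ^ E z'
  have hSu : IsUnit (X.presheaf.germ V z hz S) := by
    rw [map_prod, IsUnit.prod_iff]
    intro z' h'
    obtain ⟨h1, h2, h3⟩ := hbad z' h'
    rw [map_pow]
    exact (isUnit_germ_of_mem _ hz (hs₁ z' h1 h2 h3)).pow _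
  have hmem : S * c₀ ∈ condIdeal E V := by
    rw [mem_condIdeal]
    intro y hy
    rw [map_mul]
    by_cases hyz : y = z
    · subst hyz
      exact Ideal.mul_mem_left _ _ (hcd' ▸ Ideal.mul_mem_right _ _ hc)
    by_cases h0 : E y = 0
    · rw [h0, pow_zero, Ideal.one_eq_top]; trivial
    refine Ideal.mul_mem_right _ _ ?_
    have hb : y ∈ bad := Finset.mem_erase.mpr ⟨hyz, hfinV.mem_toFinset.mpr ⟨hy, h0⟩⟩
    rw [map_prod, ← Finset.mul_prod_erase bad _ hb, map_pow]
    exact Ideal.mul_mem_right _ _ (Ideal.pow_mem_pow (germ_mem_of_notMem _ hy (hs₂ y hy h0 hyz)) _)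
  have hdu : IsUnit (X.presheaf.germ V z hz d.1) :=
    IsLocalization.map_units (X.presheaf.stalk z) d
  have h := Ideal.mem_map_of_mem (X.presheaf.germ V z hz).hom hmem
  rw [map_mul, ← hcd'] at h
  exact (Ideal.mul_unit_mem_iff_mem _ hdu).mp ((Ideal.unit_mul_mem_iff_mem _ hSu).mp h)

variable [IsIntegral X]

omit [IsIntegral X] in
theorem range_divIdeal (z : X) (hgood : ∀ z', E z' ≠ 0 → z' ⤳ z → z' = z) :
    LinearMap.range (H29Omega.idealStalk (divIdeal E hfin) z) =
      (IsLocalRing.maximalIdeal (X.presheaf.stalk z)) ^ E z := by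
  obtain ⟨V, hV, hzV, -⟩ := exists_isAffineOpen_mem_and_subset (X := X) (x := z) (U := ⊤) trivial
  rw [H29Omega.range_idealStalk _ z ⟨V, hV⟩ hzV]
  exact map_germ_condIdeal E hV (hfin V hV) hzV fun z' _ => hgood z'

theorem sp_idealStalk (I : X.IdealSheafData) (x : X) (t : (ClSub.idealMod I).presheaf.stalk x) :
    H29Omega.idealStalk I (genericPoint X) (sp (ClSub.idealMod I) x t) =
      spO x (H29Omega.idealStalk I x t) := by
  obtain ⟨U, hU, m, rfl⟩ := TopCat.Presheaf.exists_germ_eq (ClSub.idealMod I).presheaf t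
  rw [sp_germ, H29Omega.idealStalk_germ, H29Omega.idealStalk_germ, spO_germ]

variable [IsLocallyNoetherian X] (hE : ∀ z, E z ≠ 0 → Order.coheight z = 1)

include hE in
/-- The divisor of the ideal sheaf. -/
theorem exists_secO_divIdeal (hX : Pi1.IsNormalScheme X) :
    StalkFree (ClSub.idealMod (divIdeal E hfin)) 1 (genericPoint X) ∧
    ∃ v : (ClSub.idealMod (divIdeal E hfin)).presheaf.stalk (genericPoint X), v ≠ 0 ∧
      ∀ x, Order.coheight x = 1 → (∃ t, IsStalkGen (ClSub.idealMod (divIdeal E hfin)) x t) ∧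
        secO (ClSub.idealMod (divIdeal E hfin)) x v = -(E x : ℤ) := by
  let ι := H29Omega.idealStalk (divIdeal E hfin) (genericPoint X)
  have hEη : E (genericPoint X) = 0 := by
    by_contra h
    exact S2877.coheight_genericPoint_ne_one (hE _ h)
  have hιs : Function.Surjective ι := by
    rw [← LinearMap.range_eq_top, range_divIdeal E hfin _ fun z' h1 h2 =>
      (h2.antisymm (spec_generic z')).eq, hEη, pow_zero, Ideal.one_eq_top]
  let e := LinearEquiv.ofBijective ι ⟨H29Omega.idealStalk_injective _ _, hιs⟩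
  have hη : StalkFree (ClSub.idealMod (divIdeal E hfin)) 1 (genericPoint X) :=
    ⟨(Module.Basis.singleton (Fin 1) _).map e.symm⟩
  have hv : e.symm 1 ≠ 0 := fun h => one_ne_zero (e.symm.injective (h.trans (map_zero _).symm))
  refine ⟨hη, e.symm 1, hv, fun x hx => ?_⟩
  haveI := isDiscreteValuationRing_stalk hX x (by rw [ringKrullDim_stalk_eq_coheight, hx]; rfl)
  haveI : Ring.KrullDimLE 1 (X.presheaf.stalk x) := krullDimLE_of_coheight_le hx.le
  obtain ⟨ϖ, hϖ⟩ := IsDiscreteValuationRing.exists_irreducible (X.presheaf.stalk x)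
  have hgood : ∀ z', E z' ≠ 0 → z' ⤳ x → z' = x := by
    intro z' h1 h2
    by_contra hne
    have hlt : x < z' := lt_of_le_not_ge h2 fun h => hne (h2.antisymm h).eq
    have h3 := Order.coheight_add_one_le hlt
    rw [hE z' h1, hx] at h3
    norm_num at h3
  have hr := range_divIdeal E hfin x hgood
  rw [hϖ.maximalIdeal_eq, Ideal.span_singleton_pow] at hr
  obtain ⟨t, ht⟩ : ϖ ^ E x ∈ LinearMap.range (H29Omega.idealStalk (divIdeal E hfin) x) :=
    hr ▸ Ideal.mem_span_singleton_self _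
  have hspan : Submodule.span (X.presheaf.stalk x) {t} = ⊤ := by
    refine eq_top_iff.mpr fun w _ => ?_
    obtain ⟨c, hc⟩ := Ideal.mem_span_singleton'.mp
      (hr ▸ LinearMap.mem_range_self _ w : H29Omega.idealStalk (divIdeal E hfin) x w ∈
        Ideal.span {ϖ ^ E x})
    rw [Submodule.mem_span_singleton]
    exact ⟨c, H29Omega.idealStalk_injective _ _ (by rw [map_smul, ht, smul_eq_mul, hc])⟩
  have hϖ0 : spO x (ϖ ^ E x) ≠ 0 :=
    (map_ne_zero_iff _ (spO_injective x)).mpr (pow_ne_zero _ hϖ.ne_zero)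
  have hsp : ι (sp _ x t) = spO x (ϖ ^ E x) := by rw [sp_idealStalk, ht]
  have hgen := IsStalkGen.mk' hη hspan fun h => hϖ0 (by rw [← hsp, h, map_zero])
  refine ⟨⟨t, hgen⟩, ?_⟩
  let K : Type u := X.functionField
  obtain ⟨φ, hφ⟩ := hgen.exists_smul (e.symm 1)
  rw [secO_eq hx hgen hv (φ := φ) hφ]
  have h1 : (φ : K) * (spO x ϖ : K) ^ E x = 1 := by
    have h2 := congrArg ι hφ
    rw [map_smul, hsp, map_pow] at h2
    exact h2.symm.trans (e.apply_symm_apply 1)
  have hϖK : (spO x ϖ : K) ≠ 0 := (map_ne_zero_iff _ (spO_injective x)).mpr hϖ.ne_zero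
  have hone : Scheme.ord (1 : X.functionField) x = 0 := by
    have h6 := ord_unit (X := X) (x := x) isUnit_one
    rw [map_one] at h6
    exact h6
  have hord : Scheme.ord (spO x ϖ : X.functionField) x = 1 := by
    rw [Scheme.ord_eq_iff hx hϖK]
    exact Ring.ordFrac_irreducible hϖ
  have hpow : ∀ n : ℕ, Scheme.ord ((spO x ϖ : X.functionField) ^ n) x = n := by
    intro n
    induction n with
    | zero => rw [pow_zero, hone]; rfl
    | succ n ih => rw [pow_succ, Scheme.ord_mul (pow_ne_zero _ hϖK) hϖK, ih, hord]; norm_num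
  have h3 := congrArg (fun q : X.functionField => Scheme.ord q x) h1
  have hφ0 : (φ : K) ≠ 0 := fun h => one_ne_zero (h1.symm.trans (by rw [h, zero_mul]))
  have h4 : Scheme.ord ((φ : X.functionField) * (spO x ϖ : X.functionField) ^ E x) x =
      Scheme.ord (φ : X.functionField) x + (E x : ℤ) := by
    rw [Scheme.ord_mul hφ0 (pow_ne_zero _ hϖK), hpow]
  have h5 := h4.symm.trans (h3.trans hone)
  omega

include hE hfin in
/-- Effective divisors come from rank one reflexive modules. -/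
theorem exists_isRef1_hasOrd_neg (hX : Pi1.IsNormalScheme X) :
    ∃ F : X.Modules, RefHull.IsRef1 F ∧ HasOrd F (fun x => -(E x : ℤ)) := by
  let M := ClSub.idealMod (divIdeal E hfin)
  haveI : Mono (ClSub.idealModι (divIdeal E hfin)) :=
    inferInstanceAs (Mono (kernel.ι (ClSub.toSubscheme (divIdeal E hfin))))
  have hM : Coh.IsCoh M := H10Coh.isCoh_of_mono (ClSub.idealModι (divIdeal E hfin))
    (H17.OmegaLocal.isQuasicoherent_idealMod _) (H10Coh.isCoh_structureModule' X)
  obtain ⟨hη, v, hv, h⟩ := exists_secO_divIdeal E hfin hE hX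
  have hb := bijective_bidual_generic M hM
  refine ⟨RefHull.ddual M, isRef1_ddual M hM hη, RefHull.stalkMapₗ (RefHull.bidualMap M) _ v,
    (map_ne_zero_iff _ hb.1).mpr hv, fun x hx => ?_⟩
  obtain ⟨⟨t, ht⟩, hord⟩ := h x hx
  rw [secO_map _ hx ht (surjective_bidual_stalk hX M hM x
    (by rw [ringKrullDim_stalk_eq_coheight, hx]; rfl)) hb hv, hord]

omit hfin in
/-- Every Weil divisor comes from a rank one reflexive module. -/
theorem exists_isRef1_hasOrd (hX : Pi1.IsNormalScheme X) (D : X → ℤ)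
    (hD : ∀ x, D x ≠ 0 → Order.coheight x = 1)
    (hDfin : ∀ W : X.Opens, IsAffineOpen W → {z | z ∈ W ∧ D z ≠ 0}.Finite) :
    ∃ F : X.Modules, RefHull.IsRef1 F ∧ HasOrd F D := by
  have hne : ∀ (g : ℤ → ℕ) (_ : g 0 = 0) z, g (D z) ≠ 0 → D z ≠ 0 := fun g hg z h e => h (by rw [e, hg])
  obtain ⟨P, hP, hPo⟩ := exists_isRef1_hasOrd_neg (fun z => (D z).toNat)
    (fun W hW => (hDfin W hW).subset fun z hz => ⟨hz.1, hne Int.toNat rfl z hz.2⟩)
    (fun z hz => hD z (hne Int.toNat rfl z hz)) hX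
  obtain ⟨N, hN, hNo⟩ := exists_isRef1_hasOrd_neg (fun z => (-D z).toNat)
    (fun W hW => (hDfin W hW).subset fun z hz => ⟨hz.1, hne (fun n => (-n).toNat) rfl z hz.2⟩)
    (fun z hz => hD z (hne (fun n => (-n).toNat) rfl z hz)) hX
  refine ⟨_, isRef1_refTensor (isRef1_dual hP) hN, ?_⟩
  have h := (hPo.dual hX hP).refTensor hX (isRef1_dual hP) hN hNo
  have he : (-fun x => -((D x).toNat : ℤ)) + (fun x => -((-D x).toNat : ℤ)) = D := funext fun x => by
    simp only [Pi.add_apply, Pi.neg_apply]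
    omega
  exact he ▸ h

end Groth.Agent.H29Ref
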