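import Groth.Agent.H29Ref.RefColim
import Mathlib.AlgebraicGeometry.Morphisms.Affine

/-!
# When the inclusion of the locus where a section generates is affine
-/

set_option autoImplicit false
set_option maxHeartbeats 400000

universe u

open CategoryTheory CategoryTheory.Limits AlgebraicGeometry Opposite TopologicalSpace

namespace Groth.Agent.H29Ref

variable {X : Scheme.{u}} (U : X.Opens)

/-- The trace of an open on `U`. -/
abbrev tr (V : X.Opens) : X.Opens := U.ι ''ᵁ (U.ι ⁻¹ᵁ V)

theorem mem_tr_iff {V : X.Opens} {x : X} : x ∈ tr U V ↔ x ∈ U ∧ x ∈ V := by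
  constructor
  · rintro ⟨y, hy, rfl⟩
    exact ⟨y.2, hy⟩
  · rintro ⟨hxU, hxV⟩
    exact mem_image_preimage U hxV hxU

/-- Restriction of functions to the trace. -/
noncomputable abbrev resTr (V : X.Opens) : Γ(X, V) →+* Γ(X, tr U V) :=
  (X.presheaf.map (homOfLE (image_preimage_le' U V)).op).hom

/-- A function on the trace as a section of the direct image. -/
abbrev trSec (V : X.Opens) (a : Γ(X, tr U V)) : Γ(pushO U, V) := a

/-- Germ in the direct image of a function on the trace. -/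
noncomputable def trGerm (V : X.Opens) (x : X) (hx : x ∈ V) :
    Γ(X, tr U V) →+ (pushO U).presheaf.stalk x where
  toFun a := (pushO U).presheaf.germ V x hx (trSec U V a)
  map_zero' := map_zero ((pushO U).presheaf.germ V x hx).hom
  map_add' a b := map_add ((pushO U).presheaf.germ V x hx).hom (trSec U V a) (trSec U V b)

theorem trSec_smul (V : X.Opens) (r : Γ(X, V)) (a : Γ(X, tr U V)) :
    r • trSec U V a = trSec U V (resTr U V r * a) := by
  show ((U.ι.appIso (U.ι ⁻¹ᵁ V)).inv (U.ι.app V r)) * a = _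
  refine congrArg (· * a) ?_
  exact congr($(Scheme.Hom.app_appIso_inv U.ι V) r)

theorem trGerm_smul {V : X.Opens} {x : X} (hx : x ∈ V) (r : Γ(X, V)) (a : Γ(X, tr U V)) :
    X.presheaf.germ V x hx r • trGerm U V x hx a = trGerm U V x hx (resTr U V r * a) := by
  show _ • (pushO U).presheaf.germ V x hx (trSec U V a) = (pushO U).presheaf.germ V x hx _
  rw [← Mero.germ_smul, trSec_smul]

theorem stalkMapₗ_unitO_one {V : X.Opens} {x : X} (hx : x ∈ V) :
    RefHull.stalkMapₗ (unitO U) x (oneStalk x) = trGerm U V x hx 1 := by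
  rw [← germ_one x hx, RefHull.stalkMapₗ_germ]
  exact congrArg _ (map_one (resTr U V))

theorem tr_basicOpen (V : X.Opens) (g : Γ(X, V)) :
    tr U (X.basicOpen g) = X.basicOpen (resTr U V g) := by
  ext y
  rw [SetLike.mem_coe, SetLike.mem_coe, mem_tr_iff U, Scheme.basicOpen_res, Opens.mem_inf, mem_tr_iff U]
  exact ⟨fun ⟨h1, h2⟩ => ⟨⟨h1, X.basicOpen_le g h2⟩, h2⟩, fun ⟨⟨h1, _⟩, h2⟩ => ⟨h1, h2⟩⟩

variable [IsLocallyNoetherian X]

/-- Sections of the direct image near a point come from the trace of an affine open up to denominators. -/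
theorem exists_smul_eq_trGerm {V : X.Opens} (hV : IsAffineOpen V) {x : X} (hx : x ∈ V)
    (v : (pushO U).presheaf.stalk x) : ∃ (g : Γ(X, V)) (a : Γ(X, tr U V)),
      x ∈ X.basicOpen g ∧ X.presheaf.germ V x hx g • v = trGerm U V x hx a := by
  obtain ⟨W, hW, t, rfl⟩ := TopCat.Presheaf.exists_germ_eq (pushO U).presheaf v
  obtain ⟨g, hgW, hxg⟩ := hV.exists_basicOpen_le (V := W ⊓ V) ⟨x, hW, hx⟩ hx
  have hgW' : X.basicOpen g ≤ W := fun y hy => (hgW hy).1
  haveI : IsNoetherianRing Γ(X, V) := IsLocallyNoetherian.component_noetherian ⟨V, hV⟩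
  haveI : NoetherianSpace (V : Set X) := noetherianSpace_of_isAffineOpen V hV
  have hc : IsCompact (tr U V : Set X) := by
    have h := (NoetherianSpace.isCompact (Subtype.val ⁻¹' (tr U V : Set X) : Set (V : Set X))).image
      continuous_subtype_val
    rwa [Subtype.image_preimage_coe, Set.inter_eq_right.mpr fun y hy => ((mem_tr_iff U).mp hy).2] at h
  have hloc := isLocalization_basicOpen_of_qcqs hc (IsQuasiSeparated.of_quasiSeparatedSpace _)
    (resTr U V g)
  let t' : Γ(X, X.basicOpen (resTr U V g)) :=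
    X.presheaf.map (homOfLE ((tr_basicOpen U V g).ge.trans
      (U.ι.image_mono (fun y hy => hgW' hy : U.ι ⁻¹ᵁ X.basicOpen g ≤ U.ι ⁻¹ᵁ W)))).op t
  obtain ⟨⟨a, ⟨_, k, rfl⟩⟩, ha⟩ := IsLocalization.surj (Submonoid.powers (resTr U V g)) t'
  refine ⟨g ^ k, a, ?_, ?_⟩
  · rw [X.mem_basicOpen _ x hx, map_pow]
    exact ((X.mem_basicOpen _ x hx).mp hxg).pow k
  · have h1 : (pushO U).presheaf.germ W x hW t = trGerm U (X.basicOpen g) x hxg
        (X.presheaf.map (homOfLE (U.ι.image_mono (fun y hy => hgW' hy :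
          U.ι ⁻¹ᵁ X.basicOpen g ≤ U.ι ⁻¹ᵁ W))).op t) :=
      (germ_res (pushO U) hgW' x hxg t).symm
    have h2 : trGerm U V x hx a = trGerm U (X.basicOpen g) x hxg
        (X.presheaf.map (homOfLE (U.ι.image_mono (fun y hy => X.basicOpen_le g hy :
          U.ι ⁻¹ᵁ X.basicOpen g ≤ U.ι ⁻¹ᵁ V))).op a) :=
      (germ_res (pushO U) (X.basicOpen_le g) x hxg (trSec U V a)).symm
    have h3 : X.presheaf.germ V x hx (g ^ k) =
        X.presheaf.germ (X.basicOpen g) x hxg (X.presheaf.map (homOfLE (X.basicOpen_le g)).op (g ^ k)) :=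
      (X.presheaf.germ_res_apply (homOfLE (X.basicOpen_le g)) x hxg (g ^ k)).symm
    rw [h1, h2, h3, trGerm_smul]
    refine congrArg _ ?_
    have key : ∀ (O : X.Opens) (hO : O = X.basicOpen (resTr U V g))
        (h₁ : O ≤ tr U W) (h₂ : O ≤ tr U V) (h₃ : O ≤ X.basicOpen g),
        X.presheaf.map (homOfLE h₃).op (X.presheaf.map (homOfLE (X.basicOpen_le g)).op (g ^ k)) *
          X.presheaf.map (homOfLE h₁).op t = X.presheaf.map (homOfLE h₂).op a := by
      rintro O rfl h₁ h₂ h₃
      rw [mul_comm]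
      refine Eq.trans ?_ ha
      refine congrArg (X.presheaf.map (homOfLE h₁).op t * ·) ?_
      show _ = algebraMap Γ(X, tr U V) _ (resTr U V g ^ k)
      rw [← map_pow, ← ConcreteCategory.comp_apply, ← Functor.map_comp]
      show _ = X.presheaf.map _ (X.presheaf.map _ (g ^ k))
      rw [← ConcreteCategory.comp_apply, ← Functor.map_comp]
      rfl
    exact key _ (tr_basicOpen U V g) _ _ (image_preimage_le' U _)

variable [IsIntegral X]

omit [IsLocallyNoetherian X] in
/-- Functions on the trace are determined by their germs in the direct image. -/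
theorem trGerm_injective (hη : genericPoint X ∈ U) {V : X.Opens} {x : X} (hx : x ∈ V) :
    Function.Injective (trGerm U V x hx) := by
  rw [injective_iff_map_eq_zero]
  intro a ha
  have h : (pushO U).presheaf.germ V (genericPoint X) (genericPoint_mem hx) (trSec U V a) = 0 := by
    rw [← sp_germ (pushO U) x hx]
    exact (congrArg (sp (pushO U) x) ha).trans (map_zero _)
  obtain ⟨W', hW', i, j, h1⟩ := TopCat.Presheaf.germ_eq (pushO U).presheaf (genericPoint X)
    (genericPoint_mem hx) (genericPoint_mem hx) (trSec U V a) 0 (h.trans (map_zero _).symm)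
  have h2 : X.presheaf.map (homOfLE (U.ι.image_mono (fun z hz => i.le hz :
      U.ι ⁻¹ᵁ W' ≤ U.ι ⁻¹ᵁ V))).op a = 0 := h1.trans (map_zero _)
  exact (map_eq_zero_iff _ (map_injective_of_isIntegral (U := tr U W')
    (H := ⟨⟨_, mem_image_preimage U hW' hη⟩⟩) X _)).mp h2

variable {F : X.Modules} (s : Coh.structureModule X ⟶ F) (hF : RefHull.IsRef1 F)
  (hU : (U : Set X) = RefPow.isoLocus s)

omit [IsLocallyNoetherian X] in
include hU in
/-- If `U` is empty, `s` vanishes. -/
theorem sec1_eq_zero [IsLocallyNoetherian X] (hF : RefHull.IsRef1 F) (hη : genericPoint X ∉ U) (x : X) :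
    sec1 s x = 0 := by
  have hs : sec1 s (genericPoint X) = 0 := by
    by_contra h
    refine hη (hU.ge (show genericPoint X ∈ RefPow.isoLocus s from ?_))
    refine (Function.Bijective.of_comp_iff _ (bijective_smul_oneStalk _)).mp ?_
    refine (congrArg Function.Bijective (funext fun r => ?_)).mp
      (bijective_toSpan (stalkFree_generic F hF.1 hF.2.2) h)
    exact (map_smul (RefHull.stalkMapₗ s (genericPoint X)) r (oneStalk _)).symm
  exact sp_injective F hF.1.1 (isTorsionFree_of_isReflexive F hF.1 hF.2.1) x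
    ((sp_sec1 s x).trans (hs.trans (map_zero _).symm))

include hF hU in
/-- The inclusion is affine if every missing point kills a power of `s`. -/
theorem isAffineOpen_tr (h : ∀ z, z ∉ U → ∃ n : ℕ, sigma s n z ∈
      IsLocalRing.maximalIdeal (X.presheaf.stalk z) •
        (⊤ : Submodule (X.presheaf.stalk z) ((RefPow.refPow F n).presheaf.stalk z)))
    {V : X.Opens} (hV : IsAffineOpen V) : IsAffineOpen (tr U V) := by
  by_cases hη : genericPoint X ∈ U
  swap
  · have he : tr U V = ⊥ := Opens.ext (Set.eq_empty_of_forall_notMem fun y hy =>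
      hη (genericPoint_mem ((mem_tr_iff U).mp hy).1))
    rw [he]
    exact isAffineOpen_bot X
  refine isAffineOpen_of_isAffineOpen_basicOpen _ (resTr U V '' {f | X.basicOpen f ≤ U}) ?_ ?_
  swap
  · rintro _ ⟨f, hf, rfl⟩
    rw [Scheme.basicOpen_res, inf_eq_right.mpr fun y hy => (mem_tr_iff U).mpr ⟨hf hy, X.basicOpen_le f hy⟩]
    exact hV.basicOpen f
  by_contra hne
  obtain ⟨q, hq, hle⟩ := Ideal.exists_le_maximal _ hne
  haveI := hq.isPrime
  let p : Ideal Γ(X, V) := q.comap (resTr U V)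
  let z : X := hV.fromSpec ⟨p, inferInstance⟩
  have hzV : z ∈ V := hV.range_fromSpec.le (Set.mem_range_self _)
  have hp : ∀ f : Γ(X, V), z ∈ X.basicOpen f ↔ f ∉ p := fun f => by
    show hV.fromSpec _ ∈ X.basicOpen f ↔ _
    rw [← Scheme.Hom.mem_preimage, hV.fromSpec_preimage_basicOpen]
    exact Iff.rfl
  have hzU : z ∉ U := fun hzU => by
    obtain ⟨f, hf, hzf⟩ := hV.exists_basicOpen_le (V := U) ⟨z, hzU⟩ hzV
    exact (hp f).mp hzf (hle (Ideal.subset_span ⟨f, hf, rfl⟩))
  obtain ⟨n, hn⟩ := h z hzU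
  suffices H : ∀ w ∈ (IsLocalRing.maximalIdeal (X.presheaf.stalk z) •
        (⊤ : Submodule (X.presheaf.stalk z) ((RefPow.refPow F n).presheaf.stalk z))),
      ∃ g : Γ(X, V), g ∉ p ∧ ∃ b ∈ q, X.presheaf.germ V z hzV g •
        RefHull.stalkMapₗ (leg U s hF hU n) z w = trGerm U V z hzV b by
    obtain ⟨g, hg, b, hb, he⟩ := H _ hn
    rw [leg_sigma, stalkMapₗ_unitO_one U hzV, trGerm_smul, mul_one] at he
    exact hg (show resTr U V g ∈ q from (trGerm_injective U hη hzV he) ▸ hb)
  intro w hw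
  refine Submodule.smul_induction_on hw (fun a ha v _ => ?_) fun v v' hv hv' => ?_
  · letI := TopCat.Presheaf.algebra_section_stalk X.presheaf (⟨z, hzV⟩ : V)
    haveI := hV.isLocalization_stalk ⟨z, hzV⟩
    obtain ⟨⟨r, d⟩, hrd⟩ := IsLocalization.surj (hV.primeIdealOf ⟨z, hzV⟩).asIdeal.primeCompl a
    have hd : d.1 ∉ p := (hp _).mp ((X.mem_basicOpen _ z hzV).mpr
      (IsLocalization.map_units (X.presheaf.stalk z) d))
    have hr : r ∈ p := not_not.mp fun hr => (IsLocalRing.mem_maximalIdeal _).mp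
      (hrd ▸ Ideal.mul_mem_right _ _ ha) ((X.mem_basicOpen _ z hzV).mp ((hp r).mpr hr))
    obtain ⟨g, b, hg, hgb⟩ := exists_smul_eq_trGerm U hV hzV (RefHull.stalkMapₗ (leg U s hF hU n) z v)
    refine ⟨d.1 * g, fun hh => ((‹q.IsPrime›).comap _).mem_or_mem hh |>.elim hd ((hp g).mp hg),
      resTr U V r * b, Ideal.mul_mem_right _ _ hr, ?_⟩
    rw [map_smul, ← trGerm_smul, ← hgb, smul_smul, smul_smul]
    refine congrArg (· • _) ?_
    rw [map_mul]
    have hrd' : a * X.presheaf.germ V z hzV d.1 = X.presheaf.germ V z hzV r := hrd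
    rw [← hrd']
    ring
  · obtain ⟨g, hg, b, hb, he⟩ := hv
    obtain ⟨g', hg', b', hb', he'⟩ := hv'
    refine ⟨g * g', fun hh => ((‹q.IsPrime›).comap _).mem_or_mem hh |>.elim hg hg',
      resTr U V g' * b + resTr U V g * b', add_mem (Ideal.mul_mem_left _ _ hb) (Ideal.mul_mem_left _ _ hb'), ?_⟩
    rw [map_add, map_add, ← trGerm_smul, ← trGerm_smul, ← he, ← he', smul_smul, smul_smul, smul_add,
      map_mul, mul_comm (X.presheaf.germ V z hzV g')]

theorem exists_leg_lift (n k : ℕ) (x : X) (b : (RefPow.refPow F n).presheaf.stalk x)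
    (hb : b ∈ IsLocalRing.maximalIdeal (X.presheaf.stalk x) •
        (⊤ : Submodule (X.presheaf.stalk x) ((RefPow.refPow F n).presheaf.stalk x))) (h : n ≤ k) :
    ∃ b' ∈ IsLocalRing.maximalIdeal (X.presheaf.stalk x) •
        (⊤ : Submodule (X.presheaf.stalk x) ((RefPow.refPow F k).presheaf.stalk x)),
      RefHull.stalkMapₗ (leg U s hF hU k) x b' = RefHull.stalkMapₗ (leg U s hF hU n) x b := by
  induction k, h using Nat.le_induction with
  | base => exact ⟨b, hb, rfl⟩
  | succ k _ ih =>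
    obtain ⟨b', hb', he⟩ := ih
    refine ⟨RefHull.stalkMapₗ (RefPow.mulBy s k) x b', ?_, ?_⟩
    · have h1 : RefHull.stalkMapₗ (RefPow.mulBy s k) x b' ∈
          (IsLocalRing.maximalIdeal (X.presheaf.stalk x) • (⊤ : Submodule (X.presheaf.stalk x)
            ((RefPow.refPow F k).presheaf.stalk x))).map (RefHull.stalkMapₗ (RefPow.mulBy s k) x) :=
        Submodule.mem_map_of_mem hb'
      rw [Submodule.map_smul''] at h1
      exact Submodule.smul_mono le_rfl le_top h1
    · rw [← stalkMapₗ_comp_apply, mulBy_leg, he]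

include hF hU in
/-- If the inclusion is affine, missing points kill powers of `s`. -/
theorem exists_sigma_mem (hX : Pi1.IsNormalScheme X) {V : X.Opens} (hV : IsAffineOpen V)
    (hA : IsAffineOpen (tr U V)) {x : X} (hxV : x ∈ V) (hx : x ∉ U) :
    ∃ n : ℕ, 0 < n ∧ sigma s n x ∈ IsLocalRing.maximalIdeal (X.presheaf.stalk x) •
      (⊤ : Submodule (X.presheaf.stalk x) ((RefPow.refPow F n).presheaf.stalk x)) := by
  by_cases hη : genericPoint X ∈ U
  swap
  · refine ⟨1, one_pos, ?_⟩
    rw [← sec1_eq_sigma s x, sec1_eq_zero U s hU hF hη x]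
    exact zero_mem _
  have hspan : Ideal.span (resTr U V '' {f | X.basicOpen f ≤ U}) = ⊤ := by
    rw [← hA.self_le_iSup_basicOpen_iff]
    intro y hy
    obtain ⟨f, hf, hyf⟩ := hV.exists_basicOpen_le (V := U) ⟨y, ((mem_tr_iff U).mp hy).1⟩
      ((mem_tr_iff U).mp hy).2
    refine Opens.mem_iSup.mpr ⟨⟨_, f, hf, rfl⟩, ?_⟩
    rw [Scheme.basicOpen_res]
    exact ⟨hy, hyf⟩
  suffices H : ∀ a ∈ Ideal.span (resTr U V '' {f | X.basicOpen f ≤ U}), ∀ c : Γ(X, tr U V),
      ∃ n : ℕ, ∃ b ∈ IsLocalRing.maximalIdeal (X.presheaf.stalk x) •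
        (⊤ : Submodule (X.presheaf.stalk x) ((RefPow.refPow F n).presheaf.stalk x)),
        RefHull.stalkMapₗ (leg U s hF hU n) x b = trGerm U V x hxV (c * a) by
    obtain ⟨n, b, hb, he⟩ := H 1 (hspan ▸ trivial) 1
    obtain ⟨b', hb', he'⟩ := exists_leg_lift U s hF hU n (n + 1) x b hb (Nat.le_succ n)
    refine ⟨n + 1, Nat.succ_pos n, ?_⟩
    have : b' = sigma s (n + 1) x := leg_injective U s hF hU hη (n + 1) x (by
      rw [he', he, leg_sigma, stalkMapₗ_unitO_one U hxV, one_mul])
    exact this ▸ hb'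
  intro a ha
  induction ha using Submodule.span_induction with
  | mem a ha =>
    obtain ⟨f, hf, rfl⟩ := ha
    intro c
    obtain ⟨n, b, hb⟩ := exists_leg_eq U s hF hU hX hη x (trGerm U V x hxV c)
    refine ⟨n, X.presheaf.germ V x hxV f • b, Submodule.smul_mem_smul
      ((IsLocalRing.mem_maximalIdeal _).mpr fun hu => hx (hf ((X.mem_basicOpen _ x hxV).mpr hu)))
      trivial, ?_⟩
    rw [map_smul, hb, trGerm_smul, mul_comm]
  | zero => exact fun c => ⟨0, 0, zero_mem _, by rw [map_zero, mul_zero, map_zero]⟩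
  | add a a' _ _ iha iha' =>
    intro c
    obtain ⟨n, b, hb, he⟩ := iha c
    obtain ⟨n', b', hb', he'⟩ := iha' c
    obtain ⟨d, hd, hde⟩ := exists_leg_lift U s hF hU n (n + n') x b hb (Nat.le_add_right n n')
    obtain ⟨d', hd', hde'⟩ := exists_leg_lift U s hF hU n' (n + n') x b' hb' (Nat.le_add_left n' n)
    exact ⟨n + n', d + d', add_mem hd hd', by rw [map_add, hde, hde', he, he', mul_add, map_add]⟩
  | smul e a _ iha =>
    intro c
    rw [smul_eq_mul, ← mul_assoc]
    exact iha (c * e)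

end Groth.Agent.H29Ref
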