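import Groth.Agent.H29Ref.RefPow

/-!
# Sections over the locus where a section generates as a colimit of reflexive powers
-/

set_option autoImplicit false
set_option maxHeartbeats 400000

universe u

open CategoryTheory CategoryTheory.Limits AlgebraicGeometry Opposite TopologicalSpace

namespace Groth.Agent.H29Ref

variable {X : Scheme.{u}} (U : X.Opens)

/-- The direct image of the structure sheaf of an open. -/
noncomputable abbrev pushO : X.Modules :=
  (Scheme.Modules.pushforward U.ι).obj ((Coh.structureModule X).restrict U.ι)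

/-- Restriction of functions to an open. -/
noncomputable abbrev unitO : Coh.structureModule X ⟶ pushO U :=
  (Scheme.Modules.restrictAdjunction U.ι).unit.app (Coh.structureModule X)

theorem image_preimage_le' (W : X.Opens) : U.ι ''ᵁ (U.ι ⁻¹ᵁ W) ≤ W := U.ι.image_preimage_le W

theorem mem_image_preimage {W : X.Opens} {x : X} (hW : x ∈ W) (hU : x ∈ U) :
    x ∈ U.ι ''ᵁ (U.ι ⁻¹ᵁ W) := ⟨⟨x, hU⟩, hW, rfl⟩

theorem unitO_germ_eq {x : X} {W W' : X.Opens} (h : W' ≤ W) (m : Γ(Coh.structureModule X, W)) :
    (pushO U).presheaf.map (homOfLE h).op ((unitO U).app W m) =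
      (unitO U).app W' ((Coh.structureModule X).presheaf.map (homOfLE h).op m) :=
  (congr($((unitO U).mapPresheaf.naturality (homOfLE h).op) m)).symm

/-- On `U` the restriction map is bijective on stalks. -/
theorem bijective_unitO {x : X} (hx : x ∈ U) :
    Function.Bijective (RefHull.stalkMapₗ (unitO U) x) := by
  constructor
  · rw [injective_iff_map_eq_zero]
    intro a ha
    obtain ⟨W, hW, m, rfl⟩ := TopCat.Presheaf.exists_germ_eq (Coh.structureModule X).presheaf a
    rw [RefHull.stalkMapₗ_germ] at ha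
    obtain ⟨W', hW', i, j, h⟩ := TopCat.Presheaf.germ_eq (pushO U).presheaf x hW hW _ 0
      (ha.trans (map_zero _).symm)
    have h0 : (Coh.structureModule X).presheaf.map
        (homOfLE ((image_preimage_le' U W').trans i.le)).op m = 0 := by
      have h1 : (pushO U).presheaf.map i.op ((unitO U).app W m) = 0 := h.trans (map_zero _)
      refine Eq.trans ?_ h1
      show _ = (Coh.structureModule X).presheaf.map _ ((Coh.structureModule X).presheaf.map
        (homOfLE (image_preimage_le' U W)).op m)
      rw [← ConcreteCategory.comp_apply, ← Functor.map_comp]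
      rfl
    rw [← germ_res (Coh.structureModule X) ((image_preimage_le' U W').trans i.le) x
      (mem_image_preimage U hW' hx) m, h0, map_zero]
  · intro v
    obtain ⟨W, hW, t, rfl⟩ := TopCat.Presheaf.exists_germ_eq (pushO U).presheaf v
    refine ⟨(Coh.structureModule X).presheaf.germ (U.ι ''ᵁ (U.ι ⁻¹ᵁ W)) x
      (mem_image_preimage U hW hx) t, ?_⟩
    rw [RefHull.stalkMapₗ_germ, ← germ_res (pushO U) (image_preimage_le' U W) x
      (mem_image_preimage U hW hx) t]
    refine congrArg _ ?_
    rfl

/-- Off a nonempty `U` there are no sections. -/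
theorem subsingleton_pushO_stalk (hU : ∀ y : X, y ∉ U) (x : X) :
    Subsingleton ((pushO U).presheaf.stalk x) := by
  refine subsingleton_of_forall_eq 0 fun v => ?_
  obtain ⟨W, hW, t, rfl⟩ := TopCat.Presheaf.exists_germ_eq (pushO U).presheaf v
  have h : t = 0 := sec_ext (Coh.structureModule X) (U := U.ι ''ᵁ (U.ι ⁻¹ᵁ W)) (s := t) (t := 0)
    fun y hy => absurd (by obtain ⟨z, -, rfl⟩ := hy; exact z.2) (hU y)
  rw [h, map_zero]

/-- Sections of the direct image are determined at the generic point. -/
theorem sp_pushO_injective [IsIntegral X] (hη : genericPoint X ∈ U) (x : X) :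
    Function.Injective (sp (pushO U) x) := by
  rw [injective_iff_map_eq_zero]
  intro v hv
  obtain ⟨W, hW, t, rfl⟩ := TopCat.Presheaf.exists_germ_eq (pushO U).presheaf v
  rw [sp_germ] at hv
  obtain ⟨W', hW', i, j, h⟩ := TopCat.Presheaf.germ_eq (pushO U).presheaf (genericPoint X)
    (genericPoint_mem hW) (genericPoint_mem hW) t 0 (hv.trans (map_zero _).symm)
  haveI : Nonempty ↥(U.ι ''ᵁ (U.ι ⁻¹ᵁ W')) := ⟨⟨_, mem_image_preimage U hW' hη⟩⟩
  have h1 : X.presheaf.map (homOfLE (U.ι.image_mono (fun z hz => i.le hz :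
      U.ι ⁻¹ᵁ W' ≤ U.ι ⁻¹ᵁ W))).op t = 0 := h.trans (map_zero _)
  have h2 : (t : Γ(X, U.ι ''ᵁ (U.ι ⁻¹ᵁ W))) = 0 :=
    (map_eq_zero_iff _ (map_injective_of_isIntegral (U := U.ι ''ᵁ (U.ι ⁻¹ᵁ W'))
      (H := ⟨⟨_, mem_image_preimage U hW' hη⟩⟩) X
      (homOfLE (U.ι.image_mono (fun z hz => i.le hz : U.ι ⁻¹ᵁ W' ≤ U.ι ⁻¹ᵁ W))))).mp h1
  have h3 : t = 0 := h2
  rw [h3, map_zero]

variable [IsIntegral X] [IsLocallyNoetherian X] {F : X.Modules} (s : Coh.structureModule X ⟶ F)
  (hF : RefHull.IsRef1 F) (hU : (U : Set X) = RefPow.isoLocus s)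

include hF hU in
theorem isIso_restrict_sPow (n : ℕ) :
    IsIso ((Scheme.Modules.restrictFunctor U.ι).map (RefPow.sPow s n)) :=
  isIso_restrict_of_bijective U _ fun _ hx => bijective_sPow s hF (hU ▸ hx) n

/-- Dividing by the power of `s`. -/
noncomputable def leg (n : ℕ) : RefPow.refPow F n ⟶ pushO U :=
  letI := isIso_restrict_sPow U s hF hU n
  (Scheme.Modules.restrictAdjunction U.ι).unit.app (RefPow.refPow F n) ≫
    (Scheme.Modules.pushforward U.ι).map (inv ((Scheme.Modules.restrictFunctor U.ι).map (RefPow.sPow s n)))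

theorem sPow_leg (n : ℕ) : RefPow.sPow s n ≫ leg U s hF hU n = unitO U := by
  letI := isIso_restrict_sPow U s hF hU n
  have h := (Scheme.Modules.restrictAdjunction U.ι).unit.naturality (RefPow.sPow s n)
  simp only [Functor.id_map, Functor.comp_map] at h
  rw [leg, ← Category.assoc, h, Category.assoc, ← Functor.map_comp, IsIso.hom_inv_id]
  simp

theorem mulBy_leg (n : ℕ) : RefPow.mulBy s n ≫ leg U s hF hU (n + 1) = leg U s hF hU n := by
  letI := isIso_restrict_sPow U s hF hU n
  letI := isIso_restrict_sPow U s hF hU (n + 1)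
  have h := (Scheme.Modules.restrictAdjunction U.ι).unit.naturality (RefPow.mulBy s n)
  simp only [Functor.id_map, Functor.comp_map] at h
  rw [leg, leg, ← Category.assoc, h, Category.assoc, ← Functor.map_comp]
  congr 2
  rw [IsIso.comp_inv_eq, IsIso.eq_inv_comp, ← Functor.map_comp, ← RefPow.sPow_succ]

theorem leg_zero : leg U s hF hU 0 = unitO U := by
  rw [← sPow_leg U s hF hU 0, RefPow.sPow_zero]
  exact (Category.id_comp _).symm

theorem leg_sigma (n : ℕ) (x : X) :
    RefHull.stalkMapₗ (leg U s hF hU n) x (sigma s n x) = RefHull.stalkMapₗ (unitO U) x (oneStalk x) := by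
  rw [sigma, ← stalkMapₗ_comp_apply, sPow_leg]

theorem leg_injective (hη : genericPoint X ∈ U) (n : ℕ) (x : X) :
    Function.Injective (RefHull.stalkMapₗ (leg U s hF hU n) x) := by
  have hr := isRef1_refPow hF n
  have hgen : Function.Bijective (RefHull.stalkMapₗ (leg U s hF hU n) (genericPoint X)) := by
    refine (Function.Bijective.of_comp_iff _ (bijective_sPow s hF (hU ▸ hη) n)).mp ?_
    refine (congrArg Function.Bijective (funext fun v => ?_)).mp (bijective_unitO U hη)
    rw [Function.comp_apply, ← stalkMapₗ_comp_apply, sPow_leg]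
  intro a b hab
  refine sp_injective _ hr.1.1 (isTorsionFree_of_isReflexive _ hr.1 hr.2.1) x (hgen.1 ?_)
  rw [← sp_stalkMap, ← sp_stalkMap, hab]

theorem exists_leg_eq (hX : Pi1.IsNormalScheme X) (hη : genericPoint X ∈ U) (x : X)
    (v : (pushO U).presheaf.stalk x) :
    ∃ (n : ℕ) (b : (RefPow.refPow F n).presheaf.stalk x), RefHull.stalkMapₗ (leg U s hF hU n) x b = v := by
  classical
  obtain ⟨W, hW, t, rfl⟩ := TopCat.Presheaf.exists_germ_eq (pushO U).presheaf v
  obtain ⟨V, hV, hxV, hVW⟩ := exists_isAffineOpen_mem_and_subset (X := X) (x := x) (U := W) hW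
  replace hVW : V ≤ W := hVW
  have hηV : genericPoint X ∈ V := genericPoint_mem hxV
  have hηs : genericPoint X ∈ RefPow.isoLocus s := hU ▸ hη
  obtain ⟨w, hw⟩ := (bijective_unitO U hη).2
    ((pushO U).presheaf.germ W _ (genericPoint_mem hW) t)
  obtain ⟨c, rfl⟩ := (bijective_smul_oneStalk (genericPoint X)).2 w
  have hbad : {z | z ∈ V ∧ z ∉ U ∧ Order.coheight z = 1}.Finite :=
    (S2877.finite_coheight_one (C := (U : Set X)ᶜ) U.2.isClosed_compl (fun h => h hη) hV).subset
      fun z hz => ⟨hz.2.1, hz.1, hz.2.2⟩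
  let n : ℕ := hbad.toFinset.sup fun z => (- Scheme.ord (c : X.functionField) z).toNat
  have hr := isRef1_refPow hF n
  obtain ⟨m, hm⟩ := exists_section hX _ hr.1 hr.2.1 V hηV (c • sigma s n (genericPoint X))
    fun z hz hd => by
      have hz1 : Order.coheight z = 1 := by
        rw [ringKrullDim_stalk_eq_coheight] at hd
        exact WithBot.coe_injective hd
      by_cases hzU : z ∈ U
      · obtain ⟨u, hu⟩ := (bijective_unitO U hzU).2 ((pushO U).presheaf.germ W z (hVW hz) t)
        obtain ⟨r, rfl⟩ := (bijective_smul_oneStalk z).2 u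
        refine ⟨r • sigma s n z, ?_⟩
        rw [sp_smul, sp_sigma]
        congr 1
        refine (bijective_smul_oneStalk (genericPoint X)).1 ((bijective_unitO U hη).1 ?_)
        simp only
        rw [hw, ← sp_germ (pushO U) z (hVW hz) t, ← hu, sp_stalkMap, sp_smul, sp_oneStalk]
      · by_cases hc : c = 0
        · exact ⟨0, by rw [map_zero, hc, zero_smul]⟩
        obtain ⟨g, hg⟩ := exists_isStalkGen_of_isRef1 hX _ hr z hz1
        have hσ := sigma_generic_ne_zero s hF hηs n
        have hv : c • sigma s n (genericPoint X) ≠ 0 := fun h =>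
          hσ ((smul_eq_zero_iff_right' c hc _).mp h)
        obtain ⟨φ, hφ⟩ := hg.exists_smul (c • sigma s n (genericPoint X))
        have hφ0 : (φ : X.functionField) ≠ 0 := fun h => hv (by
          rw [hφ, show φ = 0 from h, zero_smul])
        have hle : (- Scheme.ord (c : X.functionField) z).toNat ≤ n :=
          Finset.le_sup (f := fun z => (- Scheme.ord (c : X.functionField) z).toNat)
            (hbad.mem_toFinset.mpr ⟨hz, hzU, hz1⟩)
        have hpos := one_le_secO s hX hF hηs hz1 (fun h => hzU (hU.ge h))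
        have hord : 0 ≤ Scheme.ord (φ : X.functionField) z := by
          rw [← secO_eq hz1 hg hv (φ := φ) hφ]
          have h1 := secO_smul hz1 hg hσ (f := (c : X.functionField)) hc
          rw [secO_sigma s hX hF hηs hz1 n] at h1
          rw [h1]
          have h2 : (n : ℤ) * 1 ≤ n * secO F z (sigma s 1 (genericPoint X)) :=
            mul_le_mul_of_nonneg_left (by rw [← sec1_eq_sigma]; exact hpos) (Int.natCast_nonneg n)
          omega
        obtain ⟨a, ha⟩ := (H26CDiv.ord_nonneg_iff_reg (fun y => (hX y).2) hz1 hφ0).mp hord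
        refine ⟨a • g, ?_⟩
        rw [sp_smul, hφ]
        exact congrArg (· • sp _ z g) ha
  refine ⟨n, (RefPow.refPow F n).presheaf.germ V x hxV m, sp_pushO_injective U hη x ?_⟩
  rw [sp_stalkMap, sp_germ, hm, sp_germ, ← hw]
  show RefHull.stalkMapₗ (leg U s hF hU n) (genericPoint X) (c • sigma s n (genericPoint X)) =
    RefHull.stalkMapₗ (unitO U) (genericPoint X) (c • oneStalk (genericPoint X))
  rw [map_smul, map_smul, leg_sigma]
where
  smul_eq_zero_iff_right' {M : X.Modules} (c : X.presheaf.stalk (genericPoint X)) (hc : c ≠ 0)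
      (v : M.presheaf.stalk (genericPoint X)) : c • v = 0 ↔ v = 0 := by
    letI := (isField_generic (X := X)).toField
    exact smul_eq_zero_iff_right hc

end Groth.Agent.H29Ref
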